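import Mathlib
import Cfsg.Prelude.Def_Spor_Ru
import Cfsg.Agent.Lib.RuMin.Checks
import Cfsg.Agent.Lib.Compute.PermSimple

/-!
# The Rudvalis group: the abstract final step

From the facts established by the stabiliser chain computation (`ru_final`'s hypotheses) we get the centre, the order and
simplicity.
-/

set_option autoImplicit false
set_option linter.unusedVariables false
set_option linter.unusedSimpArgs false
set_option linter.unusedSectionVars false

namespace Cfsg.Agent.Lib.RuAut

open Cfsg.Spor Cfsg.Agent.Lib.RuMin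

/-- Multiplication by `i` is a bijection of the lattice. -/
def ruIPerm : Equiv.Perm ruLattice where
  toFun := ruI
  invFun := fun v => ruI (ruI (ruI v))
  left_inv := by
    intro v
    apply Subtype.ext
    funext p
    simp only [ruI, Pi.smul_apply, smul_eq_mul, gI]
    ext <;> simp
  right_inv := by
    intro v
    apply Subtype.ext
    funext p
    simp only [ruI, Pi.smul_apply, smul_eq_mul, gI]
    ext <;> simp

/-- Multiplication by `i` as an automorphism. -/
def iota : fourRu := ⟨ruIPerm, by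
  refine ⟨fun v w => ?_, fun v => rfl, fun v => ?_⟩
  · apply Subtype.ext
    funext p
    simp only [ruIPerm, Equiv.coe_fn_mk, ruI, AddMemClass.coe_add, Pi.add_apply, Pi.smul_apply, smul_eq_mul, mul_add]
  · simp only [ruIPerm, Equiv.coe_fn_mk, ruI, ruNorm, Pi.smul_apply, smul_eq_mul, Zsqrtd.norm_mul]
    have : gI.norm = 1 := by simp [gI, Zsqrtd.norm]
    simp [this]⟩

/-- The vectors of stored norm 16 of the lattice. -/
def minSet : Set ruLattice := {x | ruNorm (x : RuVec) = 16}

/-- The Hermitian product of two lattice vectors. -/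
def hp (x y : ruLattice) : GaussianInt := herm (x : RuVec) (y : RuVec)

section Abstract

variable {G M : Type*} [Group G] [MulAction G M] [Finite G] [Finite M]

/-- Powers of an element of order dividing four. -/
theorem pow_three_mul_smul {ι : G} (hι4 : ι ^ 4 = 1) (k : ℕ) (w : M) : ι ^ (3 * k) • ι ^ k • w = w := by
  rw [smul_smul, ← pow_add]
  have e : 3 * k + k = 4 * k := by ring
  rw [e, pow_mul, hι4, one_pow, one_smul]

theorem pow_mod_four {ι : G} (hι4 : ι ^ 4 = 1) (k : ℕ) : ∃ j : Fin 4, ι ^ k = ι ^ (j : ℕ) := by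
  refine ⟨⟨k % 4, Nat.mod_lt _ (by norm_num)⟩, ?_⟩
  exact pow_eq_pow_mod k hι4

/-- The dichotomy for the orbit of a normal subgroup. -/
theorem orbit_dichotomy [MulAction.IsPretransitive G M] (ι : G) (hι : ∀ g : G, g * ι = ι * g) (hι4 : ι ^ 4 = 1)
    (v : M) (O₀ O₁ : Set M)
    (hcov : ∀ w : M, ∃ k : ℕ, ι ^ k • w = v ∨ ι ^ k • w ∈ O₀ ∨ ι ^ k • w ∈ O₁)
    (hO₀ : ∀ w ∈ O₀, ι • w ∈ O₀)
    (htr0 : ∀ w ∈ O₀, ∀ w' ∈ O₀, ∃ f : G, f • v = v ∧ f • w = w')
    (htr1 : ∀ w ∈ O₁, ∀ w' ∈ O₁, ∃ f : G, f • v = v ∧ f • w = w')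
    (hinj : ∀ (j k : Fin 4), ∀ w ∈ O₁, ∀ w' ∈ O₁, ι ^ (j : ℕ) • w = ι ^ (k : ℕ) • w' → j = k)
    (hM : Nat.card M = 16240) (h0 : O₀.ncard = 7020) (h1 : O₁.ncard = 2304)
    (N : Subgroup G) [N.Normal] (hιN : ι ∈ N) :
    (∀ n ∈ N, ∃ k : ℕ, n • v = ι ^ k • v) ∨ MulAction.IsPretransitive N M := by
  classical
  set B : Set M := MulAction.orbit N v with hB
  have hmemB : ∀ {w : M}, w ∈ B ↔ ∃ n ∈ N, n • v = w := by
    intro w
    constructor
    · rintro ⟨n, rfl⟩
      exact ⟨n.1, n.2, rfl⟩
    · rintro ⟨n, hn, rfl⟩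
      exact ⟨⟨n, hn⟩, rfl⟩
  have hvB : v ∈ B := hmemB.2 ⟨1, N.one_mem, one_smul _ _⟩
  have hblock : MulAction.IsBlock G B := MulAction.IsBlock.orbit_of_normal v
  have hdvd : B.ncard ∣ 16240 := by
    rw [← hM]
    exact hblock.ncard_dvd_card ⟨v, hvB⟩
  have hinvH : ∀ f : G, f • v = v → ∀ w ∈ B, f • w ∈ B := by
    intro f hf w hw
    obtain ⟨n, hn, rfl⟩ := hmemB.1 hw
    refine hmemB.2 ⟨f * n * f⁻¹, ‹N.Normal›.conj_mem n hn f, ?_⟩
    rw [mul_smul, mul_smul]
    congr 1
    have : f⁻¹ • v = v := by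
      conv_lhs => rw [← hf]
      rw [inv_smul_smul]
    rw [this]
  have hιB : ∀ (k : ℕ), ∀ w ∈ B, ι ^ k • w ∈ B := by
    intro k w hw
    obtain ⟨n, hn, rfl⟩ := hmemB.1 hw
    refine hmemB.2 ⟨ι ^ k * n, N.mul_mem (N.pow_mem hιN k) hn, mul_smul _ _ _⟩
  -- the line
  set P : Set M := Set.range (fun j : Fin 4 => ι ^ (j : ℕ) • v) with hP
  have hPcard : P.ncard ≤ 4 := by
    have := Set.ncard_image_le (f := fun j : Fin 4 => ι ^ (j : ℕ) • v) (s := Set.univ) Set.finite_univ
    rw [Set.image_univ, Set.ncard_univ] at this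
    simpa using this
  have hback : ∀ (k : ℕ) (w : M), ι ^ k • w = v → w ∈ P := by
    intro k w hw
    obtain ⟨j, hj⟩ := pow_mod_four hι4 (3 * k)
    refine ⟨j, ?_⟩
    simp only
    rw [← hj, ← hw, pow_three_mul_smul hι4]
  have hfin : ∀ s : Set M, s.Finite := fun s => Set.toFinite s
  by_cases hA : ∃ w ∈ B, w ∈ O₀
  · obtain ⟨w₀, hw₀, hw₀O⟩ := hA
    have hsub0 : O₀ ⊆ B := by
      intro w' hw'
      obtain ⟨f, hf, hfw⟩ := htr0 w₀ hw₀O w' hw'
      rw [← hfw]
      exact hinvH f hf _ hw₀
    by_cases hC : ∃ w ∈ B, w ∈ O₁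
    · -- both: the whole set
      obtain ⟨w₁, hw₁, hw₁O⟩ := hC
      have hsub1 : O₁ ⊆ B := by
        intro w' hw'
        obtain ⟨f, hf, hfw⟩ := htr1 w₁ hw₁O w' hw'
        rw [← hfw]
        exact hinvH f hf _ hw₁
      right
      have hall : ∀ w : M, w ∈ B := by
        intro w
        obtain ⟨k, hk⟩ := hcov w
        have h3 := pow_three_mul_smul hι4 k w
        rw [← h3]
        rcases hk with hk | hk | hk
        · rw [hk]
          exact hιB _ _ hvB
        · exact hιB _ _ (hsub0 hk)
        · exact hιB _ _ (hsub1 hk)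
      refine ⟨fun x y => ?_⟩
      obtain ⟨n₁, hn₁, rfl⟩ := hmemB.1 (hall x)
      obtain ⟨n₂, hn₂, rfl⟩ := hmemB.1 (hall y)
      refine ⟨⟨n₂ * n₁⁻¹, N.mul_mem hn₂ (N.inv_mem hn₁)⟩, ?_⟩
      show (n₂ * n₁⁻¹) • n₁ • v = n₂ • v
      rw [mul_smul, inv_smul_smul]
    · -- only the first orbit
      exfalso
      push Not at hC
      have hO₀pow : ∀ (k : ℕ), ∀ w ∈ O₀, ι ^ k • w ∈ O₀ := by
        intro k
        induction k with
        | zero =>
          intro w hw
          rwa [pow_zero, one_smul]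
        | succ n ih =>
          intro w hw
          rw [pow_succ', mul_smul]
          exact hO₀ _ (ih w hw)
      have hup : B ⊆ P ∪ O₀ := by
        intro w hw
        obtain ⟨k, hk⟩ := hcov w
        rcases hk with hk | hk | hk
        · exact Or.inl (hback k w hk)
        · right
          rw [← pow_three_mul_smul hι4 k w]
          exact hO₀pow _ _ hk
        · exact (hC _ (hιB k w hw) hk).elim
      have h3 : B.ncard ≤ 4 + 7020 := by
        calc B.ncard ≤ (P ∪ O₀).ncard := Set.ncard_le_ncard hup (hfin _)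
          _ ≤ P.ncard + O₀.ncard := Set.ncard_union_le _ _
          _ ≤ 4 + 7020 := by omega
      have h4 : 7020 ≤ B.ncard := by
        rw [← h0]
        exact Set.ncard_le_ncard hsub0 (hfin _)
      obtain ⟨c, hc⟩ := hdvd
      generalize B.ncard = d at h3 h4 hc
      interval_cases d <;> omega
  · push Not at hA
    by_cases hC : ∃ w ∈ B, w ∈ O₁
    · -- only the second orbit
      exfalso
      obtain ⟨w₁, hw₁, hw₁O⟩ := hC
      have hsub1 : O₁ ⊆ B := by
        intro w' hw'
        obtain ⟨f, hf, hfw⟩ := htr1 w₁ hw₁O w' hw'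
        rw [← hfw]
        exact hinvH f hf _ hw₁
      let F : Fin 4 × O₁ → M := fun t => ι ^ (t.1 : ℕ) • t.2.1
      have hFinj : Function.Injective F := by
        rintro ⟨j, w, hw⟩ ⟨k, w', hw'⟩ e
        have e' : ι ^ (j : ℕ) • w = ι ^ (k : ℕ) • w' := e
        have hjk := hinj j k w hw w' hw' e'
        subst hjk
        have e2 : w = w' := smul_left_cancel _ e'
        subst e2
        rfl
      set O₁' : Set M := Set.range F with hO₁'
      have hcard' : O₁'.ncard = 9216 := by
        rw [hO₁', ← Nat.card_coe_set_eq, Nat.card_range_of_injective hFinj, Nat.card_prod, Nat.card_coe_set_eq, h1]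
        simp
      have hsub' : O₁' ⊆ B := by
        rintro _ ⟨⟨j, w, hw⟩, rfl⟩
        exact hιB _ _ (hsub1 hw)
      have hup : B ⊆ P ∪ O₁' := by
        intro w hw
        obtain ⟨k, hk⟩ := hcov w
        rcases hk with hk | hk | hk
        · exact Or.inl (hback k w hk)
        · exact (hA _ (hιB k w hw) hk).elim
        · right
          obtain ⟨j, hj⟩ := pow_mod_four hι4 (3 * k)
          refine ⟨(j, ⟨_, hk⟩), ?_⟩
          show ι ^ (j : ℕ) • ι ^ k • w = w
          rw [← hj, pow_three_mul_smul hι4]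
      have h3 : B.ncard ≤ 4 + 9216 := by
        calc B.ncard ≤ (P ∪ O₁').ncard := Set.ncard_le_ncard hup (hfin _)
          _ ≤ P.ncard + O₁'.ncard := Set.ncard_union_le _ _
          _ ≤ 4 + 9216 := by omega
      have h4 : 9216 ≤ B.ncard := by
        rw [← hcard']
        exact Set.ncard_le_ncard hsub' (hfin _)
      obtain ⟨c, hc⟩ := hdvd
      generalize B.ncard = d at h3 h4 hc
      interval_cases d <;> omega
    · -- the line
      push Not at hC
      left
      intro n hn
      have hw : n • v ∈ B := hmemB.2 ⟨n, hn, rfl⟩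
      obtain ⟨k, hk⟩ := hcov (n • v)
      rcases hk with hk | hk | hk
      · refine ⟨3 * k, ?_⟩
        have h5 := pow_three_mul_smul hι4 k (n • v)
        rw [hk] at h5
        exact h5.symm
      · exact (hA _ (hιB k _ hw) hk).elim
      · exact (hC _ (hιB k _ hw) hk).elim

/-- A transitive normal subgroup contains elements of exponent `29`. -/
theorem mem_of_transitive (N : Subgroup G) [N.Normal] [MulAction.IsPretransitive N M] [Nonempty M] (hM : Nat.card M = 16240)
    (hG : Nat.card G = 583704576000) {x : G} (hx : x ^ 29 = 1) : x ∈ N := by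
  have hdvd : Nat.card M ∣ Nat.card N := by
    obtain ⟨w⟩ := (inferInstance : Nonempty M)
    have h1 := MulAction.index_stabilizer (G := N) (x := w)
    have h2 : MulAction.orbit N w = Set.univ := MulAction.orbit_eq_univ N w
    rw [h2, Set.ncard_univ] at h1
    rw [← h1]
    exact Subgroup.index_dvd_card _
  have h29 : 29 ∣ Nat.card N := by
    rw [hM] at hdvd
    exact Dvd.dvd.trans (by norm_num) hdvd
  have hidx : ¬ 29 ∣ N.index := by
    intro hi
    have h1 := Subgroup.card_mul_index N
    rw [hG] at h1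
    obtain ⟨c, hc⟩ := h29
    obtain ⟨d, hd⟩ := hi
    rw [hc, hd] at h1
    have h2 : 841 * (c * d) = 583704576000 := by
      rw [← h1]
      ring
    omega
  have hord : orderOf x ∣ 29 := orderOf_dvd_of_pow_eq_one hx
  have hcop : Nat.Coprime N.index (orderOf x) := by
    have h3 : Nat.Coprime N.index 29 := ((Nat.Prime.coprime_iff_not_dvd (by norm_num)).2 hidx).symm
    exact Nat.Coprime.coprime_dvd_right hord h3
  exact Cfsg.Agent.Lib.Compute.PermSimple.mem_of_pow_mem_coprime (Subgroup.pow_index_mem N x) hcop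

end Abstract

/-- Applying an element of the group to a vector of the lattice. -/
abbrev ap (f : fourRu) (w : ruLattice) : ruLattice := (f : Equiv.Perm ruLattice) w

theorem ap_mul (f g : fourRu) (w : ruLattice) : ap (f * g) w = ap f (ap g w) := rfl

theorem ap_one (w : ruLattice) : ap 1 w = w := rfl

theorem ap_iota (w : ruLattice) : ap iota w = ruI w := rfl

theorem ap_norm (f : fourRu) (w : ruLattice) : ruNorm ((ap f w : ruLattice) : RuVec) = ruNorm (w : RuVec) := f.2.2.2 w

theorem iota_comm (f : fourRu) : f * iota = iota * f := by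
  apply Subtype.ext
  apply Equiv.ext
  intro w
  exact f.2.2.1 w

theorem iota_pow_comm (f : fourRu) (k : ℕ) : f * iota ^ k = iota ^ k * f :=
  (Commute.pow_right (show Commute f iota from iota_comm f) k).eq

theorem mem_minSet_ap (f : fourRu) {w : ruLattice} (hw : w ∈ minSet) : ap f w ∈ minSet := by
  show ruNorm ((ap f w : ruLattice) : RuVec) = 16
  rw [ap_norm]
  exact hw

/-- The action on the vectors of norm `16`. -/
instance actMin : MulAction fourRu minSet where
  smul f w := ⟨ap f w.1, mem_minSet_ap f w.2⟩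
  one_smul w := rfl
  mul_smul f g w := rfl

theorem smul_val (f : fourRu) (w : minSet) : ((f • w : minSet) : ruLattice) = ap f w.1 := rfl

theorem minSet_ne_zero {w : ruLattice} (hw : w ∈ minSet) : w ≠ 0 := by
  rintro rfl
  have h : ruNorm ((0 : ruLattice) : RuVec) = 16 := hw
  simp [ruNorm] at h

theorem gI_mul_gI : gI * gI = -1 := by
  ext <;> simp [gI]

theorem ruI_ruI (w : ruLattice) : ((ruI (ruI w) : ruLattice) : RuVec) = -(w : RuVec) := by
  funext p
  show gI * (gI * (w : RuVec) p) = _
  rw [← mul_assoc, gI_mul_gI]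
  simp

theorem iota_sq_ne : iota ^ 2 ≠ 1 ∨ (∀ w : ruLattice, w ∉ minSet) := by
  by_cases h : ∃ w : ruLattice, w ∈ minSet
  · left
    obtain ⟨w, hw⟩ := h
    intro h1
    have h2 : ap (iota ^ 2) w = w := by rw [h1]; rfl
    have h3 : ((ruI (ruI w) : ruLattice) : RuVec) = w := congrArg Subtype.val h2
    rw [ruI_ruI] at h3
    apply minSet_ne_zero hw
    apply Subtype.ext
    funext p
    have h4 := congrFun h3 p
    have h5 : (2 : GaussianInt) * (w : RuVec) p = 0 := by
      have h6 : -(w : RuVec) p = (w : RuVec) p := h4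
      linear_combination -h6
    have h7 : (2 : GaussianInt) ≠ 0 := by
      intro h8
      have h9 := congrArg Zsqrtd.re h8
      simp at h9
    exact (mul_eq_zero.1 h5).resolve_left h7
  · right
    push Not at h
    exact h

theorem iota_four : iota ^ 4 = 1 := by
  apply Subtype.ext
  apply Equiv.ext
  intro w
  apply Subtype.ext
  have e : ap (iota ^ 4) w = ruI (ruI (ruI (ruI w))) := rfl
  show ((ap (iota ^ 4) w : ruLattice) : RuVec) = w
  rw [e, ruI_ruI, ]
  funext p
  have := ruI_ruI w
  have h2 := congrFun this p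
  show -(((ruI (ruI w)) : ruLattice) : RuVec) p = _
  rw [h2]
  simp

theorem hp_ruI (w x : ruLattice) : hp (ruI w) x = gI * hp w x := by
  simp only [hp, herm, Finset.mul_sum]
  apply Finset.sum_congr rfl
  intro p _
  show (gI * (w : RuVec) p) * _ = _
  ring

theorem hp_iota_pow (k : ℕ) (w x : ruLattice) : hp (ap (iota ^ k) w) x = gI ^ k * hp w x := by
  induction k with
  | zero =>
    rw [pow_zero, pow_zero, one_mul]
    rfl
  | succ n ih =>
    rw [pow_succ', ap_mul, ap_iota, hp_ruI, ih, pow_succ']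
    ring

theorem gI_pow_inj : ∀ j k : Fin 4, gI ^ (j : ℕ) = gI ^ (k : ℕ) → j = k := by
  decide

theorem ap_comm_pow (f : fourRu) (k : ℕ) (w : ruLattice) : ap f (ap (iota ^ k) w) = ap (iota ^ k) (ap f w) := by
  rw [← ap_mul, ← ap_mul, iota_pow_comm]

/-- The abstract final step.  `v` is a vector of stored norm 16, `α` a Gaussian integer.
* `hcard`: the order of the automorphism group.
* `hmin`: there are 16240 vectors of stored norm 16.
* `htrans`: the automorphism group is transitive on them.
* `hclass`: for each vector `w` of norm 16, some `i ^ k w` is `v`, or orthogonal to `v`, or has product `α` with `v`.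
* `h0`, `h1`: there are 7020 vectors orthogonal to `v`, 2304 with product `α` with `v`; the stabiliser of `v` is transitive
  on both sets.
* `hkernel`: an automorphism fixing every line of vectors of norm 16 is a power of `i`.
* `a`, `b`: automorphisms of exponent 29 which together with `i` generate. -/
theorem ru_final (hcard : Nat.card fourRu = 583704576000) (hmin : minSet.ncard = 16240)
    (v : ruLattice) (hv : v ∈ minSet) (α : GaussianInt)
    (htrans : ∀ w ∈ minSet, ∃ f : fourRu, (f : Equiv.Perm ruLattice) v = w)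
    (hclass : ∀ w ∈ minSet, ∃ k : ℕ, ((iota ^ k : fourRu) : Equiv.Perm ruLattice) w = v ∨
      hp (((iota ^ k : fourRu) : Equiv.Perm ruLattice) w) v = 0 ∨
      hp (((iota ^ k : fourRu) : Equiv.Perm ruLattice) w) v = α)
    (h0 : {w ∈ minSet | hp w v = 0}.ncard = 7020)
    (h1 : {w ∈ minSet | hp w v = α}.ncard = 2304)
    (htr0 : ∀ w ∈ minSet, hp w v = 0 → ∀ w' ∈ minSet, hp w' v = 0 →
      ∃ f : fourRu, (f : Equiv.Perm ruLattice) v = v ∧ (f : Equiv.Perm ruLattice) w = w')
    (htr1 : ∀ w ∈ minSet, hp w v = α → ∀ w' ∈ minSet, hp w' v = α →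
      ∃ f : fourRu, (f : Equiv.Perm ruLattice) v = v ∧ (f : Equiv.Perm ruLattice) w = w')
    (hkernel : ∀ f : fourRu, (∀ w ∈ minSet, ∃ k : ℕ, (f : Equiv.Perm ruLattice) w =
      ((iota ^ k : fourRu) : Equiv.Perm ruLattice) w) → ∃ k : ℕ, f = iota ^ k)
    (a b : fourRu) (ha : a ^ 29 = 1) (hb : b ^ 29 = 1)
    (hgen : Subgroup.closure {a, b, iota} = ⊤) :
    Nat.card ↥(Subgroup.center ↥fourRu) = 4 ∧ Nat.card Ru = 145926144000 ∧ IsSimpleGroup Ru := by
  classical
  haveI hfinG : Finite fourRu := Nat.finite_of_card_ne_zero (by rw [hcard]; norm_num)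
  haveI hfinM : Finite minSet := (Set.finite_of_ncard_ne_zero (by rw [hmin]; norm_num)).to_subtype
  -- the sets
  have hα0 : α ≠ 0 := by
    rintro rfl
    rw [h0] at h1
    omega
  have hfix : ∀ (c : fourRu), c ∈ Subgroup.center fourRu → ∀ k : ℕ, ∀ u, u = ap (iota ^ k) (ap c v) → ∀ f : fourRu, ap f v = v → ap f u = u := by
    intro c hc k u hu f hf
    have e1 : ap f (ap c v) = ap c (ap f v) := by
      rw [← ap_mul, ← ap_mul, Subgroup.mem_center_iff.1 hc f]
    rw [hu, ap_comm_pow, e1, hf]
  have hcenter : ∀ c ∈ Subgroup.center fourRu, ∃ k : ℕ, c = iota ^ k := by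
    intro c hc
    have hcw : ap c v ∈ minSet := mem_minSet_ap c hv
    obtain ⟨k, hk⟩ := hclass _ hcw
    have hu : ap (iota ^ k) (ap c v) ∈ minSet := mem_minSet_ap _ hcw
    have hfx := hfix c hc k _ rfl
    have hk' : ap (iota ^ k) (ap c v) = v := by
      rcases hk with hk | hk | hk
      · exact hk
      · exfalso
        have h2 : 1 < {w ∈ minSet | hp w v = 0}.ncard := by rw [h0]; norm_num
        obtain ⟨w', hw', hne⟩ := Set.exists_ne_of_one_lt_ncard h2 (ap (iota ^ k) (ap c v))
        obtain ⟨f, hf, hfw⟩ := htr0 _ hu hk w' hw'.1 hw'.2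
        exact hne (hfw.symm.trans (hfx f hf))
      · exfalso
        have h2 : 1 < {w ∈ minSet | hp w v = α}.ncard := by rw [h1]; norm_num
        obtain ⟨w', hw', hne⟩ := Set.exists_ne_of_one_lt_ncard h2 (ap (iota ^ k) (ap c v))
        obtain ⟨f, hf, hfw⟩ := htr1 _ hu hk w' hw'.1 hw'.2
        exact hne (hfw.symm.trans (hfx f hf))
    have hcv : ap c v = ap (iota ^ (3 * k)) v := by
      conv_rhs => rw [← hk']
      rw [← ap_mul, ← pow_add]
      have e : 3 * k + k = 4 * k := by ring
      rw [e, pow_mul, iota_four, one_pow, ap_one]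
    apply hkernel
    intro w hw
    obtain ⟨f, hf⟩ := htrans w hw
    refine ⟨3 * k, ?_⟩
    show ap c w = ap (iota ^ (3 * k)) w
    rw [← hf]
    show ap c (ap f v) = ap (iota ^ (3 * k)) (ap f v)
    rw [← ap_mul, (Subgroup.mem_center_iff.1 hc f).symm, ap_mul, hcv, ap_comm_pow]
  have hιc : iota ∈ Subgroup.center fourRu := by
    rw [Subgroup.mem_center_iff]
    intro g
    exact iota_comm g
  have hord : orderOf iota = 4 := by
    have h2 : iota ^ 2 ≠ 1 := by
      rcases iota_sq_ne with h2 | h2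
      · exact h2
      · exact (h2 v hv).elim
    have := orderOf_eq_prime_pow (p := 2) (n := 1) (x := iota) (by simpa using h2) (by simpa using iota_four)
    simpa using this
  have hZ : Subgroup.center fourRu = Subgroup.zpowers iota := by
    apply le_antisymm
    · intro c hc
      obtain ⟨k, rfl⟩ := hcenter c hc
      exact Subgroup.pow_mem _ (Subgroup.mem_zpowers iota) k
    · exact Subgroup.zpowers_le.2 hιc
  have hcardZ : Nat.card ↥(Subgroup.center ↥fourRu) = 4 := by
    rw [hZ, Nat.card_zpowers, hord]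
  have hcardRu : Nat.card Ru = 145926144000 := by
    have h2 := Subgroup.card_eq_card_quotient_mul_card_subgroup (Subgroup.center fourRu)
    rw [hcard, hcardZ] at h2
    show Nat.card (fourRu ⧸ Subgroup.center fourRu) = _
    omega
  refine ⟨hcardZ, hcardRu, ?_⟩
  haveI hntRu : Nontrivial Ru := by
    rw [← Finite.one_lt_card_iff_nontrivial, hcardRu]
    norm_num
  -- the action
  haveI htrM : MulAction.IsPretransitive fourRu minSet := by
    refine ⟨fun x y => ?_⟩
    obtain ⟨f, hf⟩ := htrans x.1 x.2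
    obtain ⟨g, hg⟩ := htrans y.1 y.2
    refine ⟨g * f⁻¹, Subtype.ext ?_⟩
    show ap (g * f⁻¹) x.1 = y.1
    rw [← hf, ← hg, ap_mul]
    congr 1
    show (f⁻¹ : fourRu).1 (f.1 v) = v
    simp
  have hcardM : Nat.card minSet = 16240 := by
    rw [Nat.card_coe_set_eq, hmin]
  set v₀ : minSet := ⟨v, hv⟩ with hv₀
  set O₀ : Set minSet := {w | hp w.1 v = 0} with hO₀
  set O₁ : Set minSet := {w | hp w.1 v = α} with hO₁
  have hinjval : Function.Injective (Subtype.val : minSet → ruLattice) := Subtype.val_injective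
  have hO₀card : O₀.ncard = 7020 := by
    rw [← h0, ← Set.ncard_image_of_injective _ hinjval]
    congr 1
    ext w
    constructor
    · rintro ⟨x, hx, rfl⟩
      exact ⟨x.2, hx⟩
    · rintro ⟨hw, hw'⟩
      exact ⟨⟨w, hw⟩, hw', rfl⟩
  have hO₁card : O₁.ncard = 2304 := by
    rw [← h1, ← Set.ncard_image_of_injective _ hinjval]
    congr 1
    ext w
    constructor
    · rintro ⟨x, hx, rfl⟩
      exact ⟨x.2, hx⟩
    · rintro ⟨hw, hw'⟩
      exact ⟨⟨w, hw⟩, hw', rfl⟩
  have hpowval : ∀ (k : ℕ) (w : minSet), ((iota ^ k • w : minSet) : ruLattice) = ap (iota ^ k) w.1 := fun k w => rfl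
  refine ⟨fun N hN => ?_⟩
  set f := QuotientGroup.mk' (Subgroup.center fourRu) with hf
  have hsurj : Function.Surjective f := QuotientGroup.mk'_surjective _
  set N' := N.comap f with hN'
  haveI hN'n : N'.Normal := hN.comap f
  have hιN : iota ∈ N' := by
    show f iota ∈ N
    have e : f iota = 1 := (QuotientGroup.eq_one_iff iota).2 hιc
    rw [e]
    exact N.one_mem
  have hdi := orbit_dichotomy iota iota_comm iota_four v₀ O₀ O₁ ?_ ?_ ?_ ?_ ?_ hcardM hO₀card hO₁card N' hιN
  · rcases hdi with hleft | hright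
    · left
      rw [eq_bot_iff]
      intro x hx
      obtain ⟨n, rfl⟩ := hsurj x
      have hn : n ∈ N' := hx
      have hnZ : n ∈ Subgroup.center fourRu := by
        have hkn : ∃ k : ℕ, n = iota ^ k := by
          apply hkernel
          intro w hw
          obtain ⟨g, hg⟩ := htrans w hw
          have hconj : g⁻¹ * n * g ∈ N' := by
            have := hN'n.conj_mem n hn g⁻¹
            rwa [inv_inv] at this
          obtain ⟨k, hk⟩ := hleft _ hconj
          refine ⟨k, ?_⟩
          have hk' : ap (g⁻¹ * n * g) v = ap (iota ^ k) v := congrArg Subtype.val hk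
          show ap n w = ap (iota ^ k) w
          rw [← hg]
          have e : n * g = g * (g⁻¹ * n * g) := by group
          show ap (n * g) v = ap (iota ^ k) (ap g v)
          rw [e, ap_mul, hk', ap_comm_pow]
        obtain ⟨k, rfl⟩ := hkn
        exact Subgroup.pow_mem _ hιc k
      rw [Subgroup.mem_bot]
      exact (QuotientGroup.eq_one_iff n).2 hnZ
    · right
      haveI := hright
      haveI : Nonempty minSet := ⟨v₀⟩
      have htop : N' = ⊤ := by
        rw [eq_top_iff, ← hgen, Subgroup.closure_le]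
        intro x hx
        simp only [Set.mem_insert_iff, Set.mem_singleton_iff] at hx
        rcases hx with rfl | rfl | rfl
        · exact mem_of_transitive N' hcardM hcard ha
        · exact mem_of_transitive N' hcardM hcard hb
        · exact hιN
      rw [eq_top_iff]
      intro x _
      obtain ⟨n, rfl⟩ := hsurj x
      have : n ∈ N' := by rw [htop]; trivial
      exact this
  · -- covering
    intro w
    obtain ⟨k, hk⟩ := hclass w.1 w.2
    refine ⟨k, ?_⟩
    rcases hk with hk | hk | hk
    · left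
      exact Subtype.ext hk
    · right; left
      exact hk
    · right; right
      exact hk
  · -- the first set is invariant
    intro w hw
    show hp (ruI w.1) v = 0
    rw [hp_ruI]
    have : hp w.1 v = 0 := hw
    rw [this, mul_zero]
  · intro w hw w' hw'
    obtain ⟨g, hg, hg'⟩ := htr0 w.1 w.2 hw w'.1 w'.2 hw'
    exact ⟨g, Subtype.ext hg, Subtype.ext hg'⟩
  · intro w hw w' hw'
    obtain ⟨g, hg, hg'⟩ := htr1 w.1 w.2 hw w'.1 w'.2 hw'
    exact ⟨g, Subtype.ext hg, Subtype.ext hg'⟩
  · intro j k w hw w' hw' e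
    have e' : hp (ap (iota ^ (j : ℕ)) w.1) v = hp (ap (iota ^ (k : ℕ)) w'.1) v :=
      congrArg (fun x : minSet => hp x.1 v) e
    rw [hp_iota_pow, hp_iota_pow] at e'
    have hw1 : hp w.1 v = α := hw
    have hw2 : hp w'.1 v = α := hw'
    rw [hw1, hw2] at e'
    exact gI_pow_inj j k (mul_right_cancel₀ hα0 e')

end Cfsg.Agent.Lib.RuAut
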