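import Mathlib

/-!
# Affine subspaces over the field with two elements, on bit masks

`solve` lists the points of an affine subspace (given by generators) with prescribed zero bits, by elimination.
`noLow` excludes low-weight combinations.
-/

set_option autoImplicit false

namespace Cfsg.Agent.Lib.RuAut

/-- A bit, in kernel-friendly form. -/
def tb (x i : ℕ) : Bool := Nat.beq (Nat.land 1 (Nat.shiftRight x i)) 1

theorem tb_eq (x i : ℕ) : tb x i = x.testBit i := by
  unfold tb Nat.testBit
  show (Nat.beq (1 &&& (x >>> i)) 1) = (1 &&& (x >>> i) != 0)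
  have h : (1 &&& (x >>> i)) = (x >>> i) % 2 := by
    rw [Nat.and_comm, Nat.and_one_is_mod]
  rw [h]
  rcases Nat.mod_two_eq_zero_or_one (x >>> i) with h2 | h2 <;> rw [h2] <;> rfl

@[simp] theorem xor_eq (a b : ℕ) : Nat.xor a b = a ^^^ b := rfl
@[simp] theorem land_eq (a b : ℕ) : Nat.land a b = a &&& b := rfl

/-- `x` is a sum of a sublist of the generators. -/
def InSpan : List ℕ → ℕ → Prop
  | [], x => x = 0
  | g :: gs, x => InSpan gs x ∨ InSpan gs (x ^^^ g)

/-- Clearing a bit with a generator. -/
def fix (g i x : ℕ) : ℕ := bif tb x i then Nat.xor x g else x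

theorem fix_cases (g i x : ℕ) : fix g i x = x ∧ x.testBit i = false ∨ fix g i x = x ^^^ g ∧ x.testBit i = true := by
  unfold fix
  rw [tb_eq]
  cases h : x.testBit i
  · left
    simp
  · right
    simp

theorem inSpan_fix (g i : ℕ) (gs : List ℕ) : ∀ z, InSpan (g :: gs) z →
    InSpan (gs.map (fix g i)) z ∨ InSpan (gs.map (fix g i)) (z ^^^ g) := by
  induction gs with
  | nil =>
    intro z hz
    exact hz
  | cons h gs ih =>
    intro z hz
    simp only [InSpan, List.map_cons] at hz ⊢
    have key : ∀ w, InSpan gs w → InSpan (gs.map (fix g i)) w ∨ InSpan (gs.map (fix g i)) (w ^^^ g) :=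
      fun w hw => ih w (Or.inl hw)
    have key2 : ∀ w, InSpan gs (w ^^^ g) → InSpan (gs.map (fix g i)) w ∨ InSpan (gs.map (fix g i)) (w ^^^ g) :=
      fun w hw => ih w (Or.inr hw)
    rcases fix_cases g i h with ⟨e, -⟩ | ⟨e, -⟩ <;> rw [e]
    · rcases hz with (h1 | h1) | (h1 | h1)
      · rcases key _ h1 with h2 | h2
        · exact Or.inl (Or.inl h2)
        · exact Or.inr (Or.inl h2)
      · rcases key _ h1 with h2 | h2
        · exact Or.inl (Or.inr h2)
        · right; right
          have : z ^^^ g ^^^ h = z ^^^ h ^^^ g := by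
            rw [Nat.xor_assoc, Nat.xor_assoc, Nat.xor_comm g]
          rw [this]
          exact h2
      · rcases key2 _ h1 with h2 | h2
        · exact Or.inl (Or.inl h2)
        · exact Or.inr (Or.inl h2)
      · have e2 : z ^^^ g ^^^ h = z ^^^ h ^^^ g := by
          rw [Nat.xor_assoc, Nat.xor_assoc, Nat.xor_comm g]
        rw [e2] at h1
        rcases key2 _ h1 with h2 | h2
        · exact Or.inl (Or.inr h2)
        · right; right
          rw [e2]
          exact h2
    · rcases hz with (h1 | h1) | (h1 | h1)
      · rcases key _ h1 with h2 | h2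
        · exact Or.inl (Or.inl h2)
        · exact Or.inr (Or.inl h2)
      · rcases key _ h1 with h2 | h2
        · right; right
          have : z ^^^ g ^^^ (h ^^^ g) = z ^^^ h := by
            rw [Nat.xor_comm h g, ← Nat.xor_assoc, Nat.xor_assoc z g g, Nat.xor_self, Nat.xor_zero]
          rw [this]
          exact h2
        · left; right
          rw [← Nat.xor_assoc]
          exact h2
      · rcases key2 _ h1 with h2 | h2
        · exact Or.inl (Or.inl h2)
        · exact Or.inr (Or.inl h2)
      · have e2 : z ^^^ g ^^^ h = z ^^^ h ^^^ g := by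
          rw [Nat.xor_assoc, Nat.xor_assoc, Nat.xor_comm g]
        rw [e2] at h1
        rcases key2 _ h1 with h2 | h2
        · right; right
          have : z ^^^ g ^^^ (h ^^^ g) = z ^^^ h := by
            rw [Nat.xor_comm h g, ← Nat.xor_assoc, Nat.xor_assoc z g g, Nat.xor_self, Nat.xor_zero]
          rw [this]
          exact h2
        · left; right
          rw [← Nat.xor_assoc]
          exact h2

theorem inSpan_bit (i : ℕ) : ∀ (gs : List ℕ) (z : ℕ), (∀ g ∈ gs, g.testBit i = false) → InSpan gs z → z.testBit i = false := by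
  intro gs
  induction gs with
  | nil =>
    intro z _ hz
    have : z = 0 := hz
    simp [this]
  | cons g gs ih =>
    intro z h hz
    rcases hz with hz | hz
    · exact ih z (fun g' hg' => h g' (List.mem_cons_of_mem _ hg')) hz
    · have h1 := ih _ (fun g' hg' => h g' (List.mem_cons_of_mem _ hg')) hz
      rw [Nat.testBit_xor, h g (List.mem_cons_self)] at h1
      simpa using h1

theorem fix_bit {g i : ℕ} (hg : g.testBit i = true) (x : ℕ) : (fix g i x).testBit i = false := by
  rcases fix_cases g i x with ⟨e, h⟩ | ⟨e, h⟩
  · rw [e, h]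
  · rw [e, Nat.testBit_xor, h, hg]
    rfl

theorem log2_bit {m : ℕ} (hm : m ≠ 0) : m.testBit (Nat.log2 m) = true := by
  have h1 : 2 ^ Nat.log2 m ≤ m := Nat.log2_self_le hm
  have h2 : m < 2 ^ (Nat.log2 m + 1) := Nat.lt_log2_self
  rw [Nat.testBit_eq_decide_div_mod_eq]
  have h3 : 1 ≤ m / 2 ^ Nat.log2 m := (Nat.one_le_div_iff (by positivity)).2 h1
  have h4 : m / 2 ^ Nat.log2 m < 2 := by
    apply Nat.div_lt_of_lt_mul
    rw [pow_succ, mul_comm] at h2
    rw [mul_comm]
    exact h2
  have h5 : m / 2 ^ Nat.log2 m = 1 := by omega
  rw [h5]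
  rfl

/-- Elimination on the bits of `Q`: the generators without bits in `Q` and the reduced base point. -/
def elim (Q : ℕ) : ℕ → List ℕ → List ℕ → ℕ → List ℕ × ℕ
  | 0, _, fr, b => (fr, b)
  | _ + 1, [], fr, b => (fr, b)
  | n + 1, g :: gs, fr, b =>
    bif Nat.beq (Nat.land g Q) 0 then elim Q n gs (g :: fr) b
    else elim Q n (gs.map (fix g (Nat.log2 (Nat.land g Q)))) fr (fix g (Nat.log2 (Nat.land g Q)) b)

/-- All the points of an affine space with the property `ok`, put in front of `out`. -/
noncomputable def dfs (ok : ℕ → Bool) (L : List ℕ) : ℕ → List ℕ → List ℕ :=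
  List.rec (fun x out => bif ok x then x :: out else out) (fun g _ ih x out => ih (Nat.xor x g) (ih x out)) L

theorem dfs_nil (ok : ℕ → Bool) (x : ℕ) (out : List ℕ) : dfs ok [] x out = bif ok x then x :: out else out := rfl

theorem dfs_cons (ok : ℕ → Bool) (g : ℕ) (L : List ℕ) (x : ℕ) (out : List ℕ) :
    dfs ok (g :: L) x out = dfs ok L (x ^^^ g) (dfs ok L x out) := rfl

theorem dfs_out (ok : ℕ → Bool) : ∀ (L : List ℕ) (x : ℕ) (out : List ℕ) (y : ℕ), y ∈ out → y ∈ dfs ok L x out := by
  intro L
  induction L with
  | nil =>
    intro x out y hy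
    rw [dfs_nil]
    cases ok x
    · exact hy
    · exact List.mem_cons_of_mem _ hy
  | cons g L ih =>
    intro x out y hy
    rw [dfs_cons]
    exact ih _ _ _ (ih _ _ _ hy)

theorem dfs_sound (ok : ℕ → Bool) : ∀ (L : List ℕ) (x : ℕ) (out : List ℕ) (y : ℕ), InSpan L (y ^^^ x) → ok y = true →
    y ∈ dfs ok L x out := by
  intro L
  induction L with
  | nil =>
    intro x out y hs hok
    have h0 : y ^^^ x = 0 := hs
    have hy : y = x := Nat.xor_eq_zero_iff.mp h0
    subst hy
    rw [dfs_nil, hok]
    exact List.mem_cons_self
  | cons g L ih =>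
    intro x out y hs hok
    rw [dfs_cons]
    rcases hs with hs | hs
    · exact dfs_out ok _ _ _ _ (ih _ _ _ hs hok)
    · refine ih _ _ _ ?_ hok
      rw [← Nat.xor_assoc]
      exact hs

theorem inSpan_comm (g : ℕ) : ∀ (gs fr : List ℕ) (z : ℕ), InSpan (g :: gs ++ fr) z → InSpan (gs ++ g :: fr) z := by
  intro gs
  induction gs with
  | nil => intro fr z h; exact h
  | cons h gs ih =>
    intro fr z hz
    have e : ∀ a b c : ℕ, a ^^^ b ^^^ c = a ^^^ c ^^^ b := by
      intro a b c
      rw [Nat.xor_assoc, Nat.xor_assoc, Nat.xor_comm b]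
    rcases hz with (hz | hz) | (hz | hz)
    · exact Or.inl (ih fr z (Or.inl hz))
    · exact Or.inr (ih fr _ (Or.inl hz))
    · exact Or.inl (ih fr z (Or.inr hz))
    · refine Or.inr (ih fr _ (Or.inr ?_))
      rw [e]
      exact hz

theorem fix_of_zero {g i x : ℕ} (h : x.testBit i = false) : fix g i x = x := by
  unfold fix
  rw [tb_eq, h]
  rfl

theorem elim_sound (Q : ℕ) : ∀ (n : ℕ) (gens fr : List ℕ) (b y : ℕ), gens.length < n → (∀ g ∈ fr, g &&& Q = 0) →
    InSpan (gens ++ fr) (y ^^^ b) → y &&& Q = 0 → InSpan (elim Q n gens fr b).1 (y ^^^ (elim Q n gens fr b).2) := by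
  intro n
  induction n with
  | zero => intro gens fr b y h; omega
  | succ n ih =>
    intro gens fr b y hlen hfr hs hQ
    cases gens with
    | nil => exact hs
    | cons g gs =>
      have hlen' : gs.length < n := by simpa using hlen
      simp only [elim]
      by_cases hm : g &&& Q = 0
      · have : Nat.beq (Nat.land g Q) 0 = true := by
          rw [land_eq, hm]
          rfl
        rw [this]
        simp only [cond_true]
        refine ih gs _ b y hlen' ?_ (inSpan_comm g gs fr _ hs) hQ
        intro g' hg'
        rcases List.mem_cons.mp hg' with rfl | hg'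
        · exact hm
        · exact hfr g' hg'
      · have : Nat.beq (Nat.land g Q) 0 = false := by
          rw [land_eq]
          cases e : Nat.beq (g &&& Q) 0
          · rfl
          · exact absurd (Nat.eq_of_beq_eq_true e) hm
        rw [this]
        simp only [cond_false, land_eq]
        set i := Nat.log2 (g &&& Q) with hi
        have hbit := log2_bit hm
        rw [← hi, Nat.testBit_and, Bool.and_eq_true] at hbit
        have hgi := hbit.1
        have hy : y.testBit i = false := by
          have := congrArg (fun m => m.testBit i) hQ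
          simp only [Nat.testBit_and, hbit.2, Bool.and_true, Nat.zero_testBit] at this
          exact this
        have hfr0 : ∀ g' ∈ fr, g'.testBit i = false := by
          intro g' hg'
          have := congrArg (fun m => m.testBit i) (hfr g' hg')
          simp only [Nat.testBit_and, hbit.2, Bool.and_true, Nat.zero_testBit] at this
          exact this
        refine ih _ _ _ y (by simpa using hlen') hfr ?_ hQ
        have emap : gs.map (fix g i) ++ fr = (gs ++ fr).map (fix g i) := by
          rw [List.map_append]
          congr 1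
          symm
          have : fr.map (fix g i) = fr.map id :=
            List.map_congr_left (fun a ha => fix_of_zero (hfr0 a ha))
          rw [this, List.map_id]
        have hall : ∀ g' ∈ gs.map (fix g i) ++ fr, g'.testBit i = false := by
          intro g' hg'
          rcases List.mem_append.mp hg' with hg' | hg'
          · obtain ⟨a, -, rfl⟩ := List.mem_map.mp hg'
            exact fix_bit hgi a
          · exact hfr0 g' hg'
        rw [emap] at hall ⊢
        rcases inSpan_fix g i (gs ++ fr) _ hs with h1 | h1 <;> rcases fix_cases g i b with ⟨e, hb⟩ | ⟨e, hb⟩ <;> rw [e]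
        · exact h1
        · exfalso
          have h2 := inSpan_bit i _ _ hall h1
          rw [Nat.testBit_xor, hy, hb] at h2
          simp at h2
        · exfalso
          have h2 := inSpan_bit i _ _ hall h1
          rw [Nat.testBit_xor, Nat.testBit_xor, hy, hb, hgi] at h2
          simp at h2
        · rw [← Nat.xor_assoc]
          exact h1

/-- The free generators all vanish on `Q`. -/
theorem elim_free (Q : ℕ) : ∀ (n : ℕ) (gens fr : List ℕ) (b : ℕ), (∀ g ∈ fr, g &&& Q = 0) →
    ∀ g ∈ (elim Q n gens fr b).1, g &&& Q = 0 := by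
  intro n
  induction n with
  | zero => intro gens fr b h; cases gens <;> exact h
  | succ n ih =>
    intro gens fr b hfr
    cases gens with
    | nil => exact hfr
    | cons g gs =>
      simp only [elim]
      cases hm : Nat.beq (Nat.land g Q) 0
      · exact ih _ _ _ hfr
      · refine ih _ _ _ ?_
        intro g' hg'
        rcases List.mem_cons.mp hg' with rfl | hg'
        · exact Nat.eq_of_beq_eq_true hm
        · exact hfr g' hg'

theorem inSpan_and {Q : ℕ} : ∀ (L : List ℕ) (z : ℕ), (∀ g ∈ L, g &&& Q = 0) → InSpan L z → z &&& Q = 0 := by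
  intro L
  induction L with
  | nil =>
    intro z _ hz
    have : z = 0 := hz
    simp [this]
  | cons g L ih =>
    intro z h hz
    have hL := fun g' hg' => h g' (List.mem_cons_of_mem g hg')
    rcases hz with hz | hz
    · exact ih _ hL hz
    · have h1 := ih _ hL hz
      rw [Nat.and_xor_distrib_right, h g List.mem_cons_self, Nat.xor_zero] at h1
      exact h1

/-- The points `y` of `base + ⟨gens⟩` with `y &&& Q = 0` and `ok y`. -/
noncomputable def solve (ok : ℕ → Bool) (Q : ℕ) (gens : List ℕ) (base : ℕ) : List ℕ :=
  bif Nat.beq (Nat.land (elim Q 57 gens [] base).2 Q) 0 then dfs ok (elim Q 57 gens [] base).1 (elim Q 57 gens [] base).2 [] else []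

theorem solve_sound (ok : ℕ → Bool) (Q : ℕ) (gens : List ℕ) (base y : ℕ) (hlen : gens.length < 57)
    (hs : InSpan gens (y ^^^ base)) (hQ : y &&& Q = 0) (hok : ok y = true) : y ∈ solve ok Q gens base := by
  have h1 : InSpan (gens ++ []) (y ^^^ base) := by simpa using hs
  have h2 := elim_sound Q 57 gens [] base y hlen (by simp) h1 hQ
  have h3 := elim_free Q 57 gens [] base (by simp)
  have h4 := inSpan_and _ _ h3 h2
  rw [Nat.and_xor_distrib_right, hQ, Nat.zero_xor] at h4
  unfold solve
  have : Nat.beq (Nat.land (elim Q 57 gens [] base).2 Q) 0 = true := by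
    rw [land_eq, h4]
    rfl
  rw [this]
  exact dfs_sound ok _ _ _ _ h2 hok

/-- Sums of at most `b` elements. -/
def InSpanB : ℕ → List ℕ → ℕ → Prop
  | _, [], x => x = 0
  | 0, _ :: _, x => x = 0
  | b + 1, g :: gs, x => InSpanB (b + 1) gs x ∨ InSpanB b gs (x ^^^ g)

/-- `t` is not a sum of at most `b` elements. -/
noncomputable def noLow (L : List ℕ) : ℕ → ℕ → Bool :=
  List.rec (fun _ t => !(Nat.beq t 0))
    (fun g _ ih b t => Nat.casesOn b (!(Nat.beq t 0)) (fun b' => ih (Nat.succ b') t && ih b' (Nat.xor t g))) L

theorem noLow_nil (b t : ℕ) : noLow [] b t = !(Nat.beq t 0) := rfl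
theorem noLow_zero (g : ℕ) (L : List ℕ) (t : ℕ) : noLow (g :: L) 0 t = !(Nat.beq t 0) := rfl
theorem noLow_succ (g : ℕ) (L : List ℕ) (b t : ℕ) :
    noLow (g :: L) (b + 1) t = (noLow L (b + 1) t && noLow L b (t ^^^ g)) := rfl

theorem noLow_sound : ∀ (L : List ℕ) (b t : ℕ), noLow L b t = true → ¬ InSpanB b L t := by
  intro L
  induction L with
  | nil =>
    intro b t h h2
    have h0 : t = 0 := by cases b <;> exact h2
    subst h0
    rw [noLow_nil] at h
    simp at h
  | cons g gs ih =>
    intro b t h h2
    cases b with
    | zero =>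
      have h0 : t = 0 := h2
      subst h0
      rw [noLow_zero] at h
      simp at h
    | succ b =>
      rw [noLow_succ, Bool.and_eq_true] at h
      rcases h2 with h2 | h2
      · exact ih _ _ h.1 h2
      · exact ih _ _ h.2 h2

/-- A property of all points of an affine subspace. -/
noncomputable def allSpan (P : ℕ → Bool) (L : List ℕ) : ℕ → Bool :=
  List.rec (fun t => P t) (fun g _ ih t => ih t && ih (Nat.xor t g)) L

theorem allSpan_nil (P : ℕ → Bool) (t : ℕ) : allSpan P [] t = P t := rfl
theorem allSpan_cons (P : ℕ → Bool) (g : ℕ) (L : List ℕ) (t : ℕ) :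
    allSpan P (g :: L) t = (allSpan P L t && allSpan P L (t ^^^ g)) := rfl

theorem allSpan_sound (P : ℕ → Bool) : ∀ (L : List ℕ) (t u : ℕ), allSpan P L t = true → InSpan L u → P (t ^^^ u) = true := by
  intro L
  induction L with
  | nil =>
    intro t u h hu
    have : u = 0 := hu
    subst this
    rw [allSpan_nil] at h
    simpa using h
  | cons g gs ih =>
    intro t u h hu
    rw [allSpan_cons, Bool.and_eq_true] at h
    rcases hu with hu | hu
    · exact ih _ _ h.1 hu
    · have := ih _ _ h.2 hu
      have e : t ^^^ g ^^^ (u ^^^ g) = t ^^^ u := by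
        rw [Nat.xor_comm u g, ← Nat.xor_assoc, Nat.xor_assoc t g g, Nat.xor_self, Nat.xor_zero]
      rw [e] at this
      exact this

/-- The mask of the 56 bits. -/
def mask56 : ℕ := 72057594037927935

theorem mask56_bit {f : ℕ} (hf : f < 56) : mask56.testBit f = true := by
  have : mask56 = 2 ^ 56 - 1 := by norm_num [mask56]
  rw [this, Nat.testBit_two_pow_sub_one]
  simpa using hf

/-- No nonempty sum of at most `b + 1` elements vanishes. -/
noncomputable def noLowNE (b : ℕ) : List ℕ → Bool
  | [] => true
  | g :: gs => noLowNE b gs && noLow gs b g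

/-! ### Sums along a list of columns -/

/-- The sum of the columns selected by the bits of `h`, the first column having index `f`. -/
def xorL : List ℕ → ℕ → ℕ → ℕ
  | [], _, _ => 0
  | c :: cs, f, h => (bif tb h f then c else 0) ^^^ xorL cs (f + 1) h

/-- The columns selected by the bits of `l`. -/
def gensL (l : ℕ) : List ℕ → ℕ → List ℕ
  | [], _ => []
  | c :: cs, f => bif tb l f then c :: gensL l cs (f + 1) else gensL l cs (f + 1)

/-- The number of selected columns. -/
def cntL : List ℕ → ℕ → ℕ → ℕ
  | [], _, _ => 0
  | _ :: cs, f, h => (bif tb h f then 1 else 0) + cntL cs (f + 1) h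

theorem inSpan_xorL (l h : ℕ) : ∀ (cs : List ℕ) (f : ℕ), (∀ i, i < cs.length → h.testBit (f + i) = true → l.testBit (f + i) = true) →
    InSpan (gensL l cs f) (xorL cs f h) := by
  intro cs
  induction cs with
  | nil => intro f _; rfl
  | cons c cs ih =>
    intro f hs
    have hs' : ∀ i, i < cs.length → h.testBit (f + 1 + i) = true → l.testBit (f + 1 + i) = true := by
      intro i hi
      have := hs (i + 1) (by simpa using hi)
      rwa [show f + (i + 1) = f + 1 + i by omega] at this
    have h0 := hs 0 (by simp)
    simp only [Nat.add_zero] at h0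
    have ih' := ih (f + 1) hs'
    simp only [gensL, xorL, tb_eq]
    cases hl : l.testBit f
    · have hh : h.testBit f = false := by
        cases hh : h.testBit f
        · rfl
        · have := h0 hh
          rw [hl] at this
          cases this
      simp [hh, ih']
    · cases hh : h.testBit f
      · simp only [cond_false, cond_true, Nat.zero_xor]
        exact Or.inl ih'
      · simp only [cond_true]
        right
        rw [Nat.xor_comm c, Nat.xor_assoc, Nat.xor_self, Nat.xor_zero]
        exact ih'

theorem xorL_eq_zero (h : ℕ) : ∀ (cs : List ℕ) (f : ℕ), cntL cs f h = 0 → xorL cs f h = 0 := by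
  intro cs
  induction cs with
  | nil => intro f _; rfl
  | cons c cs ih =>
    intro f hc
    simp only [cntL] at hc
    have h1 : (bif tb h f then 1 else 0) = 0 := by omega
    have h2 : cntL cs (f + 1) h = 0 := by omega
    have h3 : tb h f = false := by
      cases e : tb h f
      · rfl
      · rw [e] at h1
        cases h1
    simp only [xorL, h3, cond_false, Nat.zero_xor]
    exact ih _ h2

theorem inSpanB_xorL (l h : ℕ) : ∀ (cs : List ℕ) (f b : ℕ), (∀ i, i < cs.length → h.testBit (f + i) = true → l.testBit (f + i) = true) →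
    cntL cs f h ≤ b → InSpanB b (gensL l cs f) (xorL cs f h) := by
  intro cs
  induction cs with
  | nil =>
    intro f b _ _
    cases b <;> rfl
  | cons c cs ih =>
    intro f b hs hc
    have hs' : ∀ i, i < cs.length → h.testBit (f + 1 + i) = true → l.testBit (f + 1 + i) = true := by
      intro i hi
      have := hs (i + 1) (by simpa using hi)
      rwa [show f + (i + 1) = f + 1 + i by omega] at this
    have h0 := hs 0 (by simp)
    simp only [Nat.add_zero] at h0
    simp only [cntL] at hc
    simp only [gensL, xorL]
    cases hl : tb l f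
    · have hh : tb h f = false := by
        cases hh : tb h f
        · rfl
        · rw [tb_eq] at hh hl
          have := h0 hh
          rw [hl] at this
          cases this
      rw [hh] at hc ⊢
      simp only [cond_false, Nat.zero_xor, Nat.zero_add] at hc ⊢
      exact ih _ _ hs' hc
    · simp only [cond_true]
      cases hh : tb h f
      · rw [hh] at hc
        simp only [cond_false, Nat.zero_xor, Nat.zero_add] at hc ⊢
        cases b with
        | zero =>
          have := xorL_eq_zero h cs (f + 1) (by omega)
          exact this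
        | succ b => exact Or.inl (ih _ _ hs' hc)
      · rw [hh] at hc
        simp only [cond_true] at hc ⊢
        cases b with
        | zero => omega
        | succ b =>
          right
          rw [Nat.xor_comm c, Nat.xor_assoc, Nat.xor_self, Nat.xor_zero]
          exact ih _ _ hs' (by omega)

theorem noLowNE_sound (b : ℕ) (h : ℕ) : ∀ (cs : List ℕ) (f : ℕ), noLowNE b (gensL (mask56) cs f) = true → f + cs.length ≤ 56 →
    cntL cs f h ≤ b + 1 → cntL cs f h ≠ 0 → xorL cs f h ≠ 0 := by
  intro cs
  induction cs with
  | nil =>
    intro f _ _ _ h0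
    exact absurd rfl h0
  | cons c cs ih =>
    intro f hne hf hc h0 hx
    have hmask : tb (mask56) f = true := by
      have hf' : f < 56 := by simp at hf; omega
      rw [tb_eq]
      exact mask56_bit hf'
    simp only [gensL, hmask, cond_true, noLowNE, Bool.and_eq_true] at hne
    simp only [cntL] at hc h0
    simp only [xorL] at hx
    have hf2 : f + 1 + cs.length ≤ 56 := by simp at hf; omega
    cases hh : tb h f
    · rw [hh] at hc h0 hx
      simp only [cond_false, Nat.zero_xor, Nat.zero_add] at hc h0 hx
      exact ih (f + 1) hne.1 hf2 hc h0 hx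
    · rw [hh] at hc hx
      simp only [cond_true] at hc hx
      have h1 : xorL cs (f + 1) h = c := by
        have := Nat.xor_eq_zero_iff.mp hx
        exact this.symm
      have hall : ∀ i, i < cs.length → h.testBit (f + 1 + i) = true → mask56.testBit (f + 1 + i) = true := by
        intro i hi _
        have hf3 : f + 1 + i < 56 := by omega
        exact mask56_bit hf3
      have h2 := inSpanB_xorL (mask56) h cs (f + 1) b hall (by omega)
      rw [h1] at h2
      exact noLow_sound _ _ _ hne.2 h2

end Cfsg.Agent.Lib.RuAut
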