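import Mathlib
import Cfsg.Agent.Lib.RuMin.Main
import Cfsg.Agent.Lib.RuAut.Solve

/-!
# The 56 integer fields of a vector of the Gaussian lattice
-/

set_option autoImplicit false

namespace Cfsg.Agent.Lib.RuAut

open Cfsg.Spor Cfsg.Agent.Lib.RuMin

/-- The position of a Gaussian coordinate. -/
def pos (p : RuIdx) : ℕ := 4 * p.1.val + p.2.val

/-- The Gaussian coordinate of a field. -/
def idxOf (f : ℕ) : RuIdx := (Fin.ofNat 7 (f / 8), Fin.ofNat 4 (f / 2 % 4))

/-- An integer field of a vector. -/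
def fld (x : RuVec) (f : ℕ) : ℤ := if f % 2 = 0 then (x (idxOf f)).re else (x (idxOf f)).im

theorem idxOf_even : ∀ p, idxOf (2 * pos p) = p := by decide
theorem idxOf_odd : ∀ p, idxOf (2 * pos p + 1) = p := by decide
theorem pos_idxOf_even : ∀ f, f < 56 → f % 2 = 0 → 2 * pos (idxOf f) = f := by decide
theorem pos_idxOf_odd : ∀ f, f < 56 → f % 2 = 1 → 2 * pos (idxOf f) + 1 = f := by decide

theorem fld_even (x : RuVec) (p : RuIdx) : fld x (2 * pos p) = (x p).re := by
  unfold fld
  rw [if_pos (by omega), idxOf_even]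

theorem fld_odd (x : RuVec) (p : RuIdx) : fld x (2 * pos p + 1) = (x p).im := by
  unfold fld
  rw [if_neg (by omega), idxOf_odd]

theorem fld_ext {x y : RuVec} (h : ∀ f, f < 56 → fld x f = fld y f) : x = y := by
  funext p
  have hp : ∀ p : RuIdx, 2 * pos p + 1 < 56 := by decide
  ext
  · rw [← fld_even, ← fld_even]
    exact h _ (by have := hp p; omega)
  · rw [← fld_odd, ← fld_odd]
    exact h _ (hp p)

theorem sum56 (g : ℕ → ℤ) : ∑ f ∈ Finset.range 56, g f = ∑ p : RuIdx, (g (2 * pos p) + g (2 * pos p + 1)) := by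
  simp only [Finset.sum_range_succ, Finset.sum_range_zero, Fintype.sum_prod_type, Fin.sum_univ_succ,
    Fin.sum_univ_zero, pos]
  norm_num [Fin.succ]
  ring

theorem norm_eq (x : RuVec) : ruNorm x = ∑ f ∈ Finset.range 56, fld x f ^ 2 := by
  rw [sum56, ruNorm]
  refine Finset.sum_congr rfl fun p _ => ?_
  rw [fld_even, fld_odd, Zsqrtd.norm]
  ring

theorem im_sum' {ι : Type*} (s : Finset ι) (f : ι → GaussianInt) : (∑ i ∈ s, f i).im = ∑ i ∈ s, (f i).im := by
  classical
  induction s using Finset.induction_on with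
  | empty => simp
  | insert a s ha ih => rw [Finset.sum_insert ha, Finset.sum_insert ha, Zsqrtd.im_add, ih]

theorem herm_re (x y : RuVec) : (herm x y).re = ∑ f ∈ Finset.range 56, fld x f * fld y f := by
  rw [sum56, herm, re_sum]
  refine Finset.sum_congr rfl fun p _ => ?_
  rw [fld_even, fld_odd, fld_even, fld_odd, Zsqrtd.re_mul, Zsqrtd.re_star, Zsqrtd.im_star]
  ring

/-- Multiplication by `i`. -/
theorem fld_gI_even (x : RuVec) (p : RuIdx) : fld (gI • x) (2 * pos p) = - fld x (2 * pos p + 1) := by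
  rw [fld_even, fld_odd]
  simp [gI, Zsqrtd.re_mul]

theorem herm_im (x y : RuVec) : (herm x y).im = ∑ f ∈ Finset.range 56, fld x f * fld (gI • y) f := by
  rw [sum56, herm, im_sum']
  refine Finset.sum_congr rfl fun p _ => ?_
  rw [fld_even, fld_odd, fld_even, fld_odd]
  simp [gI, Zsqrtd.re_mul, Zsqrtd.im_mul]

/-! ### Popcounts -/

/-- The number of bits among the first `w`. -/
def pcW : ℕ → ℕ → ℕ
  | 0, _ => 0
  | w + 1, n => n % 2 + pcW w (n / 2)

theorem pcW_add (a b n : ℕ) : pcW (a + b) n = pcW a n + pcW b (n / 2 ^ a) := by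
  induction a generalizing n with
  | zero => simp [pcW]
  | succ a ih =>
    rw [show a + 1 + b = (a + b) + 1 by omega, pcW, pcW, ih, pow_succ', Nat.div_div_eq_div_mul]
    omega

theorem pcW_mod (w n : ℕ) : pcW w (n % 2 ^ w) = pcW w n := by
  induction w generalizing n with
  | zero => rfl
  | succ w ih =>
    rw [pcW, pcW]
    have h1 : n % 2 ^ (w + 1) % 2 = n % 2 := by
      rw [pow_succ']
      exact Nat.mod_mul_right_mod n 2 (2 ^ w)
    have h2 : n % 2 ^ (w + 1) / 2 = (n / 2) % 2 ^ w := by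
      rw [pow_succ', Nat.mod_mul_right_div_self]
    rw [h1, h2, ih]

theorem pcW_eq_sum (w n : ℕ) : pcW w n = ∑ f ∈ Finset.range w, (n.testBit f).toNat := by
  induction w generalizing n with
  | zero => rfl
  | succ w ih =>
    rw [pcW, ih, Finset.sum_range_succ']
    have h0 : (n.testBit 0).toNat = n % 2 := by
      rw [Nat.testBit_zero]
      rcases Nat.mod_two_eq_zero_or_one n with h | h <;> simp [h]
    rw [h0, add_comm]
    congr 1
    refine Finset.sum_congr rfl fun i _ => ?_
    rw [Nat.testBit_succ]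

/-- The bit popcount table of all numbers below `2 ^ 14` is given in the data file; this is the check. -/
def pcOfTable (T m : ℕ) : ℕ := Nat.mod (Nat.shiftRight T (Nat.mul 4 m)) 16

/-- The number of set bits among the first 56 bits, with a table. -/
def pc56 (T n : ℕ) : ℕ :=
  Nat.add (pcOfTable T (Nat.mod n 16384)) (Nat.add (pcOfTable T (Nat.mod (Nat.shiftRight n 14) 16384))
    (Nat.add (pcOfTable T (Nat.mod (Nat.shiftRight n 28) 16384)) (pcOfTable T (Nat.mod (Nat.shiftRight n 42) 16384))))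

theorem pc56_eq {T : ℕ} (hT : ∀ m, m < 16384 → pcOfTable T m = pcW 14 m) (n : ℕ) : pc56 T n = pcW 56 n := by
  have key : ∀ m, pcOfTable T (Nat.mod m 16384) = pcW 14 m := by
    intro m
    have h1 : Nat.mod m 16384 < 16384 := Nat.mod_lt _ (by norm_num)
    rw [hT _ h1]
    exact pcW_mod 14 m
  unfold pc56
  rw [key, key, key, key]
  have e1 : (56 : ℕ) = 14 + (14 + (14 + 14)) := by norm_num
  rw [e1, pcW_add, pcW_add, pcW_add]
  have s : ∀ m k : ℕ, Nat.shiftRight m k = m / 2 ^ k := fun m k => Nat.shiftRight_eq_div_pow m k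
  rw [s, s, s]
  simp only [Nat.add_eq, Nat.div_div_eq_div_mul]
  norm_num

/-- The overlap of two words. -/
def pcS (a b : ℕ) : ℕ := ∑ f ∈ Finset.range 56, (a.testBit f && b.testBit f).toNat

theorem pcW_and (a b : ℕ) : pcW 56 (a &&& b) = pcS a b := by
  rw [pcW_eq_sum, pcS]
  refine Finset.sum_congr rfl fun f _ => ?_
  rw [Nat.testBit_and]

/-! ### Low and high bits of the fields -/

/-- The low bit of an integer. -/
def loB (z : ℤ) : Bool := decide (z % 2 = 1)

/-- The high bit of the residue modulo 4 of an integer. -/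
def hiB (z : ℤ) : Bool := decide (2 ≤ z % 4)

/-- The word of low bits. -/
def lw (x : RuVec) : ℕ := Nat.ofBits (fun i : Fin 56 => loB (fld x i))

/-- The word of high bits. -/
def hw (x : RuVec) : ℕ := Nat.ofBits (fun i : Fin 56 => hiB (fld x i))

theorem lw_bit (x : RuVec) {f : ℕ} (hf : f < 56) : (lw x).testBit f = loB (fld x f) := by
  rw [lw, Nat.testBit_ofBits_lt _ _ hf]

theorem hw_bit (x : RuVec) {f : ℕ} (hf : f < 56) : (hw x).testBit f = hiB (fld x f) := by
  rw [hw, Nat.testBit_ofBits_lt _ _ hf]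

theorem lw_lt (x : RuVec) : lw x < 2 ^ 56 := Nat.ofBits_lt_two_pow _
theorem hw_lt (x : RuVec) : hw x < 2 ^ 56 := Nat.ofBits_lt_two_pow _

/-- The value of a bit. -/
def bv (b : Bool) : ℤ := if b then 1 else 0

theorem bits_modEq (z : ℤ) : (4 : ℤ) ∣ z - (bv (loB z) + 2 * bv (hiB z)) := by
  have h : z % 4 = 0 ∨ z % 4 = 1 ∨ z % 4 = 2 ∨ z % 4 = 3 := by omega
  have h2 : z % 2 = (z % 4) % 2 := by omega
  unfold bv loB hiB
  rcases h with h | h | h | h <;> rw [h2, h] <;> norm_num <;> omega

/-- The entry of a check vector. -/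
def cf (L H f : ℕ) : ℤ := bv (L.testBit f) + 2 * bv (H.testBit f)

/-- The check vector of two words. -/
def vecOf (L H : ℕ) : RuVec := fun p => ⟨cf L H (2 * pos p), cf L H (2 * pos p + 1)⟩

theorem fld_vecOf (L H : ℕ) {f : ℕ} (hf : f < 56) : fld (vecOf L H) f = cf L H f := by
  unfold fld vecOf
  by_cases h : f % 2 = 0
  · rw [if_pos h]
    show cf L H (2 * pos (idxOf f)) = _
    rw [pos_idxOf_even f hf h]
  · rw [if_neg h]
    show cf L H (2 * pos (idxOf f) + 1) = _
    rw [pos_idxOf_odd f hf (by omega)]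

theorem bv_and (a b : Bool) : ((a && b).toNat : ℤ) = bv a * bv b := by
  cases a <;> cases b <;> rfl

theorem check_eq {x : RuVec} (hx : x ∈ Lp) {L H : ℕ} (hc : ∀ j, D4 (herm (bT j) (vecOf L H))) :
    (pcS (lw x) L + 2 * pcS (lw x) H + 2 * pcS (hw x) L) % 4 = 0 := by
  have h1 : (4 : ℤ) ∣ (herm x (vecOf L H)).re := (pair_of hc hx).1
  rw [herm_re] at h1
  have h2 : (4 : ℤ) ∣ ∑ f ∈ Finset.range 56, (fld x f * fld (vecOf L H) f -
      (bv (loB (fld x f)) * bv (L.testBit f) + 2 * (bv (loB (fld x f)) * bv (H.testBit f)) +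
        2 * (bv (hiB (fld x f)) * bv (L.testBit f)))) := by
    refine Finset.dvd_sum fun f hf => ?_
    have hf' := Finset.mem_range.mp hf
    rw [fld_vecOf _ _ hf', cf]
    obtain ⟨t, ht⟩ := bits_modEq (fld x f)
    have e : fld x f = bv (loB (fld x f)) + 2 * bv (hiB (fld x f)) + 4 * t := by linarith
    refine ⟨bv (hiB (fld x f)) * bv (H.testBit f) + t * (bv (L.testBit f) + 2 * bv (H.testBit f)), ?_⟩
    generalize bv (loB (fld x f)) = a at e ⊢
    generalize bv (hiB (fld x f)) = b at e ⊢
    rw [e]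
    ring
  rw [Finset.sum_sub_distrib] at h2
  have h3 := (Int.dvd_iff_dvd_of_dvd_sub h2).mp h1
  have h4 : ∑ f ∈ Finset.range 56, (bv (loB (fld x f)) * bv (L.testBit f) + 2 * (bv (loB (fld x f)) * bv (H.testBit f)) +
        2 * (bv (hiB (fld x f)) * bv (L.testBit f))) =
      ((pcS (lw x) L + 2 * pcS (lw x) H + 2 * pcS (hw x) L : ℕ) : ℤ) := by
    push_cast
    simp only [pcS, Nat.cast_sum]
    rw [Finset.mul_sum, Finset.mul_sum, ← Finset.sum_add_distrib, ← Finset.sum_add_distrib]
    refine Finset.sum_congr rfl fun f hf => ?_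
    have hf' := Finset.mem_range.mp hf
    rw [bv_and, bv_and, bv_and, lw_bit x hf', hw_bit x hf']
  rw [h4] at h3
  have h5 : (4 : ℕ) ∣ (pcS (lw x) L + 2 * pcS (lw x) H + 2 * pcS (hw x) L) := by exact_mod_cast h3
  exact Nat.mod_eq_zero_of_dvd h5

/-! ### The norm -/

/-- The lower bound of the square of a field. -/
theorem field_lb (z : ℤ) : bv (loB z) + 4 * (if hiB z = true ∧ loB z = false then 1 else 0) ≤ z ^ 2 := by
  have h : z % 4 = 0 ∨ z % 4 = 1 ∨ z % 4 = 2 ∨ z % 4 = 3 := by omega
  have h2 : z % 2 = (z % 4) % 2 := by omega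
  have hlo : loB z = decide ((z % 4) % 2 = 1) := by rw [loB, ← h2]
  have hhi : hiB z = decide (2 ≤ z % 4) := rfl
  rcases h with h | h | h | h
  · have e : bv (loB z) + 4 * (if hiB z = true ∧ loB z = false then 1 else 0) = 0 := by
      rw [hlo, hhi, h]
      decide
    rw [e]
    positivity
  · have e : bv (loB z) + 4 * (if hiB z = true ∧ loB z = false then 1 else 0) = 1 := by
      rw [hlo, hhi, h]
      decide
    rw [e]
    have hz : z ≠ 0 := by rintro rfl; norm_num at h
    have h3 : 0 < z ^ 2 := by positivity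
    exact Int.add_one_le_of_lt h3
  · have e : bv (loB z) + 4 * (if hiB z = true ∧ loB z = false then 1 else 0) = 4 := by
      rw [hlo, hhi, h]
      decide
    rw [e]
    obtain ⟨k, hk⟩ : ∃ k, z = 4 * k + 2 := ⟨z / 4, by omega⟩
    have h3 : 0 ≤ 16 * k * k + 16 * k := by
      have : k ≤ -1 ∨ 0 ≤ k := by omega
      rcases this with h4 | h4 <;> nlinarith
    rw [hk]
    nlinarith
  · have e : bv (loB z) + 4 * (if hiB z = true ∧ loB z = false then 1 else 0) = 1 := by
      rw [hlo, hhi, h]
      decide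
    rw [e]
    have hz : z ≠ 0 := by rintro rfl; norm_num at h
    have h3 : 0 < z ^ 2 := by positivity
    exact Int.add_one_le_of_lt h3

/-- The complement of the low word. -/
def coL (l : ℕ) : ℕ := Nat.xor mask56 l

theorem coL_bit (l : ℕ) {f : ℕ} (hf : f < 56) : (coL l).testBit f = !l.testBit f := by
  rw [coL, xor_eq, Nat.testBit_xor, mask56_bit hf]
  simp

/-- The sum of the lower bounds. -/
def lbT (z : ℤ) : ℤ := bv (loB z) + 4 * (if hiB z = true ∧ loB z = false then 1 else 0)

theorem sum_lbT (x : RuVec) : ∑ f ∈ Finset.range 56, lbT (fld x f) =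
    ((pcW 56 (lw x) + 4 * pcS (hw x) (coL (lw x)) : ℕ) : ℤ) := by
  rw [pcW_eq_sum, pcS]
  push_cast
  rw [Finset.mul_sum, ← Finset.sum_add_distrib]
  refine Finset.sum_congr rfl fun f hf => ?_
  have hf' := Finset.mem_range.mp hf
  rw [lw_bit x hf', hw_bit x hf', coL_bit _ hf', lw_bit x hf', lbT]
  cases loB (fld x f) <;> cases hiB (fld x f) <;> simp [bv]

theorem norm_lb (x : RuVec) : ((pcW 56 (lw x) + 4 * pcS (hw x) (coL (lw x)) : ℕ) : ℤ) ≤ ruNorm x := by
  rw [← sum_lbT, norm_eq]
  exact Finset.sum_le_sum fun f _ => field_lb _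

theorem int_sq_one {z : ℤ} (h : z ^ 2 = 1) : z = 1 ∨ z = -1 := by
  have h2 : (z - 1) * (z + 1) = 0 := by nlinarith
  rcases mul_eq_zero.mp h2 with h3 | h3
  · left; omega
  · right; omega

/-- The value of a field from the words. -/
def bval (l h f : ℕ) : ℤ := if l.testBit f = true then (if h.testBit f = true then -1 else 1) else 0

theorem s_type {x : RuVec} (hN : ruNorm x = 16) (h16 : pcW 56 (lw x) = 16) :
    ∀ f, f < 56 → fld x f = bval (lw x) (hw x) f := by
  have h1 := norm_lb x
  rw [hN, h16] at h1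
  have h2 : pcS (hw x) (coL (lw x)) = 0 := by
    have : ((16 + 4 * pcS (hw x) (coL (lw x)) : ℕ) : ℤ) ≤ ((16 : ℕ) : ℤ) := by exact_mod_cast h1
    have h3 : 16 + 4 * pcS (hw x) (coL (lw x)) ≤ 16 := by exact_mod_cast this
    omega
  have h3 : ∑ f ∈ Finset.range 56, (fld x f ^ 2 - lbT (fld x f)) = 0 := by
    rw [Finset.sum_sub_distrib, sum_lbT, ← norm_eq, hN, h16, h2]
    norm_num
  have h4 := (Finset.sum_eq_zero_iff_of_nonneg (fun f _ => sub_nonneg.mpr (field_lb (fld x f)))).mp h3
  have h5 : ∀ f, f < 56 → ((hw x).testBit f && (coL (lw x)).testBit f) = false := by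
    intro f hf
    have := (Finset.sum_eq_zero_iff).mp h2 f (Finset.mem_range.mpr hf)
    cases e : ((hw x).testBit f && (coL (lw x)).testBit f)
    · rfl
    · rw [e] at this
      cases this
  intro f hf
  have h6 := h4 f (Finset.mem_range.mpr hf)
  have h7 := h5 f hf
  rw [coL_bit _ hf, lw_bit x hf, hw_bit x hf] at h7
  rw [bval, lw_bit x hf, hw_bit x hf]
  generalize fld x f = z at h6 h7 ⊢
  cases hl : loB z
  · have hh : hiB z = false := by
      rw [hl] at h7
      simpa using h7
    rw [hl, hh] at h6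
    simp [bv] at h6 ⊢
    exact h6
  · rw [hl] at h6
    simp [bv] at h6
    have h8 : z ^ 2 = 1 := by linarith
    have h9 : z = 1 ∨ z = -1 := int_sq_one h8
    rcases h9 with rfl | rfl
    · simp [hiB]
    · simp [hiB]

/-- A vector of stored norm 16 which vanishes modulo 4 is four times a signed basis vector. -/
theorem frame_type {x : RuVec} (hN : ruNorm x = 16) (hl : lw x = 0) (hh : hw x = 0) :
    ∃ f, f < 56 ∧ ∃ s : Bool, ∀ i, i < 56 → fld x i = if i = f then (if s = true then -4 else 4) else 0 := by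
  have h0 : ∀ i, i < 56 → (4 : ℤ) ∣ fld x i := by
    intro i hi
    have h1 := bits_modEq (fld x i)
    have h2 := lw_bit x hi
    have h3 := hw_bit x hi
    rw [hl] at h2
    rw [hh] at h3
    simp only [Nat.zero_testBit] at h2 h3
    rw [← h2, ← h3] at h1
    simpa [bv] using h1
  rw [norm_eq] at hN
  obtain ⟨f, hf, hne⟩ : ∃ f ∈ Finset.range 56, fld x f ≠ 0 := by
    by_contra hall
    push Not at hall
    rw [Finset.sum_eq_zero (fun i hi => by rw [hall i hi]; norm_num)] at hN
    norm_num at hN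
  have hf' := Finset.mem_range.mp hf
  have h1 : fld x f ^ 2 ≤ 16 := by
    rw [← hN]
    exact Finset.single_le_sum (f := fun i => fld x i ^ 2) (fun i _ => by positivity) hf
  obtain ⟨k, hk⟩ := h0 f hf'
  have hk0 : k ≠ 0 := by rintro rfl; simp at hk; exact hne hk
  have h2 : k = 1 ∨ k = -1 := by
    rw [hk] at h1
    have h3 : k ^ 2 ≤ 1 := by nlinarith
    have h4 : 0 < k ^ 2 := by positivity
    have h5 : k ^ 2 = 1 := by omega
    exact int_sq_one h5
  have hrest : ∀ i ∈ Finset.range 56, i ≠ f → fld x i = 0 := by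
    have h3 : ∑ i ∈ (Finset.range 56).erase f, fld x i ^ 2 = 0 := by
      have h4 := Finset.add_sum_erase (Finset.range 56) (fun i => fld x i ^ 2) hf
      have h5 : fld x f ^ 2 = 16 := by
        rw [hk]
        rcases h2 with rfl | rfl <;> norm_num
      rw [hN, h5] at h4
      linarith
    have h4 := (Finset.sum_eq_zero_iff_of_nonneg (fun i _ => by positivity)).mp h3
    intro i hi hif
    have := h4 i (Finset.mem_erase.mpr ⟨hif, hi⟩)
    simpa using this
  refine ⟨f, hf', decide (k = -1), fun i hi => ?_⟩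
  by_cases hif : i = f
  · subst hif
    rw [if_pos rfl, hk]
    rcases h2 with rfl | rfl <;> simp
  · rw [if_neg hif]
    exact hrest i (Finset.mem_range.mpr hi) hif

/-! ### Codes -/

/-- Digits in base 256. -/
def encF (d : ℕ → ℕ) : ℕ → ℕ → ℕ
  | 0, _ => 0
  | n + 1, f => Nat.add (d f) (Nat.mul 256 (encF d n (f + 1)))

theorem encF_congr {d e : ℕ → ℕ} : ∀ (n f : ℕ), (∀ i, i < n → d (f + i) = e (f + i)) → encF d n f = encF e n f := by
  intro n
  induction n with
  | zero => intro f _; rfl
  | succ n ih =>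
    intro f h
    have h0 := h 0 (by omega)
    rw [Nat.add_zero] at h0
    have h1 : ∀ i, i < n → d (f + 1 + i) = e (f + 1 + i) := by
      intro i hi
      have := h (i + 1) (by omega)
      rwa [show f + (i + 1) = f + 1 + i by omega] at this
    simp only [encF]
    rw [h0, ih _ h1]

/-- The digit of a field. -/
def digF (x : RuVec) (f : ℕ) : ℕ := (fld x f + 128).toNat

/-- The code of a vector. -/
def zOf (x : RuVec) : ℕ := encF (digF x) 56 0

/-- The code from the words. -/
def zBits (l h : ℕ) : ℕ := encF (fun f => bif tb l f then (bif tb h f then 127 else 129) else 128) 56 0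

/-- The code of four times a signed basis vector. -/
def frameZ (f : ℕ) (s : Bool) : ℕ := encF (fun i => bif Nat.beq i f then (bif s then 124 else 132) else 128) 56 0

theorem zOf_of_bval {x : RuVec} {l h : ℕ} (hx : ∀ f, f < 56 → fld x f = bval l h f) : zOf x = zBits l h := by
  unfold zOf zBits
  refine encF_congr _ _ fun i hi => ?_
  rw [Nat.zero_add, digF, hx i (by omega), bval, tb_eq, tb_eq]
  cases l.testBit i <;> cases h.testBit i <;> rfl

theorem zOf_of_frame {x : RuVec} {f : ℕ} {s : Bool}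
    (hx : ∀ i, i < 56 → fld x i = if i = f then (if s = true then -4 else 4) else 0) : zOf x = frameZ f s := by
  unfold zOf frameZ
  refine encF_congr _ _ fun i hi => ?_
  rw [Nat.zero_add, digF, hx i (by omega)]
  by_cases h : i = f
  · subst h
    have : Nat.beq i i = true := Nat.beq_refl i
    rw [if_pos rfl, this]
    cases s <;> rfl
  · have : Nat.beq i f = false := by
      cases e : Nat.beq i f
      · rfl
      · exact absurd (Nat.eq_of_beq_eq_true e) h
    rw [if_neg h, this]
    rfl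

end Cfsg.Agent.Lib.RuAut
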