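import Mathlib
import Cfsg.Agent.Lib.RuAut.Fields
import Cfsg.Agent.Lib.RuAut.DataA

/-!
# Syndromes of the words of a vector, and the enumeration of the vectors of stored norm 16
-/

set_option autoImplicit false

namespace Cfsg.Agent.Lib.RuAut

open Cfsg.Spor Cfsg.Agent.Lib.RuMin

theorem xorL_testBit (h j : ℕ) : ∀ (cs : List ℕ) (f : ℕ), (xorL cs f h).testBit j =
    decide ((∑ i ∈ Finset.range cs.length, (h.testBit (f + i) && (cs.getD i 0).testBit j).toNat) % 2 = 1) := by
  intro cs
  induction cs with
  | nil => intro f; simp [xorL]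
  | cons c cs ih =>
    intro f
    rw [List.length_cons, Finset.sum_range_succ']
    simp only [xorL, tb_eq, Nat.testBit_xor, Nat.add_zero, List.getD_cons_zero, List.getD_cons_succ]
    rw [ih (f + 1)]
    have e : ∑ i ∈ Finset.range cs.length, (h.testBit (f + (i + 1)) && (cs.getD i 0).testBit j).toNat =
        ∑ i ∈ Finset.range cs.length, (h.testBit (f + 1 + i) && (cs.getD i 0).testBit j).toNat := by
      refine Finset.sum_congr rfl fun i _ => ?_
      rw [show f + (i + 1) = f + 1 + i by omega]
    rw [e]
    generalize (∑ i ∈ Finset.range cs.length, (h.testBit (f + 1 + i) && (cs.getD i 0).testBit j).toNat) = S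
    cases h.testBit f
    · rcases Nat.mod_two_eq_zero_or_one S with hS | hS <;> simp [hS]
    · simp only [cond_true, Bool.true_and]
      generalize c.testBit j = b
      cases b <;> rcases Nat.mod_two_eq_zero_or_one S with hS | hS <;> simp [hS, Nat.add_mod]

/-- The tagged columns. -/
def tagL (sh : ℕ) : List ℕ → ℕ → List ℕ
  | [], _ => []
  | c :: cs, f => (2 ^ (f + sh) ^^^ c) :: tagL sh cs (f + 1)

/-- The sum of the selected bits among a range. -/
theorem xorL_tag (sh h : ℕ) : ∀ (cs : List ℕ) (f : ℕ), xorL (tagL sh cs f) f h =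
    ((h >>> f) % 2 ^ cs.length) * 2 ^ (f + sh) ^^^ xorL cs f h := by
  intro cs
  induction cs with
  | nil =>
    intro f
    simp [tagL, xorL, Nat.mod_one]
  | cons c cs ih =>
    intro f
    simp only [tagL, xorL, tb_eq, List.length_cons]
    rw [ih (f + 1)]
    have hbits : ((h >>> f) % 2 ^ (cs.length + 1)) * 2 ^ (f + sh) =
        (bif h.testBit f then 2 ^ (f + sh) else 0) ^^^ ((h >>> (f + 1)) % 2 ^ cs.length) * 2 ^ (f + 1 + sh) := by
      apply Nat.eq_of_testBit_eq
      intro j
      rw [Nat.testBit_xor]
      by_cases hj : j < f + sh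
      · have h1 : ∀ m : ℕ, (m * 2 ^ (f + sh)).testBit j = false := by
          intro m
          rw [mul_comm, Nat.testBit_two_pow_mul]
          simp only [Bool.and_eq_false_iff, decide_eq_false_iff_not]
          left; omega
        have h2 : ∀ m : ℕ, (m * 2 ^ (f + 1 + sh)).testBit j = false := by
          intro m
          rw [mul_comm, Nat.testBit_two_pow_mul]
          simp only [Bool.and_eq_false_iff, decide_eq_false_iff_not]
          left; omega
        rw [h1, h2]
        cases h.testBit f
        · simp
        · simp [Nat.testBit_two_pow]; omega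
      · rw [mul_comm, Nat.testBit_two_pow_mul, mul_comm, Nat.testBit_two_pow_mul]
        simp only [Nat.testBit_mod_two_pow, Nat.testBit_shiftRight]
        obtain ⟨d, rfl⟩ : ∃ d, j = f + sh + d := ⟨j - (f + sh), by omega⟩
        cases d with
        | zero =>
          have : ¬ (f + 1 + sh ≤ f + sh + 0) := by omega
          simp [this]
          cases e : h.testBit f
          · simp
          · simp [Nat.testBit_two_pow]
        | succ d =>
          have e1 : f + sh + (d + 1) - (f + sh) = d + 1 := by omega
          have e2 : f + sh + (d + 1) - (f + 1 + sh) = d := by omega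
          have e3 : f + 1 + sh ≤ f + sh + (d + 1) := by omega
          have e4 : f + sh ≤ f + sh + (d + 1) := by omega
          rw [e1, e2]
          simp only [e3, e4, decide_true, Bool.true_and]
          have e5 : f + (d + 1) = f + 1 + d := by omega
          have e6 : (d + 1 < cs.length + 1) = (d < cs.length) := by simp
          rw [e5]
          have e7 : (2 ^ (f + sh) : ℕ).testBit (f + sh + (d + 1)) = false := by
            rw [Nat.testBit_two_pow]
            simp
          cases h.testBit f <;> simp [e7, e6]
    rw [hbits]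
    rw [show f + 1 + sh = f + sh + 1 by omega]
    rw [show f + 1 + sh = f + sh + 1 by omega] at hbits
    cases e : h.testBit f <;> simp only [cond_false, cond_true, Nat.zero_xor]
    all_goals ac_rfl

theorem xorL_tag0 (sh h : ℕ) (hh : h < 2 ^ 56) (cs : List ℕ) (hcs : cs.length = 56) :
    xorL (tagL sh cs 0) 0 h = h * 2 ^ sh ^^^ xorL cs 0 h := by
  rw [xorL_tag, hcs, Nat.zero_add, Nat.shiftRight_zero, Nat.mod_eq_of_lt hh]

theorem inSpan_tag {l h sh τ : ℕ} {cs : List ℕ} (hh : h < 2 ^ 56) (hcs : cs.length = 56)
    (hl : ∀ i, i < 56 → h.testBit i = true → l.testBit i = true) (hτ : xorL cs 0 h = τ) :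
    InSpan (gensL l (tagL sh cs 0) 0) (h * 2 ^ sh ^^^ τ) := by
  have h1 : (tagL sh cs 0).length = 56 := by
    have : ∀ (cs : List ℕ) (f : ℕ), (tagL sh cs f).length = cs.length := by
      intro cs
      induction cs with
      | nil => intro f; rfl
      | cons c cs ih => intro f; simp [tagL, ih]
    rw [this, hcs]
  have h2 := inSpan_xorL l h (tagL sh cs 0) 0 (by
    intro i hi
    rw [h1] at hi
    simpa using hl i hi)
  rw [xorL_tag0 sh h hh cs hcs, hτ] at h2
  exact h2

theorem length_gensL (l : ℕ) : ∀ (cs : List ℕ) (f : ℕ), (gensL l cs f).length ≤ cs.length := by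
  intro cs
  induction cs with
  | nil => intro f; simp [gensL]
  | cons c cs ih =>
    intro f
    simp only [gensL]
    cases tb l f
    · have := ih (f + 1)
      simp only [cond_false, List.length_cons]
      omega
    · have := ih (f + 1)
      simp only [cond_true, List.length_cons]
      omega

theorem mul_two_pow_and_low (h sh : ℕ) : (h * 2 ^ sh) &&& (2 ^ sh - 1) = 0 := by
  apply Nat.eq_of_testBit_eq
  intro j
  rw [Nat.testBit_and, Nat.testBit_two_pow_sub_one, mul_comm, Nat.testBit_two_pow_mul]
  simp only [Nat.zero_testBit]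
  by_cases hj : j < sh
  · have : ¬ sh ≤ j := by omega
    simp [this]
  · simp [hj]

/-- Solutions from the syndrome: the element of the output list. -/
theorem mem_solve_tag {ok : ℕ → Bool} {l h sh τ : ℕ} {cs : List ℕ} (hh : h < 2 ^ 56) (hcs : cs.length = 56)
    (hl : ∀ i, i < 56 → h.testBit i = true → l.testBit i = true) (hτ : xorL cs 0 h = τ)
    (hok : ok (h * 2 ^ sh) = true) :
    h * 2 ^ sh ∈ solve ok (2 ^ sh - 1) (gensL l (tagL sh cs 0) 0) τ := by
  apply solve_sound
  · have h1 := length_gensL l (tagL sh cs 0) 0
    have h2 : (tagL sh cs 0).length = 56 := by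
      have : ∀ (cs : List ℕ) (f : ℕ), (tagL sh cs f).length = cs.length := by
        intro cs
        induction cs with
        | nil => intro f; rfl
        | cons c cs ih => intro f; simp [tagL, ih]
      rw [this, hcs]
    omega
  · exact inSpan_tag hh hcs hl hτ
  · exact mul_two_pow_and_low h sh
  · exact hok

end Cfsg.Agent.Lib.RuAut
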