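import Mathlib
import Cfsg.Agent.Lib.RuAut.Synd

/-!
# The enumeration of the vectors of stored norm 16
-/

set_option autoImplicit false

namespace Cfsg.Agent.Lib.RuAut

open Cfsg.Spor Cfsg.Agent.Lib.RuMin

attribute [local irreducible] pcT chkA chkT colA colT tagA tagT LLdata

/-- The popcount with the table. -/
abbrev pcF (n : ℕ) : ℕ := pc56 pcT n

/-- The constant part of the residues of the high words of the vectors with low word `l`. -/
def tauG (l : ℕ) : List (ℕ × ℕ) → ℕ
  | [] => 0
  | c :: t => Nat.add (Nat.mod (Nat.div (Nat.add (pcF (Nat.land l c.1)) (Nat.mul 2 (pcF (Nat.land l c.2)))) 2) 2)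
      (Nat.mul 2 (tauG l t))

/-- The mask of 37 bits. -/
def q37 : ℕ := 137438953471
/-- The mask of 19 bits. -/
def q19 : ℕ := 524287

/-- The test of a word of the residue code. -/
def okLow (y : ℕ) : Bool := Nat.ble (pcF (Nat.shiftRight y 37)) 16

/-- The words of the residue code of weight at most 16, multiplied by `2 ^ 37`. -/
noncomputable def LLs : List ℕ := solve okLow q37 (gensL mask56 tagT 0) 0

/-- The high words of the vectors with low word of weight 16 (times `2 ^ 19`). -/
noncomputable def solsOf (l : ℕ) : List ℕ := solve (fun _ => true) q19 (gensL l tagA 0) (tauG l chkA)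

/-- The codes of the vectors with low word `y / 2 ^ 37` of weight 16. -/
noncomputable def enumS (y : ℕ) : List ℕ :=
  bif Nat.beq (pcF (Nat.shiftRight y 37)) 16 then
    (solsOf (Nat.shiftRight y 37)).map fun s => zBits (Nat.shiftRight y 37) (Nat.shiftRight s 19)
  else []

/-- The codes of the frame vectors. -/
def framesL : List ℕ := (List.range 56).flatMap fun f => [frameZ f false, frameZ f true]

/-- All the codes. -/
noncomputable def minEnum : List ℕ := framesL ++ LLdata.flatMap enumS

/-- The test of a low word of weight 8. -/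
noncomputable def check8 (l : ℕ) : Bool := allSpan (fun t => noLow (gensL (coL l) colA 0) 2 t) (gensL l colA 0) (tauG l chkA)

/-- The test of all the low words. -/
noncomputable def lowOK (y : ℕ) : Bool :=
  Nat.beq (pcF (Nat.shiftRight y 37)) 16 || (Nat.beq (pcF (Nat.shiftRight y 37)) 8 && check8 (Nat.shiftRight y 37)) ||
    Nat.beq y 0

/-- The facts checked by the kernel. -/
structure EnumFacts : Prop where
  hA : ∀ c ∈ chkA, ∀ j, D4 (herm (bT j) (vecOf c.1 c.2))
  hT : ∀ t ∈ chkT, ∀ j, D4 (herm (bT j) (vecOf 0 t))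
  hlenA : chkA.length = 19
  hlenT : chkT.length = 37
  hcolL : colA.length = 56 ∧ colT.length = 56
  hcolA : ∀ j, j < 19 → ∀ i, i < 56 → (colA.getD i 0).testBit j = (chkA.getD j (0, 0)).1.testBit i
  hcolT : ∀ j, j < 37 → ∀ i, i < 56 → (colT.getD i 0).testBit j = (chkT.getD j 0).testBit i
  hboundA : ∀ c ∈ colA, c < 2 ^ 19
  hboundT : ∀ c ∈ colT, c < 2 ^ 37
  htagA : tagA = tagL 19 colA 0
  htagT : tagT = tagL 37 colT 0
  hpc : ∀ m, m < 16384 → pcOfTable pcT m = pcW 14 m
  hLL : LLs = LLdata
  hlow : ∀ y ∈ LLdata, lowOK y = true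
  htau0 : tauG 0 chkA = 0
  hne : noLowNE 3 (gensL mask56 colA 0) = true

theorem tauG_bit (l : ℕ) : ∀ (L : List (ℕ × ℕ)) (k : ℕ), (tauG l L).testBit k =
    if k < L.length then decide ((((pcF (l &&& (L.getD k (0, 0)).1) + 2 * pcF (l &&& (L.getD k (0, 0)).2)) / 2) % 2) = 1)
    else false := by
  intro L
  induction L with
  | nil =>
    intro k
    simp [tauG]
  | cons c t ih =>
    intro k
    simp only [tauG, List.length_cons]
    generalize hA : (Nat.mod (Nat.div (Nat.add (pcF (Nat.land l c.1)) (Nat.mul 2 (pcF (Nat.land l c.2)))) 2) 2) = a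
    have ha : a = ((pcF (l &&& c.1) + 2 * pcF (l &&& c.2)) / 2) % 2 := hA.symm
    have ha2 : a < 2 := by rw [ha]; omega
    show (a + 2 * tauG l t).testBit k = _
    cases k with
    | zero =>
      rw [Nat.testBit_zero]
      simp only [Nat.zero_lt_succ, if_true, List.getD_cons_zero]
      rw [← ha]
      have : (a + 2 * tauG l t) % 2 = a := by omega
      rw [this]
    | succ k =>
      rw [Nat.testBit_succ]
      have : (a + 2 * tauG l t) / 2 = tauG l t := by omega
      rw [this, ih k]
      simp only [List.getD_cons_succ, add_lt_add_iff_right]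

theorem pcS_zero (a : ℕ) : pcS a 0 = 0 := by
  rw [pcS]
  simp

theorem getD_mem' {α : Type*} {L : List α} {i : ℕ} {d : α} (h : i < L.length) : L.getD i d ∈ L := by
  rw [List.getD_eq_getElem _ _ h]
  exact List.getElem_mem h

section
variable (F : EnumFacts)
include F

theorem pcF_eq (n : ℕ) : pcF n = pcW 56 n := pc56_eq F.hpc n

theorem synd_A {x : RuVec} (hx : x ∈ Lp) : xorL colA 0 (hw x) = tauG (lw x) chkA := by
  apply Nat.eq_of_testBit_eq
  intro j
  rw [xorL_testBit, tauG_bit, F.hcolL.1, F.hlenA]
  by_cases hj : j < 19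
  · rw [if_pos hj]
    have hc : chkA.getD j (0, 0) ∈ chkA := getD_mem' (by rw [F.hlenA]; exact hj)
    have h1 := check_eq hx (F.hA _ hc)
    have e1 : ∑ i ∈ Finset.range 56, ((hw x).testBit (0 + i) && (colA.getD i 0).testBit j).toNat =
        pcS (hw x) (chkA.getD j (0, 0)).1 := by
      refine Finset.sum_congr rfl fun i hi => ?_
      rw [Nat.zero_add, F.hcolA j hj i (Finset.mem_range.mp hi)]
    rw [e1, pcF_eq F, pcF_eq F, pcW_and, pcW_and]
    generalize pcS (hw x) (chkA.getD j (0, 0)).1 = N3 at h1 ⊢
    generalize pcS (lw x) (chkA.getD j (0, 0)).1 = N1 at h1 ⊢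
    generalize pcS (lw x) (chkA.getD j (0, 0)).2 = N2 at h1 ⊢
    exact decide_eq_decide.mpr (by omega)
  · rw [if_neg hj]
    have : ∀ i ∈ Finset.range 56, ((hw x).testBit (0 + i) && (colA.getD i 0).testBit j).toNat = 0 := by
      intro i hi
      have hi' := Finset.mem_range.mp hi
      have h2 : colA.getD i 0 ∈ colA := getD_mem' (by rw [F.hcolL.1]; exact hi')
      have h3 : (colA.getD i 0).testBit j = false := by
        apply Nat.testBit_lt_two_pow
        exact lt_of_lt_of_le (F.hboundA _ h2) (Nat.pow_le_pow_right (by norm_num) (by omega))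
      rw [h3]
      simp
    rw [Finset.sum_eq_zero this]
    rfl

theorem synd_T {x : RuVec} (hx : x ∈ Lp) : xorL colT 0 (lw x) = 0 := by
  apply Nat.eq_of_testBit_eq
  intro j
  rw [xorL_testBit, F.hcolL.2, Nat.zero_testBit]
  by_cases hj : j < 37
  · have hc : chkT.getD j 0 ∈ chkT := getD_mem' (by rw [F.hlenT]; exact hj)
    have h1 := check_eq hx (F.hT _ hc)
    rw [pcS_zero, pcS_zero] at h1
    have e1 : ∑ i ∈ Finset.range 56, ((lw x).testBit (0 + i) && (colT.getD i 0).testBit j).toNat =
        pcS (lw x) (chkT.getD j 0) := by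
      refine Finset.sum_congr rfl fun i hi => ?_
      rw [Nat.zero_add, F.hcolT j hj i (Finset.mem_range.mp hi)]
    rw [e1]
    generalize pcS (lw x) (chkT.getD j 0) = N at h1 ⊢
    simp only [decide_eq_false_iff_not]
    omega
  · have : ∀ i ∈ Finset.range 56, ((lw x).testBit (0 + i) && (colT.getD i 0).testBit j).toNat = 0 := by
      intro i hi
      have hi' := Finset.mem_range.mp hi
      have h2 : colT.getD i 0 ∈ colT := getD_mem' (by rw [F.hcolL.2]; exact hi')
      have h3 : (colT.getD i 0).testBit j = false := by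
        apply Nat.testBit_lt_two_pow
        exact lt_of_lt_of_le (F.hboundT _ h2) (Nat.pow_le_pow_right (by norm_num) (by omega))
      rw [h3]
      simp
    rw [Finset.sum_eq_zero this]
    rfl

end

theorem shift_mul (h sh : ℕ) : Nat.shiftRight (h * 2 ^ sh) sh = h := by
  show (h * 2 ^ sh) >>> sh = h
  rw [Nat.shiftRight_eq_div_pow]
  exact Nat.mul_div_cancel _ (by positivity)

theorem cntL_eq (h : ℕ) : ∀ (cs : List ℕ) (f : ℕ), cntL cs f h = ∑ i ∈ Finset.range cs.length, (h.testBit (f + i)).toNat := by
  intro cs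
  induction cs with
  | nil => intro f; rfl
  | cons c cs ih =>
    intro f
    rw [List.length_cons, Finset.sum_range_succ', cntL, ih (f + 1), tb_eq, Nat.add_zero, add_comm]
    have e1 : (bif h.testBit f then 1 else 0) = (h.testBit f).toNat := by cases h.testBit f <;> rfl
    rw [e1]
    congr 1
    refine Finset.sum_congr rfl fun i _ => ?_
    rw [show f + (i + 1) = f + 1 + i by omega]

theorem xorL_split (h l : ℕ) : ∀ (cs : List ℕ) (f : ℕ), f + cs.length ≤ 56 →
    xorL cs f h = xorL cs f (h &&& l) ^^^ xorL cs f (h &&& coL l) := by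
  intro cs
  induction cs with
  | nil => intro f _; simp [xorL]
  | cons c cs ih =>
    intro f hf
    have hf0 : f < 56 := by simp at hf; omega
    have hf1 : f + 1 + cs.length ≤ 56 := by simp at hf; omega
    simp only [xorL, tb_eq, Nat.testBit_and, coL_bit _ hf0]
    rw [ih (f + 1) hf1]
    cases h.testBit f <;> cases l.testBit f <;> simp
    all_goals ac_rfl

/-- Completeness of the enumeration. -/
theorem min_complete (F : EnumFacts) {x : RuVec} (hx : x ∈ Lp) (hN : ruNorm x = 16) : zOf x ∈ minEnum := by
  have hlb := norm_lb x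
  rw [hN] at hlb
  have hlb' : pcW 56 (lw x) + 4 * pcS (hw x) (coL (lw x)) ≤ 16 := by exact_mod_cast hlb
  -- the low word
  have hy : lw x * 2 ^ 37 ∈ LLdata := by
    rw [← F.hLL, LLs, F.htagT]
    have := mem_solve_tag (ok := okLow) (l := mask56) (h := lw x) (sh := 37) (τ := 0) (cs := colT) (lw_lt x) F.hcolL.2
      (fun i hi _ => mask56_bit hi) (synd_T F hx) (by
        unfold okLow
        rw [shift_mul, pcF_eq F]
        exact Nat.ble_eq_true_of_le (by omega))
    exact this
  have hlow := F.hlow _ hy
  have hshift : Nat.shiftRight (lw x * 2 ^ 37) 37 = lw x := shift_mul _ _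
  unfold lowOK at hlow
  rw [hshift, pcF_eq F] at hlow
  simp only [Bool.or_eq_true, Bool.and_eq_true] at hlow
  rcases hlow with (h16 | ⟨h8, hc⟩) | h0
  · -- weight 16
    have h16' : pcW 56 (lw x) = 16 := Nat.eq_of_beq_eq_true h16
    have hsub : ∀ i, i < 56 → (hw x).testBit i = true → (lw x).testBit i = true := by
      have hp : pcS (hw x) (coL (lw x)) = 0 := by omega
      intro i hi hb
      have := (Finset.sum_eq_zero_iff).mp hp i (Finset.mem_range.mpr hi)
      rw [hb, coL_bit _ hi] at this
      cases e : (lw x).testBit i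
      · rw [e] at this
        cases this
      · rfl
    have hmem : hw x * 2 ^ 19 ∈ solsOf (lw x) := by
      unfold solsOf
      rw [F.htagA]
      exact mem_solve_tag (hw_lt x) F.hcolL.1 hsub (synd_A F hx) rfl
    have hz : zOf x = zBits (lw x) (hw x) := zOf_of_bval (s_type hN h16')
    rw [hz]
    refine List.mem_append_right _ (List.mem_flatMap.mpr ⟨_, hy, ?_⟩)
    unfold enumS
    rw [hshift, pcF_eq F, h16]
    simp only [cond_true]
    refine List.mem_map.mpr ⟨_, hmem, ?_⟩
    rw [shift_mul]
  · -- weight 8: no such vector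
    exfalso
    have h8' : pcW 56 (lw x) = 8 := Nat.eq_of_beq_eq_true h8
    have hp : pcS (hw x) (coL (lw x)) ≤ 2 := by omega
    have hsplit := xorL_split (hw x) (lw x) colA 0 (by rw [F.hcolL.1])
    rw [synd_A F hx] at hsplit
    have hu : InSpan (gensL (lw x) colA 0) (xorL colA 0 (hw x &&& lw x)) := by
      apply inSpan_xorL
      intro i _ hb
      rw [Nat.testBit_and, Bool.and_eq_true] at hb
      simpa using hb.2
    have hv : InSpanB 2 (gensL (coL (lw x)) colA 0) (xorL colA 0 (hw x &&& coL (lw x))) := by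
      apply inSpanB_xorL
      · intro i _ hb
        rw [Nat.testBit_and, Bool.and_eq_true] at hb
        simpa using hb.2
      · rw [cntL_eq, F.hcolL.1]
        have e : ∑ i ∈ Finset.range 56, ((hw x &&& coL (lw x)).testBit (0 + i)).toNat = pcS (hw x) (coL (lw x)) := by
          rw [pcS]
          refine Finset.sum_congr rfl fun i _ => ?_
          rw [Nat.zero_add, Nat.testBit_and]
        rw [e]
        exact hp
    have h1 := allSpan_sound _ _ _ _ hc hu
    have h2 := noLow_sound _ _ _ h1
    apply h2
    rw [hsplit, Nat.xor_comm (xorL colA 0 (hw x &&& lw x)), Nat.xor_assoc, Nat.xor_self, Nat.xor_zero]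
    exact hv
  · -- weight 0
    have hl0 : lw x = 0 := by
      have := Nat.eq_of_beq_eq_true h0
      have h3 : lw x * 2 ^ 37 = 0 := this
      simpa using h3
    rw [hl0] at hlb'
    have hpc : pcW 56 (hw x) ≤ 4 := by
      have e : pcS (hw x) (coL 0) = pcW 56 (hw x) := by
        rw [pcS, pcW_eq_sum]
        refine Finset.sum_congr rfl fun i hi => ?_
        rw [coL_bit _ (Finset.mem_range.mp hi)]
        simp
      rw [e] at hlb'
      omega
    have hs : xorL colA 0 (hw x) = 0 := by
      rw [synd_A F hx, hl0, F.htau0]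
    have hc : cntL colA 0 (hw x) = pcW 56 (hw x) := by
      rw [cntL_eq, F.hcolL.1, pcW_eq_sum]
      refine Finset.sum_congr rfl fun i _ => ?_
      rw [Nat.zero_add]
    have hh0 : pcW 56 (hw x) = 0 := by
      by_contra hne
      exact noLowNE_sound 3 (hw x) colA 0 F.hne (by rw [F.hcolL.1]) (by rw [hc]; omega) (by rw [hc]; exact hne) hs
    have hw0 : hw x = 0 := by
      apply Nat.eq_of_testBit_eq
      intro i
      rw [Nat.zero_testBit]
      by_cases hi : i < 56
      · rw [pcW_eq_sum] at hh0
        have := (Finset.sum_eq_zero_iff).mp hh0 i (Finset.mem_range.mpr hi)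
        cases e : (hw x).testBit i
        · rfl
        · rw [e] at this
          cases this
      · exact Nat.testBit_lt_two_pow (lt_of_lt_of_le (hw_lt x) (Nat.pow_le_pow_right (by norm_num) (by omega)))
    obtain ⟨f, hf, s, hfr⟩ := frame_type hN hl0 hw0
    rw [zOf_of_frame hfr]
    refine List.mem_append_left _ (List.mem_flatMap.mpr ⟨f, List.mem_range.mpr hf, ?_⟩)
    cases s <;> simp

end Cfsg.Agent.Lib.RuAut
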