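import Mathlib
import Cfsg.Agent.Lib.RuAut.Enum

/-!
# The action of the automorphisms on codes of vectors
-/

set_option autoImplicit false

namespace Cfsg.Agent.Lib.RuAut

open Cfsg.Spor Cfsg.Agent.Lib.RuMin

/-! ### Linearity of the fields -/

theorem fld_add (x y : RuVec) (f : ℕ) : fld (x + y) f = fld x f + fld y f := by
  unfold fld
  split_ifs <;> simp

theorem fld_zero (f : ℕ) : fld (0 : RuVec) f = 0 := by
  unfold fld
  split_ifs <;> simp

/-- A field as an additive map. -/
def fldHom (f : ℕ) : RuVec →+ ℤ where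
  toFun x := fld x f
  map_zero' := fld_zero f
  map_add' x y := fld_add x y f

theorem fld_zsmul (n : ℤ) (x : RuVec) (f : ℕ) : fld (n • x) f = n * fld x f := by
  have := map_zsmul (fldHom f) n x
  simpa [fldHom] using this

theorem fld_sum {ι : Type*} (s : Finset ι) (g : ι → RuVec) (f : ℕ) : fld (∑ i ∈ s, g i) f = ∑ i ∈ s, fld (g i) f :=
  map_sum (fldHom f) g s

/-! ### The frame -/

/-- Four times a basis vector of the 56 fields. -/
def frm (i : ℕ) : RuVec := fun p => ⟨if 2 * pos p = i then 4 else 0, if 2 * pos p + 1 = i then 4 else 0⟩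

theorem fld_frm {i f : ℕ} (hf : f < 56) : fld (frm i) f = if f = i then 4 else 0 := by
  unfold fld frm
  by_cases h : f % 2 = 0
  · rw [if_pos h]
    show (if 2 * pos (idxOf f) = i then (4 : ℤ) else 0) = _
    rw [pos_idxOf_even f hf h]
  · rw [if_neg h]
    show (if 2 * pos (idxOf f) + 1 = i then (4 : ℤ) else 0) = _
    rw [pos_idxOf_odd f hf (by omega)]

/-- The vector as a combination of the frame. -/
theorem four_smul_eq (x : RuVec) : (4 : ℤ) • x = ∑ i ∈ Finset.range 56, fld x i • frm i := by
  apply fld_ext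
  intro f hf
  rw [fld_zsmul, fld_sum]
  simp_rw [fld_zsmul, fld_frm hf]
  simp [Finset.sum_ite_eq', Finset.mem_range, hf]
  ring

theorem norm_frm {i : ℕ} (hi : i < 56) : ruNorm (frm i) = 16 := by
  rw [norm_eq]
  have : ∀ f ∈ Finset.range 56, fld (frm i) f ^ 2 = if f = i then 16 else 0 := by
    intro f hf
    rw [fld_frm (Finset.mem_range.mp hf)]
    split_ifs <;> norm_num
  rw [Finset.sum_congr rfl this]
  simp [Finset.sum_ite_eq', Finset.mem_range, hi]

/-! ### Codes and evaluation -/

/-- The evaluation of the fields in base 256. -/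
def evF (x : RuVec) : ℤ := ∑ f ∈ Finset.range 56, fld x f * 256 ^ f

theorem evF_add (x y : RuVec) : evF (x + y) = evF x + evF y := by
  unfold evF
  rw [← Finset.sum_add_distrib]
  refine Finset.sum_congr rfl fun f _ => ?_
  rw [fld_add]
  ring

theorem evF_zsmul (n : ℤ) (x : RuVec) : evF (n • x) = n * evF x := by
  unfold evF
  rw [Finset.mul_sum]
  refine Finset.sum_congr rfl fun f _ => ?_
  rw [fld_zsmul]
  ring

/-- The evaluation as an additive map. -/
def evHom : RuVec →+ ℤ where
  toFun := evF
  map_zero' := by simp [evF, fld_zero]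
  map_add' := evF_add

theorem evF_sum {ι : Type*} (s : Finset ι) (g : ι → RuVec) : evF (∑ i ∈ s, g i) = ∑ i ∈ s, evF (g i) :=
  map_sum evHom g s

/-- The code of the zero vector. -/
def BB : ℕ := encF (fun _ => 128) 56 0

/-- A vector with small fields. -/
def Small (x : RuVec) : Prop := ∀ f, f < 56 → -128 ≤ fld x f ∧ fld x f < 128

theorem small_of_norm {x : RuVec} (h : ruNorm x = 16) : Small x := by
  intro f hf
  rw [norm_eq] at h
  have h1 : fld x f ^ 2 ≤ 16 := by
    rw [← h]
    exact Finset.single_le_sum (f := fun i => fld x i ^ 2) (fun i _ => by positivity) (Finset.mem_range.mpr hf)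
  constructor <;> nlinarith

theorem encF_cast (d : ℕ → ℕ) : ∀ (n f : ℕ), (encF d n f : ℤ) = ∑ i ∈ Finset.range n, (d (f + i) : ℤ) * 256 ^ i := by
  intro n
  induction n with
  | zero => intro f; simp [encF]
  | succ n ih =>
    intro f
    rw [Finset.sum_range_succ', encF]
    show ((d f + 256 * encF d n (f + 1) : ℕ) : ℤ) = _
    push_cast
    rw [ih (f + 1), Finset.mul_sum, add_comm]
    simp only [Nat.add_zero, pow_zero, mul_one]
    congr 1
    refine Finset.sum_congr rfl fun i _ => ?_
    rw [show f + (i + 1) = f + 1 + i by omega, pow_succ]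
    ring

theorem zOf_eq {x : RuVec} (h : Small x) : (zOf x : ℤ) = evF x + BB := by
  unfold zOf BB evF
  rw [encF_cast, encF_cast, ← Finset.sum_add_distrib]
  refine Finset.sum_congr rfl fun f hf => ?_
  have hf' := Finset.mem_range.mp hf
  rw [Nat.zero_add, digF, Int.toNat_of_nonneg (by have := (h f hf').1; omega)]
  push_cast
  ring

/-- Digits. -/
theorem encF_mod (d : ℕ → ℕ) (hd : ∀ i, d i < 256) (n f : ℕ) : encF d (n + 1) f % 256 = d f := by
  show (Nat.add (d f) (Nat.mul 256 (encF d n (f + 1)))) % 256 = d f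
  show (d f + 256 * encF d n (f + 1)) % 256 = d f
  rw [Nat.add_mul_mod_self_left]
  exact Nat.mod_eq_of_lt (hd f)

theorem encF_div (d : ℕ → ℕ) (hd : ∀ i, d i < 256) (n f : ℕ) : encF d (n + 1) f / 256 = encF d n (f + 1) := by
  show (d f + 256 * encF d n (f + 1)) / 256 = _
  rw [Nat.add_mul_div_left _ _ (by norm_num), Nat.div_eq_of_lt (hd f), Nat.zero_add]

/-- The digit of a code. -/
def dg (z j : ℕ) : ℕ := Nat.mod (Nat.shiftRight z (Nat.mul 8 j)) 256

/-- The digit of a field, with clipping outside the range. -/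
def digC (x : RuVec) (f : ℕ) : ℕ := if f < 56 then digF x f else 128

theorem digC_lt {x : RuVec} (h : Small x) (f : ℕ) : digC x f < 256 := by
  unfold digC digF
  split_ifs with hf
  · have h1 := h f hf
    omega
  · norm_num

theorem zOf_eq_C (x : RuVec) : zOf x = encF (digC x) 56 0 := by
  unfold zOf
  refine encF_congr _ _ fun i hi => ?_
  simp only [digC, Nat.zero_add]
  rw [if_pos hi]

theorem dg_encF (d : ℕ → ℕ) (hd : ∀ i, d i < 256) : ∀ (n f j : ℕ), j < n → dg (encF d n f) j = d (f + j) := by
  intro n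
  induction n with
  | zero => intro f j hj; omega
  | succ n ih =>
    intro f j hj
    cases j with
    | zero =>
      show (encF d (n + 1) f >>> (8 * 0)) % 256 = _
      simp only [Nat.mul_zero, Nat.shiftRight_zero, Nat.add_zero]
      exact encF_mod d hd n f
    | succ j =>
      have h1 := ih (f + 1) j (by omega)
      rw [show f + (j + 1) = f + 1 + j by omega, ← h1]
      show (encF d (n + 1) f >>> (8 * (j + 1))) % 256 = (encF d n (f + 1) >>> (8 * j)) % 256
      rw [Nat.shiftRight_eq_div_pow, Nat.shiftRight_eq_div_pow, ← encF_div d hd, show 8 * (j + 1) = 8 + 8 * j by omega,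
        pow_add, Nat.div_div_eq_div_mul]
      norm_num

theorem dg_zOf {x : RuVec} (h : Small x) {j : ℕ} (hj : j < 56) : dg (zOf x) j = digF x j := by
  rw [zOf_eq_C, dg_encF _ (digC_lt h) 56 0 j hj, Nat.zero_add]
  simp only [digC]
  rw [if_pos hj]

theorem fld_of_dg {x : RuVec} (h : Small x) {j : ℕ} (hj : j < 56) : fld x j = (dg (zOf x) j : ℤ) - 128 := by
  rw [dg_zOf h hj, digF, Int.toNat_of_nonneg (by have := (h j hj).1; omega)]
  ring

theorem zOf_inj {x y : RuVec} (hx : Small x) (hy : Small y) (h : zOf x = zOf y) : x = y := by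
  apply fld_ext
  intro f hf
  rw [fld_of_dg hx hf, fld_of_dg hy hf, h]

/-! ### Scanning -/

/-- The weighted sum of the digits of a code. -/
noncomputable def scan (bias : ℕ) (L : List ℕ) : ℕ → ℤ :=
  List.rec (fun _ => 0) (fun w _ ih z =>
    bif Nat.beq (Nat.mod z 256) 128 then ih (Nat.div z 256)
    else Int.add (Int.mul (Int.subNatNat (Nat.mod z 256) 128) (Int.subNatNat w bias)) (ih (Nat.div z 256))) L

theorem scan_nil (bias z : ℕ) : scan bias [] z = 0 := rfl

theorem scan_cons (bias w : ℕ) (ws : List ℕ) (z : ℕ) : scan bias (w :: ws) z =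
    bif Nat.beq (Nat.mod z 256) 128 then scan bias ws (Nat.div z 256)
    else Int.add (Int.mul (Int.subNatNat (Nat.mod z 256) 128) (Int.subNatNat w bias)) (scan bias ws (Nat.div z 256)) := rfl

theorem encF_mod_nat (d : ℕ → ℕ) (hd : ∀ i, d i < 256) (n f : ℕ) : Nat.mod (encF d (n + 1) f) 256 = d f := encF_mod d hd n f

theorem encF_div_nat (d : ℕ → ℕ) (hd : ∀ i, d i < 256) (n f : ℕ) : Nat.div (encF d (n + 1) f) 256 = encF d n (f + 1) := encF_div d hd n f

theorem scan_encF (bias : ℕ) (d : ℕ → ℕ) (hd : ∀ i, d i < 256) : ∀ (ws : List ℕ) (f : ℕ), scan bias ws (encF d ws.length f) =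
    ∑ i ∈ Finset.range ws.length, ((d (f + i) : ℤ) - 128) * ((ws.getD i 0 : ℤ) - bias) := by
  intro ws
  induction ws with
  | nil => intro f; rfl
  | cons w ws ih =>
    intro f
    rw [List.length_cons, Finset.sum_range_succ']
    have h1 : Nat.mod (encF d (ws.length + 1) f) 256 = d f := encF_mod d hd _ _
    have h2 : Nat.div (encF d (ws.length + 1) f) 256 = encF d ws.length (f + 1) := encF_div d hd _ _
    have h3 := ih (f + 1)
    have e : ∑ i ∈ Finset.range ws.length, ((d (f + (i + 1)) : ℤ) - 128) * (((w :: ws).getD (i + 1) 0 : ℕ) - bias) =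
        ∑ i ∈ Finset.range ws.length, ((d (f + 1 + i) : ℤ) - 128) * ((ws.getD i 0 : ℕ) - bias) := by
      refine Finset.sum_congr rfl fun i _ => ?_
      rw [show f + (i + 1) = f + 1 + i by omega, List.getD_cons_succ]
    rw [e, ← h3, Nat.add_zero, List.getD_cons_zero]
    rw [scan_cons, h1, h2]
    cases hb : Nat.beq (d f) 128
    · simp only [cond_false]
      show (Int.subNatNat (d f) 128) * (Int.subNatNat w bias) + _ = _
      rw [Int.subNatNat_eq_coe, Int.subNatNat_eq_coe, add_comm]
      push_cast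
      ring
    · have : d f = 128 := Nat.eq_of_beq_eq_true hb
      have e0 : ((d (f + 0) : ℤ) - 128) = 0 := by rw [Nat.add_zero, this]; norm_num
      simp only [cond_true]
      rw [e0, zero_mul, add_zero]

theorem scan_zOf (bias : ℕ) {x : RuVec} (h : Small x) {ws : List ℕ} (hw : ws.length = 56) :
    scan bias ws (zOf x) = ∑ i ∈ Finset.range 56, fld x i * ((ws.getD i 0 : ℤ) - bias) := by
  have h1 := scan_encF bias (digC x) (digC_lt h) ws 0
  rw [hw, ← zOf_eq_C] at h1
  rw [h1]
  refine Finset.sum_congr rfl fun i hi => ?_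
  have hi' := Finset.mem_range.mp hi
  rw [Nat.zero_add]
  simp only [digC]
  rw [if_pos hi', digF, Int.toNat_of_nonneg (by have := (h i hi').1; omega)]
  ring

/-- The image of a code under the automorphism with the given codes of the images of the frame. -/
noncomputable def applyZ (E : List ℕ) (z : ℕ) : ℕ :=
  Int.toNat (Int.add (Int.ediv (scan BB E z) 4) BB)

end Cfsg.Agent.Lib.RuAut
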