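import Mathlib
import Cfsg.Agent.Lib.RuMin.Main

/-!
# Norm preserving additive maps of the Rudvalis lattice
-/

set_option autoImplicit false

namespace Cfsg.Agent.Lib.RuAut

open Cfsg.Spor Cfsg.Agent.Lib.RuMin

/-- An additive map of the lattice commuting with `i` and preserving the norm. -/
structure IsoMap (F : ruLattice → ruLattice) : Prop where
  add : ∀ v w, F (v + w) = F v + F w
  comm : ∀ v, F (ruI v) = ruI (F v)
  norm : ∀ v, ruNorm ((F v : ruLattice) : RuVec) = ruNorm (v : RuVec)

/-- The elements of the group are such maps. -/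
theorem isoMap_of_mem (f : fourRu) : IsoMap (f : Equiv.Perm ruLattice) :=
  ⟨f.2.1, f.2.2.1, f.2.2.2⟩

end Cfsg.Agent.Lib.RuAut
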