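import Mathlib
import Cfsg.Agent.Lib.RuAut.Core
import Cfsg.Agent.Lib.RuAut.Iso
import Cfsg.Agent.Lib.RuAut.LpEq

/-!
# Maps of the lattice given by codes of the images of the frame
-/

set_option autoImplicit false

namespace Cfsg.Agent.Lib.RuAut

open Cfsg.Spor Cfsg.Agent.Lib.RuMin

theorem frm_even : ∀ q : RuIdx, frm (2 * pos q) = e4 q := by
  intro q
  funext p
  by_cases h : p = q
  · subst h
    simp [frm, e4]
    rfl
  · have hne : pos p ≠ pos q := by
      intro e
      apply h
      revert p q
      decide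
    have h1 : 2 * pos p ≠ 2 * pos q := by omega
    have h2 : 2 * pos p + 1 ≠ 2 * pos q := by omega
    simp only [frm, e4, Pi.single_apply, if_neg h, if_neg h1, if_neg h2]
    rfl

theorem frm_odd : ∀ q : RuIdx, frm (2 * pos q + 1) = gI • e4 q := by
  intro q
  funext p
  by_cases h : p = q
  · subst h
    simp [frm, e4, gI]
    ext <;> simp
  · have hne : pos p ≠ pos q := by
      intro e
      apply h
      revert p q
      decide
    have h1 : 2 * pos p ≠ 2 * pos q + 1 := by omega
    have h2 : 2 * pos p + 1 ≠ 2 * pos q + 1 := by omega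
    simp only [frm, e4, Pi.smul_apply, smul_eq_mul, Pi.single_apply, if_neg h, if_neg h1, if_neg h2, mul_zero]
    rfl

theorem frm_mem (i : ℕ) : frm i ∈ ruLattice := by
  by_cases hi : i < 56
  · by_cases h2 : i % 2 = 0
    · rw [← pos_idxOf_even i hi h2, frm_even]
      exact e4_mem_L _
    · rw [← pos_idxOf_odd i hi (by omega), frm_odd]
      exact gI_smul_mem_ruLattice (e4_mem_L _)
  · have : frm i = 0 := by
      funext p
      have hp : ∀ p : RuIdx, 2 * pos p + 1 < 56 := by decide
      have := hp p
      have h1 : 2 * pos p ≠ i := by omega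
      have h2 : 2 * pos p + 1 ≠ i := by omega
      simp only [frm, if_neg h1, if_neg h2]
      rfl
    rw [this]
    exact zero_mem _

/-- A frame vector as an element of the lattice. -/
def frmL (i : ℕ) : ruLattice := ⟨frm i, frm_mem i⟩

/-- The codes of the images of the frame. -/
def GenD (F : ruLattice → ruLattice) (E : List ℕ) : Prop :=
  E.length = 56 ∧ ∀ i, i < 56 → zOf ((F (frmL i) : ruLattice) : RuVec) = E.getD i 0

section
variable {F : ruLattice → ruLattice} (hF : IsoMap F)
include hF

theorem four_smul_map (x : ruLattice) : (4 : ℤ) • F x = ∑ i ∈ Finset.range 56, fld (x : RuVec) i • F (frmL i) := by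
  let Fh : ruLattice →+ ruLattice := AddMonoidHom.mk' F hF.add
  have hx : (4 : ℤ) • x = ∑ i ∈ Finset.range 56, fld (x : RuVec) i • frmL i := by
    apply Subtype.ext
    have := four_smul_eq (x : RuVec)
    simpa [frmL] using this
  have := congrArg Fh hx
  rw [map_zsmul, map_sum] at this
  simpa [Fh, map_zsmul] using this

theorem evF_map (x : ruLattice) :
    4 * evF ((F x : ruLattice) : RuVec) = ∑ i ∈ Finset.range 56, fld (x : RuVec) i * evF ((F (frmL i) : ruLattice) : RuVec) := by
  have h := congrArg (fun y : ruLattice => evF (y : RuVec)) (four_smul_map hF x)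
  simp only [AddSubgroupClass.coe_zsmul, AddSubgroup.val_finsetSum, evF_zsmul, evF_sum] at h
  exact h

end

theorem applyZ_eq (E : List ℕ) (z : ℕ) : applyZ E z = Int.toNat (scan BB E z / 4 + (BB : ℤ)) := rfl

theorem applyZ_aux (s e b : ℤ) (n : ℕ) (h1 : s = 4 * e) (h2 : (n : ℤ) = e + b) : Int.toNat (s / 4 + b) = n := by
  subst h1
  have : 4 * e / 4 = e := by simp
  rw [this, ← h2]
  simp

theorem GenD.apply {F : ruLattice → ruLattice} (hF : IsoMap F) {E : List ℕ} (hE : GenD F E) {x : ruLattice}
    (hN : ruNorm (x : RuVec) = 16) : zOf ((F x : ruLattice) : RuVec) = applyZ E (zOf (x : RuVec)) := by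
  have hSx : Small (x : RuVec) := small_of_norm hN
  have hFx : Small ((F x : ruLattice) : RuVec) := small_of_norm (by rw [hF.norm]; exact hN)
  have hscan := scan_zOf BB hSx hE.1
  have h1 : scan BB E (zOf (x : RuVec)) = 4 * evF ((F x : ruLattice) : RuVec) := by
    rw [hscan, evF_map hF]
    refine Finset.sum_congr rfl fun i hi => ?_
    have hi' := Finset.mem_range.mp hi
    have hS : Small ((F (frmL i) : ruLattice) : RuVec) := small_of_norm (by rw [hF.norm]; exact norm_frm hi')
    rw [← hE.2 i hi', zOf_eq hS]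
    ring
  have h2 : (zOf ((F x : ruLattice) : RuVec) : ℤ) = evF ((F x : ruLattice) : RuVec) + BB := zOf_eq hFx
  rw [applyZ_eq]
  exact (applyZ_aux _ _ _ _ h1 h2).symm

/-- The list of codes of a composition. -/
noncomputable def mulE (E E' : List ℕ) : List ℕ :=
  List.rec [] (fun z _ ih => applyZ E z :: ih) E'

theorem mulE_eq (E E' : List ℕ) : mulE E E' = E'.map (applyZ E) := by
  induction E' with
  | nil => rfl
  | cons z t ih =>
    show applyZ E z :: mulE E t = _
    rw [ih]
    rfl

theorem IsoMap.comp {F G : ruLattice → ruLattice} (hF : IsoMap F) (hG : IsoMap G) : IsoMap (F ∘ G) :=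
  ⟨fun v w => by simp only [Function.comp, hG.add, hF.add],
   fun v => by simp only [Function.comp, hG.comm, hF.comm],
   fun v => by simp only [Function.comp, hF.norm, hG.norm]⟩

theorem GenD.comp {F G : ruLattice → ruLattice} (hF : IsoMap F) (hG : IsoMap G) {E E' : List ℕ} (hE : GenD F E)
    (hE' : GenD G E') : GenD (F ∘ G) (mulE E E') := by
  rw [mulE_eq]
  refine ⟨by rw [List.length_map]; exact hE'.1, fun i hi => ?_⟩
  have hlen : i < E'.length := by rw [hE'.1]; exact hi
  rw [List.getD_eq_getElem _ _ (by simpa using hlen), List.getElem_map, ← List.getD_eq_getElem _ 0 hlen, ← hE'.2 i hi]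
  exact GenD.apply hF hE (by rw [hG.norm]; exact norm_frm hi)

/-- The codes of the frame itself. -/
noncomputable def idE : List ℕ := (List.range 56).map fun i => frameZ i false

theorem zOf_frm {i : ℕ} (hi : i < 56) : zOf (frm i) = frameZ i false := by
  apply zOf_of_frame
  intro j hj
  rw [fld_frm hj]
  simp

theorem getD_idE {i : ℕ} (hi : i < 56) : idE.getD i 0 = frameZ i false := by
  unfold idE
  rw [List.getD_eq_getElem _ _ (by simpa using hi), List.getElem_map, List.getElem_range]

theorem genD_id : GenD id idE := by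
  refine ⟨by simp [idE], fun i hi => ?_⟩
  rw [getD_idE hi]
  exact zOf_frm hi

/-- Two maps agreeing on the frame agree. -/
theorem IsoMap.ext_frame {F G : ruLattice → ruLattice} (hF : IsoMap F) (hG : IsoMap G)
    (h : ∀ i, i < 56 → F (frmL i) = G (frmL i)) : F = G := by
  funext x
  have h1 := four_smul_map hF x
  have h2 := four_smul_map hG x
  have h3 : (4 : ℤ) • F x = (4 : ℤ) • G x := by
    rw [h1, h2]
    refine Finset.sum_congr rfl fun i hi => ?_
    rw [h i (Finset.mem_range.mp hi)]
  have h4 : ((4 : ℤ) • F x : ruLattice) = (4 : ℤ) • G x := h3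
  apply Subtype.ext
  have h5 := congrArg (fun y : ruLattice => (y : RuVec)) h4
  simp only [AddSubgroupClass.coe_zsmul] at h5
  funext p
  have h6 := congrFun h5 p
  simp only [Pi.smul_apply] at h6
  exact smul_right_injective GaussianInt (by norm_num : (4 : ℤ) ≠ 0) h6

theorem GenD.ext {F G : ruLattice → ruLattice} (hF : IsoMap F) (hG : IsoMap G) {E : List ℕ} (h1 : GenD F E) (h2 : GenD G E) :
    F = G := by
  apply IsoMap.ext_frame hF hG
  intro i hi
  apply Subtype.ext
  have hS1 : Small ((F (frmL i) : ruLattice) : RuVec) := small_of_norm (by rw [hF.norm]; exact norm_frm hi)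
  have hS2 : Small ((G (frmL i) : ruLattice) : RuVec) := small_of_norm (by rw [hG.norm]; exact norm_frm hi)
  exact zOf_inj hS1 hS2 (by rw [h1.2 i hi, h2.2 i hi])

/-! ### Preservation of the Hermitian form -/

theorem IsoMap.re_herm {F : ruLattice → ruLattice} (hF : IsoMap F) (x y : ruLattice) :
    (herm ((F x : ruLattice) : RuVec) ((F y : ruLattice) : RuVec)).re = (herm (x : RuVec) (y : RuVec)).re := by
  have h1 := ruNorm_add ((F x : ruLattice) : RuVec) ((F y : ruLattice) : RuVec)
  have h2 := ruNorm_add (x : RuVec) (y : RuVec)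
  have h3 := hF.norm (x + y)
  rw [hF.add] at h3
  simp only [AddSubgroup.coe_add] at h3
  rw [h3, h2, hF.norm, hF.norm] at h1
  omega

theorem herm_swap_re (x y : RuVec) : (herm x y).re = (herm y x).re := by
  rw [herm_re, herm_re]
  refine Finset.sum_congr rfl fun i _ => mul_comm _ _

theorem herm_frm_re (x : RuVec) {j : ℕ} (hj : j < 56) : (herm x (frm j)).re = 4 * fld x j := by
  rw [herm_re]
  have : ∀ i ∈ Finset.range 56, fld x i * fld (frm j) i = if i = j then fld x i * 4 else 0 := by
    intro i hi
    rw [fld_frm (Finset.mem_range.mp hi)]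
    split_ifs <;> simp
  rw [Finset.sum_congr rfl this, Finset.sum_ite_eq' , if_pos (Finset.mem_range.mpr hj)]
  ring

/-- The codes of the inverse. -/
noncomputable def invE (E : List ℕ) : List ℕ :=
  (List.range 56).map fun i => encF (fun j => dg (E.getD j 0) i) 56 0

theorem GenD.inv {F G : ruLattice → ruLattice} (hF : IsoMap F) (hG : IsoMap G) (hFG : ∀ x, F (G x) = x) {E : List ℕ}
    (hE : GenD F E) : GenD G (invE E) := by
  refine ⟨by simp [invE], fun i hi => ?_⟩
  unfold invE
  rw [List.getD_eq_getElem _ _ (by simpa using hi), List.getElem_map, List.getElem_range]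
  unfold zOf
  refine encF_congr 56 0 fun j hj => ?_
  rw [Nat.zero_add]
  have hS : Small ((F (frmL j) : ruLattice) : RuVec) := small_of_norm (by rw [hF.norm]; exact norm_frm hj)
  have h1 : dg (E.getD j 0) i = digF ((F (frmL j) : ruLattice) : RuVec) i := by
    rw [← hE.2 j hj]
    exact dg_zOf hS hi
  rw [h1]
  unfold digF
  congr 2
  have h2 := hF.re_herm (G (frmL i)) (frmL j)
  rw [hFG] at h2
  have h3 : (herm ((frmL i : ruLattice) : RuVec) ((F (frmL j) : ruLattice) : RuVec)).re =
      4 * fld ((F (frmL j) : ruLattice) : RuVec) i := by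
    rw [herm_swap_re]
    exact herm_frm_re _ hi
  have h4 : (herm ((G (frmL i) : ruLattice) : RuVec) ((frmL j : ruLattice) : RuVec)).re =
      4 * fld ((G (frmL i) : ruLattice) : RuVec) j := herm_frm_re _ hj
  rw [h3, h4] at h2
  omega

end Cfsg.Agent.Lib.RuAut
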