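import Mathlib
import Cfsg.Agent.Lib.RuAut.Gen
import Cfsg.Agent.Lib.RuAut.Final
import Cfsg.Agent.Lib.RuAut.DataMin

/-!
# The stabiliser chain of the group on the vectors of stored norm 16
-/

set_option autoImplicit false

namespace Cfsg.Agent.Lib.RuAut

open Cfsg.Spor Cfsg.Agent.Lib.RuMin

/-! ### The array of codes -/

/-- The number `2 ^ 448`. -/
def p448 : ℕ := 726838724295606890549323807888004534353641360687318060281490199180639288113397923326191050713763565560762521606266177933534601628614656

/-- An element of a list of numbers. -/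
noncomputable def nthC (L : List ℕ) : ℕ → ℕ :=
  List.rec (fun _ => 0) (fun c _ ih i => Nat.rec c (fun j _ => ih j) i) L

theorem nthC_cons_zero (c : ℕ) (L : List ℕ) : nthC (c :: L) 0 = c := rfl
theorem nthC_cons_succ (c : ℕ) (L : List ℕ) (j : ℕ) : nthC (c :: L) (j + 1) = nthC L j := rfl

/-- A digit of a chunk. -/
noncomputable def digit (c j : ℕ) : ℕ := Nat.mod (Nat.shiftRight c (Nat.mul 448 j)) p448

/-- The `i`-th code. -/
noncomputable def M (i : ℕ) : ℕ := digit (nthC minChunks (Nat.div i 256)) (Nat.mod i 256)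

/-- A test along a chunk. -/
noncomputable def chunkLoop (chk : ℕ → ℕ → Bool) (c b n : ℕ) : Bool :=
  Nat.rec true (fun j ih => Bool.and (chk (Nat.add b j) (digit c j)) ih) n

/-- A test along the chunks. -/
noncomputable def allLoop (chk : ℕ → ℕ → Bool) (L : List ℕ) : ℕ → Bool :=
  List.rec (fun _ => true) (fun c _ ih b => Bool.and (chunkLoop chk c b 256) (ih (Nat.add b 256))) L

theorem chunkLoop_spec (chk : ℕ → ℕ → Bool) (c b : ℕ) : ∀ n, chunkLoop chk c b n = true → ∀ j, j < n →
    chk (b + j) (digit c j) = true := by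
  intro n
  induction n with
  | zero => intro _ j hj; omega
  | succ n ih =>
    intro h j hj
    have h' : Bool.and (chk (Nat.add b n) (digit c n)) (chunkLoop chk c b n) = true := h
    rw [Bool.and_eq_true] at h'
    rcases Nat.lt_succ_iff_lt_or_eq.mp hj with hj | rfl
    · exact ih h'.2 j hj
    · exact h'.1

theorem allLoop_spec (chk : ℕ → ℕ → Bool) : ∀ (L : List ℕ) (b : ℕ), allLoop chk L b = true → ∀ k, k < L.length * 256 →
    chk (b + k) (digit (nthC L (k / 256)) (k % 256)) = true := by
  intro L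
  induction L with
  | nil => intro b _ k hk; simp at hk
  | cons c L ih =>
    intro b h k hk
    have h' : Bool.and (chunkLoop chk c b 256) (allLoop chk L (Nat.add b 256)) = true := h
    rw [Bool.and_eq_true] at h'
    by_cases hk2 : k < 256
    · have e1 : k / 256 = 0 := Nat.div_eq_of_lt hk2
      have e2 : k % 256 = k := Nat.mod_eq_of_lt hk2
      rw [e1, e2, nthC_cons_zero]
      exact chunkLoop_spec chk c b 256 h'.1 k hk2
    · obtain ⟨m, rfl⟩ : ∃ m, k = m + 256 := ⟨k - 256, by omega⟩
      have e1 : (m + 256) / 256 = m / 256 + 1 := by omega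
      have e2 : (m + 256) % 256 = m % 256 := by omega
      rw [e1, e2, nthC_cons_succ]
      have hm : m < L.length * 256 := by
        rw [List.length_cons, Nat.add_mul] at hk
        omega
      have := ih (Nat.add b 256) h'.2 m hm
      have e3 : Nat.add b 256 + m = b + (m + 256) := by
        show b + 256 + m = _
        omega
      rwa [e3] at this

theorem minChunks_len : minChunks.length = 64 := by
  unfold minChunks
  rfl

/-- The test on the whole array gives the test at each index. -/
theorem allLoop_M {chk : ℕ → ℕ → Bool} (h : allLoop chk minChunks 0 = true) {i : ℕ} (hi : i < 16384) : chk i (M i) = true := by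
  have := allLoop_spec chk minChunks 0 h i (by rw [minChunks_len]; omega)
  rwa [Nat.zero_add] at this

/-! ### The number of vectors -/

/-- The number of codes. -/
def NN : ℕ := 16240

/-- Strict monotony of the array. -/
noncomputable def sortedCheck (n : ℕ) : Bool := Nat.rec true (fun i ih => Bool.and (Nat.blt (M i) (M (i + 1))) ih) n

theorem sortedCheck_spec : ∀ n, sortedCheck n = true → ∀ i, i < n → M i < M (i + 1) := by
  intro n
  induction n with
  | zero => intro _ i hi; omega
  | succ n ih =>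
    intro h i hi
    have h' : Bool.and (Nat.blt (M n) (M (n + 1))) (sortedCheck n) = true := h
    rw [Bool.and_eq_true] at h'
    rcases Nat.lt_succ_iff_lt_or_eq.mp hi with hi | rfl
    · exact ih h'.2 i hi
    · have := h'.1
      rw [Nat.blt_eq] at this
      exact this

theorem M_lt_of_sorted (hs : sortedCheck (NN - 1) = true) {i j : ℕ} (hij : i < j) (hj : j < NN) : M i < M j := by
  induction j with
  | zero => omega
  | succ j ih =>
    have h1 : M j < M (j + 1) := sortedCheck_spec _ hs j (by unfold NN at *; omega)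
    rcases Nat.lt_succ_iff_lt_or_eq.mp hij with h | rfl
    · exact lt_trans (ih h (by omega)) h1
    · exact h1

theorem M_injOn (hs : sortedCheck (NN - 1) = true) : Set.InjOn M (Finset.range NN : Set ℕ) := by
  intro i hi j hj h
  have hi' : i < NN := by simpa using hi
  have hj' : j < NN := by simpa using hj
  rcases lt_trichotomy i j with h1 | h1 | h1
  · exact absurd h (ne_of_lt (M_lt_of_sorted hs h1 hj'))
  · exact h1
  · exact absurd h.symm (ne_of_lt (M_lt_of_sorted hs h1 hi'))

/-! ### Signatures -/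

/-- The weighted sum of the digits. -/
noncomputable def scanN (W : List ℕ) : ℕ → ℕ → ℕ :=
  List.rec (fun _ acc => acc) (fun w _ ih z acc => ih (Nat.div z 256) (Nat.add acc (Nat.mul (Nat.mod z 256) w))) W

theorem scanN_nil (z acc : ℕ) : scanN [] z acc = acc := rfl
theorem scanN_cons (w : ℕ) (W : List ℕ) (z acc : ℕ) :
    scanN (w :: W) z acc = scanN W (Nat.div z 256) (Nat.add acc (Nat.mul (Nat.mod z 256) w)) := rfl

/-- The signature of a code. -/
noncomputable def sigC (W : List ℕ) (P z : ℕ) : ℕ := Nat.mod (scanN W z 0) P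

theorem scanN_encF (d : ℕ → ℕ) (hd : ∀ i, d i < 256) : ∀ (W : List ℕ) (f acc : ℕ), scanN W (encF d W.length f) acc =
    acc + ∑ i ∈ Finset.range W.length, d (f + i) * W.getD i 0 := by
  intro W
  induction W with
  | nil => intro f acc; simp [scanN_nil]
  | cons w W ih =>
    intro f acc
    rw [List.length_cons, scanN_cons, encF_div_nat d hd, encF_mod_nat d hd, ih, Finset.sum_range_succ']
    simp only [Nat.add_zero, List.getD_cons_zero, List.getD_cons_succ]
    have e : ∀ i, d (f + (i + 1)) = d (f + 1 + i) := fun i => by rw [show f + (i + 1) = f + 1 + i by omega]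
    simp_rw [e]
    show acc + d f * w + _ = _
    ring


theorem scanN_zOf {x : RuVec} (h : Small x) {W : List ℕ} (hW : W.length = 56) :
    ((scanN W (zOf x) 0 : ℕ) : ℤ) = ∑ i ∈ Finset.range 56, (fld x i + 128) * (W.getD i 0 : ℤ) := by
  have h1 := scanN_encF (digC x) (digC_lt h) W 0 0
  rw [hW, ← zOf_eq_C] at h1
  rw [h1, Nat.zero_add]
  push_cast
  refine Finset.sum_congr rfl fun i hi => ?_
  have hi' := Finset.mem_range.mp hi
  rw [Nat.zero_add]
  congr 1
  simp only [digC]
  rw [if_pos hi', digF, Int.toNat_of_nonneg (by have := (h i hi').1; omega)]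

theorem nat_mod_eq_of (a b P : ℕ) (A u v : ℤ) (ha : (a : ℤ) = A + P * u) (hb : (b : ℤ) = A + P * v) : a % P = b % P := by
  have : ((a % P : ℕ) : ℤ) = ((b % P : ℕ) : ℤ) := by
    push_cast
    rw [ha, hb, Int.add_mul_emod_self_left, Int.add_mul_emod_self_left]
  exact_mod_cast this

theorem sigC_eq_of {W : List ℕ} {P : ℕ} {x y : RuVec} (hx : Small x) (hy : Small y) (hW : W.length = 56) (s : ℕ → ℤ)
    (hs : ∀ i, i < 56 → (W.getD i 0 : ℤ) = P + s i)
    (h : ∑ i ∈ Finset.range 56, fld x i * s i = ∑ i ∈ Finset.range 56, fld y i * s i) :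
    sigC W P (zOf x) = sigC W P (zOf y) := by
  have key : ∀ z : RuVec, Small z → ((scanN W (zOf z) 0 : ℕ) : ℤ) =
      (∑ i ∈ Finset.range 56, fld z i * s i + ∑ i ∈ Finset.range 56, 128 * s i) +
        P * ∑ i ∈ Finset.range 56, (fld z i + 128) := by
    intro z hz
    rw [scanN_zOf hz hW, ← Finset.sum_add_distrib, Finset.mul_sum, ← Finset.sum_add_distrib]
    refine Finset.sum_congr rfl fun i hi => ?_
    rw [hs i (Finset.mem_range.mp hi)]
    ring
  have h1 := key x hx
  have h2 := key y hy
  rw [h] at h1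
  exact nat_mod_eq_of _ _ P _ _ _ h1 h2

/-! ### Weights from base vectors -/

/-- A field from a code. -/
def fv (z i : ℕ) : ℤ := (dg z i : ℤ) - 128

/-- A field of `i` times the vector from a code. -/
def fvI (z i : ℕ) : ℤ := if i % 2 = 0 then - fv z (i + 1) else fv z (i - 1)

/-- The weight of a field. -/
def sw (z i : ℕ) : ℤ := fv z i + 256 * fvI z i

/-- The combination of the weights. -/
def combI (K : ℤ) : List ℕ → ℕ → ℤ
  | [], _ => 0
  | z :: zs, i => sw z i + K * combI K zs i

theorem fld_gI_odd (x : RuVec) (p : RuIdx) : fld (gI • x) (2 * pos p + 1) = fld x (2 * pos p) := by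
  rw [fld_even, fld_odd]
  simp [gI, Zsqrtd.im_mul]

theorem fvI_spec {v : RuVec} (hv : Small v) {i : ℕ} (hi : i < 56) : fvI (zOf v) i = fld (gI • v) i := by
  unfold fvI fv
  by_cases h2 : i % 2 = 0
  · rw [if_pos h2]
    have hi1 : i + 1 < 56 := by omega
    rw [← fld_of_dg hv hi1]
    have e := pos_idxOf_even i hi h2
    have := fld_gI_even v (idxOf i)
    rw [e] at this
    rw [this]
  · rw [if_neg h2]
    have hi1 : i - 1 < 56 := by omega
    rw [← fld_of_dg hv hi1]
    have e := pos_idxOf_odd i hi (by omega)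
    have := fld_gI_odd v (idxOf i)
    rw [e] at this
    rw [this]
    congr 1
    omega

theorem sw_spec {v : RuVec} (hv : Small v) (x : RuVec) :
    ∑ i ∈ Finset.range 56, fld x i * sw (zOf v) i = (herm x v).re + 256 * (herm x v).im := by
  rw [herm_re, herm_im, Finset.mul_sum, ← Finset.sum_add_distrib]
  refine Finset.sum_congr rfl fun i hi => ?_
  have hi' := Finset.mem_range.mp hi
  unfold sw
  rw [fvI_spec hv hi']
  unfold fv
  rw [← fld_of_dg hv hi']
  ring

/-- The combined signature. -/
def Sg (K : ℤ) : List RuVec → RuVec → ℤ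
  | [], _ => 0
  | v :: vs, x => (herm x v).re + 256 * (herm x v).im + K * Sg K vs x

theorem comb_spec (K : ℤ) (x : RuVec) : ∀ vs : List RuVec, (∀ v ∈ vs, Small v) →
    ∑ i ∈ Finset.range 56, fld x i * combI K (vs.map zOf) i = Sg K vs x := by
  intro vs
  induction vs with
  | nil => intro _; simp [combI, Sg]
  | cons v vs ih =>
    intro h
    have h1 := sw_spec (h v (by simp)) x
    have h2 := ih (fun u hu => h u (by simp [hu]))
    simp only [List.map_cons, combI, Sg]
    rw [← h1, ← h2, Finset.mul_sum, ← Finset.sum_add_distrib]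
    refine Finset.sum_congr rfl fun i _ => ?_
    ring

theorem sg_congr (K : ℤ) {x y : RuVec} : ∀ vs : List RuVec, (∀ v ∈ vs, herm x v = herm y v) → Sg K vs x = Sg K vs y := by
  intro vs
  induction vs with
  | nil => intro _; rfl
  | cons v vs ih =>
    intro h
    simp only [Sg]
    rw [h v (by simp), ih (fun u hu => h u (by simp [hu]))]

theorem herm_gI_right (x y : RuVec) : (herm x (gI • y)).re = (herm x y).im := by
  rw [herm_re, herm_im]

theorem IsoMap.herm_eq {F : ruLattice → ruLattice} (hF : IsoMap F) (x y : ruLattice) :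
    herm ((F x : ruLattice) : RuVec) ((F y : ruLattice) : RuVec) = herm (x : RuVec) (y : RuVec) := by
  apply Zsqrtd.ext
  · exact hF.re_herm x y
  · have h1 := hF.re_herm x (ruI y)
    rw [hF.comm] at h1
    have e1 : ((ruI (F y) : ruLattice) : RuVec) = gI • ((F y : ruLattice) : RuVec) := rfl
    have e2 : ((ruI y : ruLattice) : RuVec) = gI • (y : RuVec) := rfl
    rw [e1, e2, herm_gI_right, herm_gI_right] at h1
    exact h1

/-! ### The subgroups of the chain -/

/-- The pointwise stabiliser of a list of vectors. -/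
def Fixes (vs : List ruLattice) : Subgroup fourRu where
  carrier := {f | ∀ v ∈ vs, ap f v = v}
  mul_mem' := by
    intro a b ha hb v hv
    rw [ap_mul, hb v hv, ha v hv]
  one_mem' := fun _ _ => rfl
  inv_mem' := by
    intro a ha v hv
    have h := ha v hv
    show ((a⁻¹ : fourRu) : Equiv.Perm ruLattice) v = v
    conv_lhs => rw [← h]
    show (a : Equiv.Perm ruLattice)⁻¹ ((a : Equiv.Perm ruLattice) v) = v
    simp

theorem mem_Fixes {vs : List ruLattice} {f : fourRu} : f ∈ Fixes vs ↔ ∀ v ∈ vs, ap f v = v := Iff.rfl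

/-- The codes of the elements of a subgroup. -/
def Ent (C : Subgroup fourRu) (E : List ℕ) : Prop := ∃ f : fourRu, f ∈ C ∧ GenD (f : Equiv.Perm ruLattice) E

theorem Ent.mul {C : Subgroup fourRu} {E E' : List ℕ} (h : Ent C E) (h' : Ent C E') : Ent C (mulE E E') := by
  obtain ⟨f, hf, hE⟩ := h
  obtain ⟨g, hg, hE'⟩ := h'
  exact ⟨f * g, C.mul_mem hf hg, GenD.comp (isoMap_of_mem f) (isoMap_of_mem g) hE hE'⟩

theorem Ent.inv {C : Subgroup fourRu} {E : List ℕ} (h : Ent C E) : Ent C (invE E) := by
  obtain ⟨f, hf, hE⟩ := h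
  refine ⟨f⁻¹, C.inv_mem hf, GenD.inv (isoMap_of_mem f) (isoMap_of_mem f⁻¹) ?_ hE⟩
  intro x
  show (f : Equiv.Perm ruLattice) ((f : Equiv.Perm ruLattice)⁻¹ x) = x
  simp

/-! ### The trees -/

/-- The child of a step. -/
def childT (x : ℕ) : ℕ := Nat.mod x 16384
/-- The parent of a step. -/
def parT (x : ℕ) : ℕ := Nat.mod (Nat.div x 16384) 16384
/-- The generator of a step. -/
def genT (x : ℕ) : ℕ := Nat.div x 268435456

/-- An element of a list of generators, with a default. -/
noncomputable def pickE (d : List ℕ) (G : List (List ℕ)) : ℕ → List ℕ :=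
  List.rec (fun _ => d) (fun e _ ih i => Nat.rec e (fun j _ => ih j) i) G

theorem pickE_mem (d : List ℕ) : ∀ (G : List (List ℕ)) (i : ℕ), pickE d G i ∈ d :: G := by
  intro G
  induction G with
  | nil => intro i; simp [pickE]
  | cons e G ih =>
    intro i
    cases i with
    | zero => simp [pickE]
    | succ j =>
      have : pickE d (e :: G) (j + 1) = pickE d G j := rfl
      rw [this]
      have := ih j
      simp only [List.mem_cons] at this ⊢
      tauto

/-- A step of the tree: the mask of the reached indices is updated, or it is set to zero on failure. -/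
noncomputable def stepT (d : List ℕ) (G : List (List ℕ)) (mask x : ℕ) : ℕ :=
  bif Nat.beq x 0 then mask else
    bif Bool.and (tb mask (parT x)) (Nat.beq (applyZ (pickE d G (genT x)) (M (parT x))) (M (childT x)))
    then Nat.lor mask (Nat.pow 2 (childT x)) else 0

/-- The steps of a chunk. -/
noncomputable def loopT (d : List ℕ) (G : List (List ℕ)) (n : ℕ) : ℕ → ℕ → ℕ :=
  Nat.rec (fun _ mask => mask) (fun _ ih c mask => ih (Nat.div c 4294967296) (stepT d G mask (Nat.mod c 4294967296))) n

/-- The steps of the tree. -/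
noncomputable def runT (d : List ℕ) (G : List (List ℕ)) (L : List ℕ) : ℕ → ℕ :=
  List.rec (fun mask => mask) (fun c _ ih mask => ih (loopT d G 256 c mask)) L

section Tree

variable (Good : ℕ → Prop) {d : List ℕ} {G : List (List ℕ)}
  (hstep : ∀ E ∈ d :: G, ∀ p c, Good p → applyZ E (M p) = M c → Good c)
include hstep

theorem stepT_good (mask x : ℕ) (hm : ∀ i, tb mask i = true → Good i) : ∀ i, tb (stepT d G mask x) i = true → Good i := by
  intro i hi
  unfold stepT at hi
  cases hx : Nat.beq x 0
  · rw [hx] at hi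
    simp only [cond_false] at hi
    cases hc : Bool.and (tb mask (parT x)) (Nat.beq (applyZ (pickE d G (genT x)) (M (parT x))) (M (childT x)))
    · rw [hc] at hi
      simp only [cond_false] at hi
      rw [tb_eq, Nat.zero_testBit] at hi
      exact absurd hi (by simp)
    · rw [hc] at hi
      simp only [cond_true] at hi
      rw [Bool.and_eq_true] at hc
      rw [tb_eq] at hi
      have e1 : Nat.lor mask (Nat.pow 2 (childT x)) = mask ||| 2 ^ (childT x) := rfl
      rw [e1, Nat.testBit_or, Bool.or_eq_true] at hi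
      rcases hi with hi | hi
      · rw [← tb_eq] at hi
        exact hm i hi
      · rw [Nat.testBit_two_pow] at hi
        have hic : childT x = i := by simpa using hi
        rw [← hic]
        exact hstep _ (pickE_mem d G _) _ _ (hm _ hc.1) (Nat.eq_of_beq_eq_true hc.2)
  · rw [hx] at hi
    exact hm i hi

theorem loopT_good : ∀ (n c mask : ℕ), (∀ i, tb mask i = true → Good i) → ∀ i, tb (loopT d G n c mask) i = true → Good i := by
  intro n
  induction n with
  | zero => intro c mask hm i hi; exact hm i hi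
  | succ n ih =>
    intro c mask hm i hi
    have e : loopT d G (n + 1) c mask = loopT d G n (Nat.div c 4294967296) (stepT d G mask (Nat.mod c 4294967296)) := rfl
    rw [e] at hi
    exact ih _ _ (stepT_good Good hstep _ _ hm) i hi

theorem runT_good : ∀ (L : List ℕ) (mask : ℕ), (∀ i, tb mask i = true → Good i) → ∀ i, tb (runT d G L mask) i = true → Good i := by
  intro L
  induction L with
  | nil => intro mask hm i hi; exact hm i hi
  | cons c L ih =>
    intro mask hm i hi
    have e : runT d G (c :: L) mask = runT d G L (loopT d G 256 c mask) := rfl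
    rw [e] at hi
    exact ih _ (loopT_good Good hstep _ _ _ hm) i hi

end Tree

/-- The vectors of stored norm 16 and their codes. -/
abbrev zL (x : ruLattice) : ℕ := zOf (x : RuVec)

theorem small_L {x : ruLattice} (hx : x ∈ minSet) : Small (x : RuVec) := small_of_norm hx

theorem zL_inj {x y : ruLattice} (hx : x ∈ minSet) (hy : y ∈ minSet) (h : zL x = zL y) : x = y :=
  Subtype.ext (zOf_inj (small_L hx) (small_L hy) h)

theorem apply_L {f : fourRu} {E : List ℕ} (hE : GenD (f : Equiv.Perm ruLattice) E) {x : ruLattice} (hx : x ∈ minSet) :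
    zL (ap f x) = applyZ E (zL x) :=
  GenD.apply (isoMap_of_mem f) hE hx

/-- The tree gives elements. -/
theorem tree_good {C : Subgroup fourRu} {vs : List ruLattice} (hvs : ∀ u ∈ vs, u ∈ minSet) {v : ruLattice} (hv : v ∈ minSet)
    {r : ℕ} (hr : zL v = M r) {d : List ℕ} {G : List (List ℕ)} (hG : ∀ E ∈ d :: G, Ent C E)
    (hfix : ∀ E ∈ d :: G, ∀ u ∈ vs, applyZ E (zL u) = zL u) (L : List ℕ) :
    ∀ i, tb (runT d G L (Nat.pow 2 r)) i = true → ∃ f ∈ Fixes vs, f ∈ C ∧ zL (ap f v) = M i := by
  refine runT_good (fun i => ∃ f ∈ Fixes vs, f ∈ C ∧ zL (ap f v) = M i) ?_ _ _ ?_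
  · rintro E hE p c ⟨f, hf, hfC, hfz⟩ he
    obtain ⟨e, heC, hgen⟩ := hG E hE
    refine ⟨e * f, ?_, C.mul_mem heC hfC, ?_⟩
    · refine (Fixes vs).mul_mem ?_ hf
      intro u hu
      apply zL_inj (mem_minSet_ap e (hvs u hu)) (hvs u hu)
      rw [apply_L hgen (hvs u hu), hfix E hE u hu]
    · rw [ap_mul, apply_L hgen (mem_minSet_ap f hv), hfz, he]
  · intro i hi
    rw [tb_eq] at hi
    have e1 : Nat.pow 2 r = 2 ^ r := rfl
    rw [e1, Nat.testBit_two_pow] at hi
    have : r = i := by simpa using hi
    subst this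
    exact ⟨1, (Fixes vs).one_mem, C.one_mem, hr⟩

/-! ### The pass over all the codes -/

/-- The test of a class. -/
noncomputable def chkP (W : List ℕ) (P tgt mask : ℕ) (i z : ℕ) : Bool :=
  bif Nat.ble 16240 i then true else bif Nat.beq (sigC W P z) tgt then tb mask i else true

theorem pass_main {vs : List ruLattice} (hvs : ∀ u ∈ vs, u ∈ minSet) {W : List ℕ} {P : ℕ} {K : ℤ} (hWl : W.length = 56)
    (hW : ∀ i, i < 56 → (W.getD i 0 : ℤ) = P + combI K (vs.map zL) i) {v : ruLattice} (hv : v ∈ minSet) {tgt mask : ℕ}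
    (htgt : sigC W P (zL v) = tgt) (hpass : allLoop (chkP W P tgt mask) minChunks 0 = true)
    {x : ruLattice} (hx : x ∈ minSet) {i : ℕ} (hi : i < 16240) (hxi : zL x = M i)
    (hh : ∀ u ∈ vs, herm (x : RuVec) (u : RuVec) = herm (v : RuVec) (u : RuVec)) : tb mask i = true := by
  have h1 := allLoop_M hpass (i := i) (by omega)
  have hS : ∀ u ∈ vs.map (fun u : ruLattice => (u : RuVec)), Small u := by
    intro u hu
    obtain ⟨a, ha, rfl⟩ := List.mem_map.mp hu
    exact small_L (hvs a ha)
  have e : vs.map zL = (vs.map (fun u : ruLattice => (u : RuVec))).map zOf := by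
    rw [List.map_map]
    refine List.map_congr_left fun a _ => ?_
    simp only [Function.comp_apply, zL]
  have h2 : sigC W P (zL x) = sigC W P (zL v) := by
    refine sigC_eq_of (small_L hx) (small_L hv) hWl (combI K (vs.map zL)) hW ?_
    rw [e, comb_spec K _ _ hS, comb_spec K _ _ hS]
    apply sg_congr
    intro u hu
    obtain ⟨a, ha, rfl⟩ := List.mem_map.mp hu
    exact hh a ha
  unfold chkP at h1
  have hg : Nat.ble 16240 i = false := by
    rw [Bool.eq_false_iff]
    intro h
    have := Nat.le_of_ble_eq_true h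
    omega
  rw [hg, ← hxi, h2, htgt] at h1
  have : Nat.beq tgt tgt = true := Nat.beq_refl tgt
  rw [this] at h1
  simpa using h1


/-! ### The levels -/

/-- A popcount of many words. -/
noncomputable def pcBig (n : ℕ) : ℕ → ℕ :=
  Nat.rec (fun _ => 0) (fun _ ih m => Nat.add (pc56 pcT m) (ih (Nat.shiftRight m 56))) n

theorem pcBig_eq (hT : ∀ m, m < 16384 → pcOfTable pcT m = pcW 14 m) : ∀ n m, pcBig n m = pcW (n * 56) m := by
  intro n
  induction n with
  | zero => intro m; rfl
  | succ n ih =>
    intro m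
    have e : pcBig (n + 1) m = pc56 pcT m + pcBig n (m >>> 56) := rfl
    rw [e, ih, pc56_eq hT, show (n + 1) * 56 = 56 + n * 56 by ring, pcW_add, Nat.shiftRight_eq_div_pow]

/-- The facts of a level. -/
structure Lev (C : Subgroup fourRu) (vs : List ruLattice) (v : ruLattice) (n : ℕ) : Prop where
  reach : ∀ x ∈ minSet, (∀ u ∈ vs, herm (x : RuVec) (u : RuVec) = herm (v : RuVec) (u : RuVec)) →
    ∃ f ∈ Fixes vs, f ∈ C ∧ ap f v = x
  card : {x : ruLattice | ∃ f ∈ Fixes vs, ap f v = x}.ncard = n

theorem herm_of_fixes {vs : List ruLattice} {f : fourRu} (hf : f ∈ Fixes vs) (v : ruLattice) {u : ruLattice} (hu : u ∈ vs) :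
    herm ((ap f v : ruLattice) : RuVec) (u : RuVec) = herm (v : RuVec) (u : RuVec) := by
  have := (isoMap_of_mem f).herm_eq v u
  have h2 : ((f : Equiv.Perm ruLattice) u) = u := hf u hu
  rw [h2] at this
  exact this

theorem lev_of_checks {C : Subgroup fourRu} {vs : List ruLattice} (hvs : ∀ u ∈ vs, u ∈ minSet) {v : ruLattice} (hv : v ∈ minSet)
    {r : ℕ} (hr : zL v = M r) {d : List ℕ} {G : List (List ℕ)} (hG : ∀ E ∈ d :: G, Ent C E)
    (hfix : ∀ E ∈ d :: G, ∀ u ∈ vs, applyZ E (zL u) = zL u) {steps : List ℕ}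
    {W : List ℕ} {P : ℕ} {K : ℤ} (hWl : W.length = 56)
    (hW : ∀ i, i < 56 → (W.getD i 0 : ℤ) = P + combI K (vs.map zL) i) {tgt mask n : ℕ}
    (htgt : sigC W P (zL v) = tgt) (hpass : allLoop (chkP W P tgt mask) minChunks 0 = true)
    (htree : runT d G steps (Nat.pow 2 r) = mask)
    (hT : ∀ m, m < 16384 → pcOfTable pcT m = pcW 14 m) (hn : pcBig 290 mask = n)
    (hM : ∀ x ∈ minSet, ∃ i, i < NN ∧ zL x = M i) (hs : sortedCheck (NN - 1) = true) : Lev C vs v n := by
  have hgood := tree_good (C := C) hvs hv hr hG hfix steps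
  rw [htree] at hgood
  have hNN : NN = 16240 := rfl
  refine ⟨?_, ?_⟩
  · intro x hx hh
    obtain ⟨i, hi, hxi⟩ := hM x hx
    have hb := pass_main hvs hWl hW hv htgt hpass hx (by omega) hxi hh
    obtain ⟨f, hf, hfC, hfz⟩ := hgood i hb
    refine ⟨f, hf, hfC, ?_⟩
    apply zL_inj (mem_minSet_ap f hv) hx
    rw [hfz, hxi]
  · classical
    set A : Finset ℕ := (Finset.range NN).filter (fun i => tb mask i = true) with hA
    have hcardA : A.card = n := by
      rw [← hn, pcBig_eq hT]
      rw [pcW_eq_sum, hA, Finset.card_filter]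
      have : 290 * 56 = NN := rfl
      rw [this]
      refine Finset.sum_congr rfl fun i _ => ?_
      rw [tb_eq]
      cases mask.testBit i <;> rfl
    have hinj : Set.InjOn M (A : Set ℕ) := (M_injOn hs).mono (by
      intro i hi
      have := (Finset.mem_filter.mp hi).1
      exact this)
    have himg : zL '' {x : ruLattice | ∃ f ∈ Fixes vs, ap f v = x} = ((A.image M : Finset ℕ) : Set ℕ) := by
      ext z
      simp only [Set.mem_image, Set.mem_setOf_eq, Finset.coe_image, Finset.mem_coe]
      constructor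
      · rintro ⟨x, ⟨f, hf, rfl⟩, rfl⟩
        obtain ⟨i, hi, hxi⟩ := hM _ (mem_minSet_ap f hv)
        refine ⟨i, ?_, hxi.symm⟩
        refine Finset.mem_filter.mpr ⟨Finset.mem_range.mpr hi, ?_⟩
        exact pass_main hvs hWl hW hv htgt hpass (mem_minSet_ap f hv) (by omega) hxi (fun u hu => herm_of_fixes hf v hu)
      · rintro ⟨i, hi, rfl⟩
        obtain ⟨f, hf, -, hfz⟩ := hgood i (Finset.mem_filter.mp hi).2
        exact ⟨_, ⟨f, hf, rfl⟩, hfz⟩
    have hzinj : Set.InjOn zL {x : ruLattice | ∃ f ∈ Fixes vs, ap f v = x} := by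
      rintro x ⟨f, -, rfl⟩ y ⟨g, -, rfl⟩ h
      exact zL_inj (mem_minSet_ap f hv) (mem_minSet_ap g hv) h
    rw [← Set.ncard_image_of_injOn hzinj, himg, Set.ncard_coe_finset, Finset.card_image_of_injOn hinj, hcardA]

/-- The step of the chain. -/
theorem Lev.step {C : Subgroup fourRu} {vs : List ruLattice} {v : ruLattice} {n : ℕ} (h : Lev C vs v n) (hv : v ∈ minSet) :
    Nat.card (Fixes vs) = n * Nat.card (Fixes (v :: vs)) ∧ (Fixes (v :: vs) ≤ C → Fixes vs ≤ C) := by
  constructor
  · have e1 := MulAction.index_stabilizer (↥(Fixes vs)) v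
    have e2 : MulAction.orbit (↥(Fixes vs)) v = {x : ruLattice | ∃ f ∈ Fixes vs, ap f v = x} := by
      ext x
      constructor
      · rintro ⟨g, rfl⟩
        exact ⟨g.1, g.2, rfl⟩
      · rintro ⟨f, hf, rfl⟩
        exact ⟨⟨f, hf⟩, rfl⟩
    rw [e2, h.card] at e1
    have e3 := Subgroup.card_mul_index (MulAction.stabilizer (↥(Fixes vs)) v)
    rw [e1] at e3
    have e4 : Nat.card (MulAction.stabilizer (↥(Fixes vs)) v) = Nat.card (Fixes (v :: vs)) := by
      apply Nat.card_congr
      refine
        { toFun := fun s => ⟨s.1.1, ?_⟩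
          invFun := fun t => ⟨⟨t.1, ?_⟩, ?_⟩
          left_inv := fun s => rfl
          right_inv := fun t => rfl }
      · intro u hu
        rcases List.mem_cons.mp hu with rfl | hu
        · exact s.2
        · exact s.1.2 u hu
      · intro u hu
        exact t.2 u (List.mem_cons_of_mem _ hu)
      · exact t.2 v (by simp)
    rw [e4] at e3
    rw [← e3, mul_comm]
  · intro hle g hg
    have hx := mem_minSet_ap g hv
    obtain ⟨f, hf, hfC, hfx⟩ := h.reach _ hx (fun u hu => herm_of_fixes hg v hu)
    have h1 : f⁻¹ * g ∈ Fixes (v :: vs) := by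
      intro u hu
      rcases List.mem_cons.mp hu with rfl | hu
      · rw [ap_mul, ← hfx]
        show ((f⁻¹ : fourRu) : Equiv.Perm ruLattice) ((f : Equiv.Perm ruLattice) u) = u
        show (f : Equiv.Perm ruLattice)⁻¹ ((f : Equiv.Perm ruLattice) u) = u
        simp
      · exact (Fixes vs).mul_mem ((Fixes vs).inv_mem hf) hg u hu
    have h2 := C.mul_mem hfC (hle h1)
    simpa using h2

/-- The test of the last pass. -/
noncomputable def chkF (W : List ℕ) (P : ℕ) (T : List (ℕ × ℕ)) (_i z : ℕ) : Bool :=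
  List.rec true (fun p _ ih => Bool.and (bif Nat.beq (sigC W P z) p.2 then Nat.beq z p.1 else true) ih) T

theorem chkF_spec {W : List ℕ} {P : ℕ} : ∀ (T : List (ℕ × ℕ)) (i z : ℕ), chkF W P T i z = true →
    ∀ t c, (t, c) ∈ T → sigC W P z = c → z = t := by
  intro T
  induction T with
  | nil => intro i z _ t c hp; simp at hp
  | cons q T ih =>
    intro i z h t c hp hs
    have h' : Bool.and (bif Nat.beq (sigC W P z) q.2 then Nat.beq z q.1 else true) (chkF W P T i z) = true := h
    rw [Bool.and_eq_true] at h'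
    rcases List.mem_cons.mp hp with e | hp
    · subst e
      have h1 := h'.1
      simp only at h1
      rw [hs, Nat.beq_refl] at h1
      exact Nat.eq_of_beq_eq_true h1
    · exact ih i z h'.2 t c hp hs

/-- The last pass: the elements fixing the base fix the given vectors. -/
theorem fixed_of_pass {vs : List ruLattice} (hvs : ∀ u ∈ vs, u ∈ minSet) {W : List ℕ} {P : ℕ} {K : ℤ} (hWl : W.length = 56)
    (hW : ∀ i, i < 56 → (W.getD i 0 : ℤ) = P + combI K (vs.map zL) i) {T : List (ℕ × ℕ)}
    (hpass : allLoop (chkF W P T) minChunks 0 = true)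
    (hM : ∀ x ∈ minSet, ∃ i, i < NN ∧ zL x = M i) {f : fourRu} (hf : f ∈ Fixes vs) {x : ruLattice} (hx : x ∈ minSet)
    (hT : (zL x, sigC W P (zL x)) ∈ T) : ap f x = x := by
  have hNN : NN = 16240 := rfl
  have hy := mem_minSet_ap f hx
  obtain ⟨i, hi, hyi⟩ := hM _ hy
  have h1 := allLoop_M hpass (i := i) (by omega)
  have hS : ∀ u ∈ vs.map (fun u : ruLattice => (u : RuVec)), Small u := by
    intro u hu
    obtain ⟨a, ha, rfl⟩ := List.mem_map.mp hu
    exact small_L (hvs a ha)
  have e : vs.map zL = (vs.map (fun u : ruLattice => (u : RuVec))).map zOf := by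
    rw [List.map_map]
    refine List.map_congr_left fun a _ => ?_
    simp only [Function.comp_apply, zL]
  have h2 : sigC W P (zL (ap f x)) = sigC W P (zL x) := by
    refine sigC_eq_of (small_L hy) (small_L hx) hWl (combI K (vs.map zL)) hW ?_
    rw [e, comb_spec K _ _ hS, comb_spec K _ _ hS]
    apply sg_congr
    intro u hu
    obtain ⟨a, ha, rfl⟩ := List.mem_map.mp hu
    exact herm_of_fixes hf x ha
  rw [← hyi] at h1
  have h3 : zL (ap f x) = zL x := chkF_spec T i (zL (ap f x)) h1 _ _ hT h2
  exact zL_inj hy hx h3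

theorem frmL_min {i : ℕ} (hi : i < 56) : frmL i ∈ minSet := by
  have := norm_frm hi
  exact this

theorem eq_one_of_frames {f : fourRu} (h : ∀ i, i < 56 → ap f (frmL i) = frmL i) : f = 1 := by
  have h1 := IsoMap.ext_frame (isoMap_of_mem f) (isoMap_of_mem 1) (fun i hi => h i hi)
  apply Subtype.ext
  apply Equiv.ext
  intro x
  exact congrFun h1 x

end Cfsg.Agent.Lib.RuAut
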