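import Mathlib
import Cfsg.Agent.Lib.RuAut.Chain

/-!
# Consequences of the chain computation
-/

set_option autoImplicit false

namespace Cfsg.Agent.Lib.RuAut

open Cfsg.Spor Cfsg.Agent.Lib.RuMin

/-- A code of the array comes from a vector. -/
def RealC (i : ℕ) : Prop := ∃ x : ruLattice, x ∈ minSet ∧ zL x = M i

open Classical in
/-- The vector of an index. -/
noncomputable def vecI (i : ℕ) : ruLattice := if h : RealC i then Classical.choose h else 0

theorem vecI_spec {i : ℕ} (h : RealC i) : vecI i ∈ minSet ∧ zL (vecI i) = M i := by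
  unfold vecI
  rw [dif_pos h]
  exact Classical.choose_spec h

theorem lev_from {C : Subgroup fourRu} (hM : ∀ x ∈ minSet, ∃ i, i < NN ∧ zL x = M i) (hs : sortedCheck (NN - 1) = true)
    (hT : ∀ m, m < 16384 → pcOfTable pcT m = pcW 14 m) {bI : List ℕ} {r : ℕ} (hr : RealC r) (hb : ∀ b ∈ bI, RealC b)
    {d : List ℕ} {G : List (List ℕ)} (hG : ∀ E ∈ d :: G, Ent C E) {steps W : List ℕ} {P tgt mask n : ℕ}
    (hwl : W.length = 56) (hw : ∀ i, i < 56 → (W.getD i 0 : ℤ) = (P : ℤ) + combI 16384 (bI.map M) i)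
    (hfix : ∀ E ∈ d :: G, ∀ b ∈ bI, applyZ E (M b) = M b) (htgt : sigC W P (M r) = tgt)
    (htree : runT d G steps (Nat.pow 2 r) = mask) (hpass : allLoop (chkP W P tgt mask) minChunks 0 = true)
    (hcnt : pcBig 290 mask = n) : Lev C (bI.map vecI) (vecI r) n := by
  have hmap : (bI.map vecI).map zL = bI.map M := by
    rw [List.map_map]
    refine List.map_congr_left fun b hb' => ?_
    rw [Function.comp_apply]
    exact (vecI_spec (hb b hb')).2
  have hvs : ∀ u ∈ bI.map vecI, u ∈ minSet := by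
    intro u hu
    obtain ⟨b, hb', rfl⟩ := List.mem_map.mp hu
    exact (vecI_spec (hb b hb')).1
  have hfix' : ∀ E ∈ d :: G, ∀ u ∈ bI.map vecI, applyZ E (zL u) = zL u := by
    intro E hE u hu
    obtain ⟨b, hb', rfl⟩ := List.mem_map.mp hu
    rw [(vecI_spec (hb b hb')).2]
    exact hfix E hE b hb'
  have hw' : ∀ i, i < 56 → (W.getD i 0 : ℤ) = (P : ℤ) + combI 16384 ((bI.map vecI).map zL) i := by
    rw [hmap]
    exact hw
  have htgt' : sigC W P (zL (vecI r)) = tgt := by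
    rw [(vecI_spec hr).2]
    exact htgt
  exact lev_of_checks hvs (vecI_spec hr).1 (vecI_spec hr).2 hG hfix' hwl hw' htgt' hpass htree hT hcnt hM hs

/-- The step in terms of indices. -/
theorem link {C : Subgroup fourRu} {bI bJ : List ℕ} {r n : ℕ} (hJ : r :: bI = bJ) (h : Lev C (bI.map vecI) (vecI r) n)
    (hv : vecI r ∈ minSet) : Nat.card (Fixes (bI.map vecI)) = n * Nat.card (Fixes (bJ.map vecI)) ∧
      (Fixes (bJ.map vecI) ≤ C → Fixes (bI.map vecI) ≤ C) := by
  subst hJ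
  exact h.step hv

/-! ### The classes -/

theorem frm_zero_gI : gI • frm 0 = frm 1 := by
  have h1 := frm_odd ((0 : Fin 7), (0 : Fin 4))
  have h2 := frm_even ((0 : Fin 7), (0 : Fin 4))
  have e : pos ((0 : Fin 7), (0 : Fin 4)) = 0 := rfl
  rw [e] at h1 h2
  simp only [mul_zero, zero_add] at h1 h2
  rw [h1, h2]

theorem herm_frm0 (x : RuVec) : herm x (frm 0) = ⟨4 * fld x 0, 4 * fld x 1⟩ := by
  apply Zsqrtd.ext
  · exact herm_frm_re x (by norm_num)
  · show (herm x (frm 0)).im = 4 * fld x 1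
    rw [← herm_gI_right, frm_zero_gI]
    exact herm_frm_re x (by norm_num)

theorem hp_frm0 (x : ruLattice) : hp x (frmL 0) = ⟨4 * fld (x : RuVec) 0, 4 * fld (x : RuVec) 1⟩ := herm_frm0 _

/-- The possible fields 0 and 1 of the vectors. -/
noncomputable def patOK (z : ℕ) : Bool :=
  (Nat.beq (dg z 0) 128 && Nat.beq (dg z 1) 128) ||
  (Nat.beq (dg z 0) 129 && Nat.beq (dg z 1) 128) ||
  (Nat.beq (dg z 0) 127 && Nat.beq (dg z 1) 128) ||
  (Nat.beq (dg z 0) 128 && Nat.beq (dg z 1) 129) ||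
  (Nat.beq (dg z 0) 128 && Nat.beq (dg z 1) 127) ||
  (Nat.beq (dg z 0) 132 && Nat.beq (dg z 1) 128 && Nat.beq z (frameZ 0 false)) ||
  (Nat.beq (dg z 0) 124 && Nat.beq (dg z 1) 128) ||
  (Nat.beq (dg z 0) 128 && Nat.beq (dg z 1) 132) ||
  (Nat.beq (dg z 0) 128 && Nat.beq (dg z 1) 124)

/-- The test of the patterns. -/
noncomputable def chkPat (i z : ℕ) : Bool := bif Nat.ble 16240 i then true else patOK z

theorem pat_all (hpat : allLoop chkPat minChunks 0 = true) (hM : ∀ x ∈ minSet, ∃ i, i < NN ∧ zL x = M i) {x : ruLattice}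
    (hx : x ∈ minSet) : patOK (zL x) = true := by
  obtain ⟨i, hi, hxi⟩ := hM x hx
  have hNN : NN = 16240 := rfl
  have h := allLoop_M hpat (i := i) (by omega)
  unfold chkPat at h
  have hg : Nat.ble 16240 i = false := by
    rw [Bool.eq_false_iff]
    intro h
    have := Nat.le_of_ble_eq_true h
    omega
  rw [hg] at h
  rw [hxi]
  simpa using h

theorem zL_frmL {i : ℕ} (hi : i < 56) : zL (frmL i) = frameZ i false := zOf_frm hi

section Class

variable (hpat : allLoop chkPat minChunks 0 = true) (hM : ∀ x ∈ minSet, ∃ i, i < NN ∧ zL x = M i)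
include hpat hM

theorem fields_of_pat {x : ruLattice} (hx : x ∈ minSet) :
    (fld (x : RuVec) 0 = 0 ∧ fld (x : RuVec) 1 = 0) ∨ (fld (x : RuVec) 0 = 1 ∧ fld (x : RuVec) 1 = 0) ∨
    (fld (x : RuVec) 0 = -1 ∧ fld (x : RuVec) 1 = 0) ∨ (fld (x : RuVec) 0 = 0 ∧ fld (x : RuVec) 1 = 1) ∨
    (fld (x : RuVec) 0 = 0 ∧ fld (x : RuVec) 1 = -1) ∨ x = frmL 0 ∨
    (fld (x : RuVec) 0 = -4 ∧ fld (x : RuVec) 1 = 0) ∨ (fld (x : RuVec) 0 = 0 ∧ fld (x : RuVec) 1 = 4) ∨
    (fld (x : RuVec) 0 = 0 ∧ fld (x : RuVec) 1 = -4) := by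
  have h := pat_all hpat hM hx
  have h0 := fld_of_dg (small_L hx) (j := 0) (by norm_num)
  have h1 := fld_of_dg (small_L hx) (j := 1) (by norm_num)
  unfold patOK at h
  simp only [Bool.or_eq_true, Bool.and_eq_true, Nat.beq_eq_true_eq] at h
  have hL : zL x = zOf (x : RuVec) := rfl
  rw [hL] at h
  have hb : ∀ a b : ℕ, Nat.beq a b = true → a = b := fun a b h => Nat.eq_of_beq_eq_true h
  rcases h with (((((((( h | h) | h) | h) | h) | h) | h) | h) | h)
  · left; rw [h0, h1, hb _ _ h.1, hb _ _ h.2]; simp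
  · right; left; rw [h0, h1, hb _ _ h.1, hb _ _ h.2]; simp
  · right; right; left; rw [h0, h1, hb _ _ h.1, hb _ _ h.2]; simp
  · right; right; right; left; rw [h0, h1, hb _ _ h.1, hb _ _ h.2]; simp
  · right; right; right; right; left; rw [h0, h1, hb _ _ h.1, hb _ _ h.2]; simp
  · right; right; right; right; right; left
    apply zL_inj hx (frmL_min (by norm_num))
    rw [zL_frmL (by norm_num)]
    exact hb _ _ h.2
  · right; right; right; right; right; right; left; rw [h0, h1, hb _ _ h.1, hb _ _ h.2]; simp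
  · right; right; right; right; right; right; right; left; rw [h0, h1, hb _ _ h.1, hb _ _ h.2]; simp
  · right; right; right; right; right; right; right; right; rw [h0, h1, hb _ _ h.1, hb _ _ h.2]; simp

theorem eq_frm_of_re {y : ruLattice} (hy : y ∈ minSet) (h : (hp y (frmL 0)).re = 16) : y = frmL 0 := by
  rw [hp_frm0] at h
  have h4 : fld (y : RuVec) 0 = 4 := by
    have : 4 * fld (y : RuVec) 0 = 16 := h
    omega
  rcases fields_of_pat hpat hM hy with h' | h' | h' | h' | h' | h' | h' | h' | h'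
  · rw [h'.1] at h4; norm_num at h4
  · rw [h'.1] at h4; norm_num at h4
  · rw [h'.1] at h4; norm_num at h4
  · rw [h'.1] at h4; norm_num at h4
  · rw [h'.1] at h4; norm_num at h4
  · exact h'
  · rw [h'.1] at h4; norm_num at h4
  · rw [h'.1] at h4; norm_num at h4
  · rw [h'.1] at h4; norm_num at h4

theorem class_main {w : ruLattice} (hw : w ∈ minSet) : ∃ k : ℕ, ap (iota ^ k) w = frmL 0 ∨ hp (ap (iota ^ k) w) (frmL 0) = 0 ∨
    hp (ap (iota ^ k) w) (frmL 0) = ⟨4, 0⟩ := by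
  have hmul : ∀ (k : ℕ) (a b : ℤ), fld (w : RuVec) 0 = a → fld (w : RuVec) 1 = b →
      hp (ap (iota ^ k) w) (frmL 0) = gI ^ k * ⟨4 * a, 4 * b⟩ := by
    intro k a b ha hb
    rw [hp_iota_pow, hp_frm0, ha, hb]
  have h16 : ∀ (k : ℕ) (a b : ℤ), fld (w : RuVec) 0 = a → fld (w : RuVec) 1 = b →
      gI ^ k * (⟨4 * a, 4 * b⟩ : GaussianInt) = ⟨16, 0⟩ → ap (iota ^ k) w = frmL 0 := by
    intro k a b ha hb he
    apply eq_frm_of_re hpat hM (mem_minSet_ap _ hw)
    rw [hmul k a b ha hb, he]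
  rcases fields_of_pat hpat hM hw with h | h | h | h | h | h | h | h | h
  · exact ⟨0, Or.inr (Or.inl (by rw [hmul 0 0 0 h.1 h.2]; decide))⟩
  · exact ⟨0, Or.inr (Or.inr (by rw [hmul 0 1 0 h.1 h.2]; decide))⟩
  · exact ⟨2, Or.inr (Or.inr (by rw [hmul 2 (-1) 0 h.1 h.2]; decide))⟩
  · exact ⟨3, Or.inr (Or.inr (by rw [hmul 3 0 1 h.1 h.2]; decide))⟩
  · exact ⟨1, Or.inr (Or.inr (by rw [hmul 1 0 (-1) h.1 h.2]; decide))⟩
  · exact ⟨0, Or.inl h⟩
  · exact ⟨2, Or.inl (h16 2 (-4) 0 h.1 h.2 (by decide))⟩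
  · exact ⟨3, Or.inl (h16 3 0 4 h.1 h.2 (by decide))⟩
  · exact ⟨1, Or.inl (h16 1 0 (-4) h.1 h.2 (by decide))⟩

end Class

/-! ### The kernel of the action on the lines -/

theorem ap_iota_pow_coe (k : ℕ) (w : ruLattice) : ((ap (iota ^ k) w : ruLattice) : RuVec) = gI ^ k • (w : RuVec) := by
  induction k with
  | zero =>
    rw [pow_zero, pow_zero, one_smul]
    rfl
  | succ k ih =>
    rw [pow_succ', pow_succ', ap_mul, ap_iota, mul_smul, ← ih]
    rfl

theorem fix_prop {g : fourRu} (hg : ∀ w ∈ minSet, ∃ k : ℕ, ap g w = ap (iota ^ k) w) {u w : ruLattice} (hu : ap g u = u)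
    (hw : w ∈ minSet) (hne : hp w u ≠ 0) : ap g w = w := by
  obtain ⟨k, hk⟩ := hg w hw
  have h1 : hp (ap g w) (ap g u) = hp w u := (isoMap_of_mem g).herm_eq w u
  rw [hu, hk, hp_iota_pow] at h1
  have h2 : gI ^ k = 1 := by
    have : gI ^ k * hp w u = 1 * hp w u := by rw [h1, one_mul]
    exact mul_right_cancel₀ hne this
  rw [hk]
  apply Subtype.ext
  rw [ap_iota_pow_coe, h2, one_smul]

theorem kernel_main (hwit : ∀ i, i < 56 → i % 2 = 0 → i ≠ 0 → ∃ x ∈ minSet, fld (x : RuVec) 0 ≠ 0 ∧ fld (x : RuVec) i ≠ 0)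
    (f : fourRu) (hf : ∀ w ∈ minSet, ∃ k : ℕ, (f : Equiv.Perm ruLattice) w = ((iota ^ k : fourRu) : Equiv.Perm ruLattice) w) :
    ∃ k : ℕ, f = iota ^ k := by
  have hv : frmL 0 ∈ minSet := frmL_min (by norm_num)
  obtain ⟨k0, h0⟩ := hf _ hv
  refine ⟨k0, ?_⟩
  set g : fourRu := (iota ^ k0)⁻¹ * f with hgdef
  have hinv : (iota ^ k0)⁻¹ = iota ^ (3 * k0) := by
    apply inv_eq_of_mul_eq_one_right
    rw [← pow_add, show k0 + 3 * k0 = 4 * k0 by ring, pow_mul, iota_four, one_pow]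
  have hgv : ap g (frmL 0) = frmL 0 := by
    rw [hgdef, ap_mul]
    have : ap f (frmL 0) = ap (iota ^ k0) (frmL 0) := h0
    rw [this, ← ap_mul, inv_mul_cancel]
    rfl
  have hg : ∀ w ∈ minSet, ∃ k : ℕ, ap g w = ap (iota ^ k) w := by
    intro w hw
    obtain ⟨m, hm⟩ := hf w hw
    refine ⟨3 * k0 + m, ?_⟩
    rw [hgdef, ap_mul]
    have : ap f w = ap (iota ^ m) w := hm
    rw [this, ← ap_mul, hinv, pow_add]
  have heven : ∀ i, i < 56 → i % 2 = 0 → ap g (frmL i) = frmL i := by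
    intro i hi h2
    by_cases hi0 : i = 0
    · subst hi0
      exact hgv
    obtain ⟨x, hx, hx0, hxi⟩ := hwit i hi h2 hi0
    have h1 : hp x (frmL 0) ≠ 0 := by
      intro h
      have h3 := congrArg Zsqrtd.re h
      rw [hp_frm0] at h3
      have : 4 * fld (x : RuVec) 0 = 0 := h3
      omega
    have h2x := fix_prop hg hgv hx h1
    refine fix_prop hg h2x (frmL_min hi) ?_
    intro h
    have h3 := congrArg Zsqrtd.re h
    have h4 : (hp (frmL i) x).re = (herm (x : RuVec) (frm i)).re := herm_swap_re _ _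
    rw [h4, herm_frm_re _ hi] at h3
    have : 4 * fld (x : RuVec) i = 0 := h3
    omega
  have hall : ∀ i, i < 56 → ap g (frmL i) = frmL i := by
    intro i hi
    by_cases h2 : i % 2 = 0
    · exact heven i hi h2
    · have e := pos_idxOf_odd i hi (by omega)
      have e2 : 2 * pos (idxOf i) < 56 := by omega
      have h3 := heven _ e2 (by omega)
      have e3 : frmL (2 * pos (idxOf i) + 1) = ruI (frmL (2 * pos (idxOf i))) := by
        apply Subtype.ext
        show frm _ = gI • frm _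
        rw [frm_odd, frm_even]
      rw [← e, e3]
      have h4 := (isoMap_of_mem g).comm (frmL (2 * pos (idxOf i)))
      have h5 : ap g (ruI (frmL (2 * pos (idxOf i)))) = ruI (ap g (frmL (2 * pos (idxOf i)))) := h4
      rw [h5, h3]
  have hg1 : g = 1 := eq_one_of_frames hall
  have : f = iota ^ k0 := by
    have h6 : (iota ^ k0)⁻¹ * f = 1 := hg1
    exact (inv_mul_eq_one.mp h6).symm
  exact this

end Cfsg.Agent.Lib.RuAut
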