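import Mathlib
import Cfsg.Agent.Lib.RuAut.Final

/-!
# Permutation models of the Rudvalis group from a labelling of the lines of minimal vectors

Given a labelling of the lines of the lattice by a finite set such that the generators of the group act as elements of a
permutation group of the same order as `Ru`, the group `Ru` is isomorphic to this permutation group.
-/

set_option autoImplicit false

namespace Cfsg.Agent.Lib.RuAut

open Cfsg.Spor

section Lines

variable {n : ℕ} {lab : Fin n → ruLattice}

/-- The scalars. -/
abbrev scal : Subgroup fourRu := Subgroup.zpowers iota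

theorem scal_comm {c : fourRu} (hc : c ∈ scal) (f : fourRu) : f * c = c * f := by
  have h : iota ∈ Subgroup.center fourRu := Subgroup.mem_center_iff.2 fun g => iota_comm g
  have h2 : scal ≤ Subgroup.center fourRu := (Subgroup.zpowers_le).2 h
  exact ((Subgroup.mem_center_iff.1 (h2 hc)) f)

/-- The line of a vector: the relation. -/
def Maps (lab : Fin n → ruLattice) (f : fourRu) (i j : Fin n) : Prop :=
  ∃ c ∈ scal, ap f (lab i) = ap c (lab j)

variable (huniq : ∀ i j, ∀ c ∈ scal, ap c (lab i) = lab j → i = j)

include huniq in
theorem Maps.unique {f : fourRu} {i j j' : Fin n} (h : Maps lab f i j) (h' : Maps lab f i j') : j = j' := by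
  obtain ⟨c, hc, e⟩ := h
  obtain ⟨c', hc', e'⟩ := h'
  refine huniq j j' (c'⁻¹ * c) (mul_mem (inv_mem hc') hc) ?_
  have : ap c (lab j) = ap c' (lab j') := by rw [← e, ← e']
  calc ap (c'⁻¹ * c) (lab j) = ap c'⁻¹ (ap c (lab j)) := rfl
    _ = ap c'⁻¹ (ap c' (lab j')) := by rw [this]
    _ = ap (c'⁻¹ * c') (lab j') := rfl
    _ = lab j' := by rw [inv_mul_cancel]; rfl

theorem Maps.comp {f g : fourRu} {i j k : Fin n} (h : Maps lab g i j) (h' : Maps lab f j k) :
    Maps lab (f * g) i k := by
  obtain ⟨c, hc, e⟩ := h
  obtain ⟨c', hc', e'⟩ := h'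
  refine ⟨c * c', mul_mem hc hc', ?_⟩
  calc ap (f * g) (lab i) = ap f (ap g (lab i)) := rfl
    _ = ap f (ap c (lab j)) := by rw [e]
    _ = ap (f * c) (lab j) := rfl
    _ = ap (c * f) (lab j) := by rw [scal_comm hc f]
    _ = ap c (ap f (lab j)) := rfl
    _ = ap c (ap c' (lab k)) := by rw [e']
    _ = ap (c * c') (lab k) := rfl

theorem Maps.one (i : Fin n) : Maps lab 1 i i := ⟨1, one_mem _, rfl⟩

variable (hcover : ∀ (f : fourRu) (i : Fin n), ∃ j, Maps lab f i j)

/-- The action on the labels. -/
noncomputable def lineFun (f : fourRu) (i : Fin n) : Fin n := (hcover f i).choose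

theorem lineFun_spec (f : fourRu) (i : Fin n) : Maps lab f i (lineFun hcover f i) := (hcover f i).choose_spec

include huniq in
theorem lineFun_eq {f : fourRu} {i j : Fin n} (h : Maps lab f i j) : lineFun hcover f i = j :=
  Maps.unique huniq (lineFun_spec hcover f i) h

include huniq in
theorem lineFun_mul (f g : fourRu) (i : Fin n) :
    lineFun hcover (f * g) i = lineFun hcover f (lineFun hcover g i) :=
  lineFun_eq huniq hcover ((lineFun_spec hcover g i).comp (lineFun_spec hcover f _))

include huniq in
theorem lineFun_one (i : Fin n) : lineFun hcover 1 i = i :=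
  lineFun_eq huniq hcover (Maps.one i)

/-- The action on the labels, as a homomorphism. -/
noncomputable def lineHom : fourRu →* Equiv.Perm (Fin n) where
  toFun f :=
    { toFun := lineFun hcover f
      invFun := lineFun hcover f⁻¹
      left_inv := fun i => by
        rw [← lineFun_mul huniq hcover, inv_mul_cancel, lineFun_one huniq hcover]
      right_inv := fun i => by
        rw [← lineFun_mul huniq hcover, mul_inv_cancel, lineFun_one huniq hcover] }
  map_one' := by
    ext i
    exact congrArg _ (lineFun_one huniq hcover i)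
  map_mul' f g := by
    ext i
    exact congrArg _ (lineFun_mul huniq hcover f g i)

theorem lineHom_apply (f : fourRu) (i : Fin n) : lineHom huniq hcover f i = lineFun hcover f i := rfl

include huniq hcover in
/-- The group `Ru` as a permutation group. -/
theorem exists_iso_of_lines (P : Subgroup (Equiv.Perm (Fin n)))
    (a b : fourRu) (A B : Equiv.Perm (Fin n))
    (ha : ∀ i, Maps lab a i (A i)) (hb : ∀ i, Maps lab b i (B i)) (hA : A ∈ P) (hB : B ∈ P)
    (hgen : Subgroup.closure {a, b, iota} = ⊤)
    (hker : ∀ f : fourRu, (∀ i, Maps lab f i i) → f ∈ Subgroup.center fourRu)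
    (hcent : Subgroup.center fourRu ≤ scal)
    (hcard : Nat.card Ru = Nat.card P) : Nonempty (Ru ≃* P) := by
  classical
  set ρ := lineHom huniq hcover with hρ
  have hρa : ρ a = A := by
    ext i
    exact congrArg _ (lineFun_eq huniq hcover (ha i))
  have hρb : ρ b = B := by
    ext i
    exact congrArg _ (lineFun_eq huniq hcover (hb i))
  have hρι : ρ iota = 1 := by
    ext i
    have : Maps lab iota i i := ⟨iota, Subgroup.mem_zpowers _, rfl⟩
    exact congrArg _ (lineFun_eq huniq hcover this)
  have hkerρ : Subgroup.center fourRu = ρ.ker := by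
    apply le_antisymm
    · intro c hc
      rw [MonoidHom.mem_ker]
      ext i
      have : Maps lab c i i := ⟨c, hcent hc, rfl⟩
      exact congrArg _ (lineFun_eq huniq hcover this)
    · intro f hf
      rw [MonoidHom.mem_ker] at hf
      apply hker
      intro i
      have h1 := lineFun_spec hcover f i
      have h2 : lineFun hcover f i = i := by
        have := congrArg (fun p : Equiv.Perm (Fin n) => p i) hf
        exact this
      rwa [h2] at h1
  have hrange : ρ.range ≤ P := by
    have : ρ.range = (⊤ : Subgroup fourRu).map ρ := MonoidHom.range_eq_map ρ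
    rw [this, ← hgen, MonoidHom.map_closure, Subgroup.closure_le]
    rintro _ ⟨x, hx, rfl⟩
    rcases hx with rfl | rfl | rfl
    · rw [hρa]; exact hA
    · rw [hρb]; exact hB
    · rw [hρι]; exact one_mem _
  have e1 : Ru ≃* ρ.range :=
    (QuotientGroup.quotientMulEquivOfEq hkerρ).trans (QuotientGroup.quotientKerEquivRange ρ)
  have hcard2 : Nat.card ρ.range = Nat.card P := by
    rw [← Nat.card_congr e1.toEquiv, hcard]
  have : ρ.range = P := Subgroup.eq_of_le_of_card_ge hrange hcard2.ge
  exact ⟨e1.trans (MulEquiv.subgroupCongr this)⟩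

end Lines

end Cfsg.Agent.Lib.RuAut
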