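import Mathlib
import Cfsg.Agent.Lib.RuAut.Enum

set_option autoImplicit false
set_option maxRecDepth 100000

namespace Cfsg.Agent.Lib.RuAut

open Cfsg.Spor Cfsg.Agent.Lib.RuMin

theorem k_lenA : chkA.length = 19 := by decide +kernel
theorem k_lenT : chkT.length = 37 := by decide +kernel
theorem k_col : colA.length = 56 ∧ colT.length = 56 := by decide +kernel
theorem k_colA : ∀ j, j < 19 → ∀ i, i < 56 → (colA.getD i 0).testBit j = (chkA.getD j (0, 0)).1.testBit i := by decide +kernel
theorem k_colT : ∀ j, j < 37 → ∀ i, i < 56 → (colT.getD i 0).testBit j = (chkT.getD j 0).testBit i := by decide +kernel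
theorem k_bA : ∀ c ∈ colA, c < 2 ^ 19 := by decide +kernel
theorem k_bT : ∀ c ∈ colT, c < 2 ^ 37 := by decide +kernel
theorem k_tagA : tagA = tagL 19 colA 0 := by decide +kernel
theorem k_tagT : tagT = tagL 37 colT 0 := by decide +kernel
/-- The test of the popcount table. -/
def pcCheck : ℕ → Bool
  | 0 => true
  | n + 1 => Nat.beq (pcOfTable pcT n) (pcW 14 n) && pcCheck n

theorem pcCheck_sound : ∀ n, pcCheck n = true → ∀ m, m < n → pcOfTable pcT m = pcW 14 m := by
  intro n
  induction n with
  | zero => intro _ m hm; omega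
  | succ n ih =>
    intro h m hm
    rw [pcCheck, Bool.and_eq_true] at h
    rcases Nat.lt_succ_iff_lt_or_eq.mp hm with hm | rfl
    · exact ih h.2 m hm
    · exact Nat.eq_of_beq_eq_true h.1

theorem k_pcCheck : pcCheck 16384 = true := by decide +kernel

theorem k_pc : ∀ m, m < 16384 → pcOfTable pcT m = pcW 14 m := pcCheck_sound _ k_pcCheck
theorem k_tau0 : tauG 0 chkA = 0 := by decide +kernel
theorem k_ne : noLowNE 3 (gensL mask56 colA 0) = true := by decide +kernel

end Cfsg.Agent.Lib.RuAut
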