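import Mathlib
import Cfsg.Agent.Lib.RuAut.Enum

set_option autoImplicit false
set_option maxRecDepth 100000

namespace Cfsg.Agent.Lib.RuAut

open Cfsg.Spor Cfsg.Agent.Lib.RuMin

theorem k_hA : ∀ c ∈ chkA, ∀ j, D4 (herm (bT j) (vecOf c.1 c.2)) := by decide +kernel

theorem k_hT : ∀ t ∈ chkT, ∀ j, D4 (herm (bT j) (vecOf 0 t)) := by decide +kernel

end Cfsg.Agent.Lib.RuAut
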