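import Mathlib
import Cfsg.Agent.Lib.RuAut.Enum

set_option autoImplicit false
set_option maxRecDepth 100000

namespace Cfsg.Agent.Lib.RuAut

open Cfsg.Spor Cfsg.Agent.Lib.RuMin

theorem k_LL : LLs = LLdata := by decide +kernel

end Cfsg.Agent.Lib.RuAut
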