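import Mathlib
import Cfsg.Agent.Lib.RuAut.Enum

set_option autoImplicit false
set_option maxRecDepth 100000

namespace Cfsg.Agent.Lib.RuAut

open Cfsg.Spor Cfsg.Agent.Lib.RuMin

/-- The words of weight 8. -/
def w8L : List ℕ := [9864834688055374065602396160, 38534510500216304943759360, 150525431641469941186560, 587989967349491957760, 2296835809958952960, 8972014882652160, 35046933135360]

/-- The test of a word without the check of weight 8. -/
noncomputable def lowQ (y : ℕ) : Bool :=
  Nat.beq (pcF (Nat.shiftRight y 37)) 16 || Nat.beq y 0 || List.elem y w8L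

theorem k_lowQ : ∀ y ∈ LLdata, lowQ y = true := by decide +kernel

theorem lowOK_of_check8 {y : ℕ} (h : Nat.beq (pcF (Nat.shiftRight y 37)) 8 = true) (h2 : check8 (Nat.shiftRight y 37) = true) : lowOK y = true := by
  unfold lowOK
  rw [h, h2]
  simp

theorem k_w8_0 : lowOK 9864834688055374065602396160 = true :=
  lowOK_of_check8 (by decide +kernel) (by decide +kernel)

theorem k_w8_1 : lowOK 38534510500216304943759360 = true :=
  lowOK_of_check8 (by decide +kernel) (by decide +kernel)

theorem k_w8_2 : lowOK 150525431641469941186560 = true :=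
  lowOK_of_check8 (by decide +kernel) (by decide +kernel)

theorem k_w8_3 : lowOK 587989967349491957760 = true :=
  lowOK_of_check8 (by decide +kernel) (by decide +kernel)

theorem k_w8_4 : lowOK 2296835809958952960 = true :=
  lowOK_of_check8 (by decide +kernel) (by decide +kernel)

theorem k_w8_5 : lowOK 8972014882652160 = true :=
  lowOK_of_check8 (by decide +kernel) (by decide +kernel)

theorem k_w8_6 : lowOK 35046933135360 = true :=
  lowOK_of_check8 (by decide +kernel) (by decide +kernel)

theorem k_low8 : ∀ y ∈ w8L, lowOK y = true := by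
  intro y hy
  simp only [w8L, List.mem_cons, List.not_mem_nil, or_false] at hy
  rcases hy with rfl | rfl | rfl | rfl | rfl | rfl | rfl
  · exact k_w8_0
  · exact k_w8_1
  · exact k_w8_2
  · exact k_w8_3
  · exact k_w8_4
  · exact k_w8_5
  · exact k_w8_6

theorem k_low : ∀ y ∈ LLdata, lowOK y = true := by
  intro y hy
  have h := k_lowQ y hy
  unfold lowQ at h
  rw [Bool.or_eq_true, Bool.or_eq_true] at h
  rcases h with (h | h) | h
  · unfold lowOK
    rw [h]
    simp
  · unfold lowOK
    rw [h]
    simp
  · exact k_low8 y (List.elem_iff.mp h)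

end Cfsg.Agent.Lib.RuAut
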