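import Mathlib
import Cfsg.Agent.Lib.RuAut.Chain
import Cfsg.Agent.Lib.RuAut.EnumK1
import Cfsg.Agent.Lib.RuAut.EnumK2
import Cfsg.Agent.Lib.RuAut.EnumK3
import Cfsg.Agent.Lib.RuAut.EnumK4

/-!
# The codes of the vectors of stored norm 16 are in the array
-/

set_option autoImplicit false
set_option maxRecDepth 100000

namespace Cfsg.Agent.Lib.RuAut

open Cfsg.Spor Cfsg.Agent.Lib.RuMin

theorem enumFacts : EnumFacts where
  hA := k_hA
  hT := k_hT
  hlenA := k_lenA
  hlenT := k_lenT
  hcolL := k_col
  hcolA := k_colA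
  hcolT := k_colT
  hboundA := k_bA
  hboundT := k_bT
  htagA := k_tagA
  htagT := k_tagT
  hpc := k_pc
  hLL := k_LL
  hlow := k_low
  htau0 := k_tau0
  hne := k_ne

/-- A position of the table of positions. -/
noncomputable def piAt (k : ℕ) : ℕ := Nat.mod (Nat.shiftRight piBig (Nat.mul 16 k)) 65536

/-- The test that the list of the enumeration is in the array. -/
noncomputable def chkPi (L : List ℕ) : ℕ → Bool :=
  List.rec (fun _ => true) (fun z _ ih k => Bool.and (Bool.and (Nat.beq z (M (piAt k))) (Nat.blt (piAt k) 16240)) (ih (Nat.succ k))) L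

theorem chkPi_spec : ∀ (L : List ℕ) (k : ℕ), chkPi L k = true → ∀ z ∈ L, ∃ i, i < NN ∧ z = M i := by
  intro L
  induction L with
  | nil => intro k _ z hz; simp at hz
  | cons a L ih =>
    intro k h z hz
    have h' : Bool.and (Bool.and (Nat.beq a (M (piAt k))) (Nat.blt (piAt k) 16240)) (chkPi L (Nat.succ k)) = true := h
    rw [Bool.and_eq_true, Bool.and_eq_true] at h'
    rcases List.mem_cons.mp hz with rfl | hz
    · refine ⟨piAt k, ?_, Nat.eq_of_beq_eq_true h'.1.1⟩
      have := h'.1.2
      rw [Nat.blt_eq] at this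
      exact this
    · exact ih _ h'.2 z hz

theorem k_pi : chkPi minEnum 0 = true := by decide +kernel

theorem k_sorted : sortedCheck (NN - 1) = true := by decide +kernel

theorem hM_all : ∀ x ∈ minSet, ∃ i, i < NN ∧ zL x = M i := by
  intro x hx
  exact chkPi_spec _ _ k_pi _ (min_complete enumFacts (lattice_le x.2) hx)

end Cfsg.Agent.Lib.RuAut
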