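import Mathlib
import Cfsg.Agent.Lib.RuAut.Chain
import Cfsg.Agent.Lib.RuAut.ChainE

/-!
# Level S4 of the chain
-/

set_option autoImplicit false
set_option maxRecDepth 100000

namespace Cfsg.Agent.Lib.RuAut


/-- The weights. -/
def wS4 : List ℕ := [0x40000010000fffff000003ffefffbfff, 0x40001000100000000103ffefffbfff00, 0x400000000fffffffff00000000000001, 0x3fffffffffefffff0000000000000100, 0x40000000000000000000000000000000, 0x40000000000000000000000000000000, 0x4000000000000000000004000fffc000, 0x40000000000000000004000fffc00000, 0x3fffffffffefffff0000000fffc00001, 0x3ffffffff000000000fffffff0004100, 0x3ffffffffffffffffffffff000400100, 0x4000000000000000000000000fffbfff, 0x4000000000100000fffffc0000000000, 0x400000000ffffffffefc000000000000, 0x40000000000000000004000000000000, 0x3ffffffffffffffffffffc0000000000, 0x400000000010400000fffbffefbfff00, 0x400000000fffffc0fffbfff000004001, 0x3fffffffffffbffffffc000fffffc000, 0x4000000000000040000003ffefc00000, 0x3fffffffffffffbfffffffffffffff00, 0x3fffffffffffc0000000000000000001, 0x3fffffffefffc0010000000000000000, 0x400000000010003fff00000000000000, 0x40000000000000000003ffffffffff00, 0x3ffffffffffffffffffffc0000000001,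 0x3fffffffefffffffff0000000fffc000, 0x40000000000fffff0000000fffc00000, 0x3ffffffffffffffffffc000000000000, 0x40000000000000000000040000000000, 0x3ffffffff000000000fffff000400001, 0x4000000000100001000000000fffc100, 0x40000000000fc000fffffbffffffc100, 0x400000001000003ffefbffffffbfffff, 0x3fffffffefffffc00100000010000000, 0x40000000000fc0010000001000000000, 0x40000000000fc00000ffffffefffffff, 0x4000000010000040ffffffefffffff00, 0x4000000010003ffefffc000000400000, 0x3fffffffffefffc0010003ffffffc000, 0x3fffffffffffbffefffc000000400100, 0x4000000000000040010003ffffffbfff, 0x3fffffffefffbfffffffffffefffffff, 0x400000000010003fffffffefffffff00, 0x3fffffffffefc0000000040000003f00, 0x3ffffffff00000400004000000400001, 0x4000000000000040ffffffffefffffff, 0x4000000000003ffffeffffefffffff00, 0x3fffffffffffffc0fffffbefffffc000, 0x3fffffffffffbffffefc00000fc00000, 0x3fffffffffffc000fffbfffff0004100, 0x400000000000003fff0003f0003fffff, 0x3fffffffffefbffffffc00000fc00001, 0x3ffffffff00000400000041000004100, 0x4000000010004000000003efffc00000, 0x3fffffffffefffc00004000010004000]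

/-- The modulus. -/
def pS4 : ℕ := 0x40000000000000000000000000000000

/-- The target. -/
def tS4 : ℕ := 0x807f01ec080fff807dfffbf7ffc00

/-- The mask. -/
def mS4 : ℕ := 0x1000000000000000000000000000000000000000000000000000000000000000000000000000000000000000000000000000000000000000000000000000000000000000000000000000000000000000000000000000000000000000000000000000000000000000000000000000000000000000000000000000000000000000000000000000000000000000000000000000000000000000000000000000000000000000000000000000000000000000000000000000000000000000000000000000000000000000000000000000000000000000000000000000000000000000000000000000000000000000000000000000000000000000000000000000000000000000000000000000000000000000000000000000000000000000000000000000000000000000000000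

/-- The steps. -/
def sS4 : List ℕ := []

/-- The base. -/
def bS4 : List ℕ := [9637, 16159, 15668, 13905, 6676, 2299, 476, 8120]

theorem kS4_wl : wS4.length = 56 := by decide +kernel

theorem kS4_w : ∀ i, i < 56 → (wS4.getD i 0 : ℤ) = (pS4 : ℤ) + combI 16384 (bS4.map M) i := by decide +kernel

theorem kS4_fix : ∀ E ∈ idE :: ([] : List (List ℕ)), ∀ b ∈ bS4, applyZ E (M b) = M b := by decide +kernel

theorem kS4_tgt : sigC wS4 pS4 (M 2388) = tS4 := by decide +kernel

theorem kS4_tree : runT idE [] sS4 (Nat.pow 2 2388) = mS4 := by decide +kernel

theorem kS4_pass : allLoop (chkP wS4 pS4 tS4 mS4) minChunks 0 = true := by decide +kernel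

theorem kS4_cnt : pcBig 290 mS4 = 1 := by decide +kernel

end Cfsg.Agent.Lib.RuAut
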