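import Mathlib
import Cfsg.Agent.Lib.RuAut.Chain
import Cfsg.Agent.Lib.RuAut.ChainE

/-!
# The checks of the words of the generators
-/

set_option autoImplicit false
set_option maxRecDepth 100000

namespace Cfsg.Agent.Lib.RuAut


theorem inv_0 : invE eF0 = eB0 := by decide +kernel

theorem inv_1 : invE eF1 = eB1 := by decide +kernel

theorem inv_2 : invE eF2 = eB2 := by decide +kernel

theorem inv_3 : invE eF3 = eB3 := by decide +kernel

theorem word_3 : mulE eB1 (mulE eB0 (mulE eB1 (mulE eB1 (mulE eB0 (mulE eB0 (mulE eB1 (mulE eB0 (mulE eB0 (mulE eB0 (mulE eB1 (mulE eB1 (mulE eB0 (mulE eB2 (mulE eB0 (mulE eF2 (mulE eF2 (mulE eF0 (mulE eF2 (mulE eF1 (mulE eB2 (mulE eF1 (mulE eB1 (mulE eF2 (mulE eF2 (mulE eB0 (mulE eB1 (mulE eB0 (mulE eF2 (mulE eF1 (mulE eF1 (mulE eB2 (mulE eF2 (mulE eB0 (eF2)))))))))))))))))))))))))))))))))) = eF3 := by decide +kernel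

theorem inv_4 : invE eF4 = eB4 := by decide +kernel

theorem word_4 : mulE eB1 (mulE eB1 (mulE eB0 (mulE eB1 (mulE eB0 (mulE eB0 (mulE eB1 (mulE eB0 (mulE eB0 (mulE eB0 (mulE eB1 (mulE eB1 (mulE eB1 (mulE eF1 (mulE eB0 (mulE eF1 (mulE eF1 (mulE eB0 (mulE eB2 (mulE eF1 (mulE eB0 (mulE eB0 (mulE eB0 (mulE eF1 (mulE eB1 (mulE eB2 (mulE eF2 (mulE eF0 (mulE eB1 (mulE eF0 (mulE eF0 (mulE eF2 (mulE eF0 (eF0))))))))))))))))))))))))))))))))) = eF4 := by decide +kernel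

theorem inv_30 : invE eF30 = eB30 := by decide +kernel

theorem word_30 : mulE eB3 (mulE eB4 (mulE eB3 (mulE eB4 (mulE eB3 (mulE eB3 (mulE eB3 (mulE eB3 (mulE eB4 (mulE eB3 (mulE eB4 (mulE eB3 (mulE eB4 (mulE eB4 (mulE eB4 (mulE eB4 (mulE eF4 (mulE eF4 (mulE eB4 (mulE eF3 (mulE eF3 (mulE eF4 (mulE eB4 (mulE eB3 (mulE eB4 (mulE eB3 (mulE eB4 (mulE eF3 (mulE eF4 (mulE eF4 (mulE eF4 (mulE eF3 (eB4)))))))))))))))))))))))))))))))) = eF30 := by decide +kernel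

theorem inv_31 : invE eF31 = eB31 := by decide +kernel

theorem word_31 : mulE eB3 (mulE eB3 (mulE eB4 (mulE eB3 (mulE eB4 (mulE eB3 (mulE eB3 (mulE eB4 (mulE eB4 (mulE eB4 (mulE eB4 (mulE eF4 (mulE eF3 (mulE eF4 (mulE eF4 (mulE eB3 (mulE eF3 (mulE eF4 (mulE eB3 (mulE eB3 (mulE eB3 (mulE eB4 (mulE eF4 (mulE eF3 (mulE eF3 (mulE eB3 (mulE eF4 (mulE eB3 (mulE eB4 (mulE eF4 (mulE eF4 (mulE eF3 (mulE eB4 (mulE eB3 (mulE eF4 (mulE eB4 (eB3)))))))))))))))))))))))))))))))))))) = eF31 := by decide +kernel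

theorem inv_32 : invE eF32 = eB32 := by decide +kernel

theorem word_32 : mulE eB3 (mulE eB3 (mulE eB3 (mulE eB4 (mulE eB3 (mulE eB4 (mulE eB3 (mulE eB3 (mulE eB3 (mulE eB3 (mulE eF4 (mulE eB3 (mulE eF4 (mulE eB4 (mulE eF3 (mulE eB3 (mulE eF4 (mulE eB3 (mulE eF3 (mulE eF3 (mulE eB4 (mulE eF4 (mulE eF3 (mulE eB3 (mulE eF3 (mulE eF3 (eF3)))))))))))))))))))))))))) = eF32 := by decide +kernel

theorem inv_58 : invE eF58 = eB58 := by decide +kernel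

theorem word_58 : mulE eB30 (mulE eB31 (mulE eB30 (mulE eB30 (mulE eB31 (mulE eB31 (mulE eB30 (mulE eB30 (mulE eB31 (mulE eB31 (mulE eF30 (mulE eB30 (mulE eF30 (mulE eF32 (mulE eF31 (mulE eB32 (mulE eF31 (mulE eB31 (mulE eF30 (mulE eB32 (mulE eF31 (mulE eF30 (mulE eF30 (mulE eB30 (mulE eB30 (mulE eF31 (mulE eB30 (mulE eB32 (mulE eB32 (eB31))))))))))))))))))))))))))))) = eF58 := by decide +kernel

theorem inv_59 : invE eF59 = eB59 := by decide +kernel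

theorem word_59 : mulE eB30 (mulE eB31 (mulE eB31 (mulE eB31 (mulE eB30 (mulE eB31 (mulE eB30 (mulE eB31 (mulE eB31 (mulE eF32 (mulE eB32 (mulE eF31 (mulE eF31 (mulE eB31 (mulE eF32 (mulE eB30 (mulE eF30 (mulE eF32 (mulE eB32 (mulE eF31 (mulE eB31 (mulE eB32 (mulE eF32 (mulE eF30 (eF30)))))))))))))))))))))))) = eF59 := by decide +kernel

theorem inv_61 : invE eF61 = eB61 := by decide +kernel

theorem word_61 : mulE eB31 (mulE eB30 (mulE eB30 (mulE eB31 (mulE eB30 (mulE eB31 (mulE eB30 (mulE eB30 (mulE eB31 (mulE eB30 (mulE eF30 (mulE eF30 (mulE eF32 (mulE eF30 (mulE eB32 (mulE eB30 (mulE eF32 (mulE eF31 (mulE eF30 (mulE eB32 (mulE eB30 (mulE eF30 (mulE eB30 (mulE eF32 (mulE eB30 (eB32))))))))))))))))))))))))) = eF61 := by decide +kernel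

theorem inv_85 : invE eF85 = eB85 := by decide +kernel

theorem word_85 : mulE eB58 (mulE eF58 (mulE eF61 (mulE eB58 (mulE eB61 (mulE eF58 (mulE eF59 (mulE eF58 (mulE eB58 (mulE eB58 (mulE eF58 (mulE eF59 (mulE eB59 (mulE eB58 (mulE eF59 (mulE eF61 (mulE eB61 (mulE eB61 (mulE eF61 (mulE eB58 (mulE eF61 (mulE eF59 (mulE eF61 (mulE eF58 (mulE eB61 (mulE eF58 (eF59)))))))))))))))))))))))))) = eF85 := by decide +kernel

end Cfsg.Agent.Lib.RuAut
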