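import Mathlib
import Cfsg.Agent.Lib.RuMin.Checks

/-!
# The data of an automorphism of the lattice
-/

set_option autoImplicit false
set_option maxRecDepth 100000

namespace Cfsg.Agent.Lib.RuAut

open Cfsg.Spor Cfsg.Agent.Lib.RuMin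

/-- The images of the coordinate vectors. -/
def mucA : Fin 28 → RuVec := ![
  ruOfArray ![![⟨0, 0⟩, ⟨1, 0⟩, ⟨0, -1⟩, ⟨0, 0⟩], ![⟨1, 0⟩, ⟨1, 0⟩, ⟨0, 0⟩, ⟨0, 0⟩], ![⟨-1, 0⟩, ⟨0, 1⟩, ⟨0, 0⟩, ⟨0, 0⟩], ![⟨0, 0⟩, ⟨-1, 0⟩, ⟨0, 0⟩, ⟨0, 1⟩], ![⟨0, -1⟩, ⟨0, 0⟩, ⟨0, 0⟩, ⟨1, 0⟩], ![⟨0, 0⟩, ⟨1, 0⟩, ⟨0, 0⟩, ⟨1, 0⟩], ![⟨0, -1⟩, ⟨0, 1⟩, ⟨0, 1⟩, ⟨0, -1⟩]],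
  ruOfArray ![![⟨-1, 0⟩, ⟨1, 0⟩, ⟨0, -1⟩, ⟨-1, 0⟩], ![⟨0, 0⟩, ⟨0, 0⟩, ⟨0, 0⟩, ⟨0, 0⟩], ![⟨1, 0⟩, ⟨0, -1⟩, ⟨1, 0⟩, ⟨1, 0⟩], ![⟨1, 0⟩, ⟨-1, 0⟩, ⟨-1, 0⟩, ⟨0, -1⟩], ![⟨0, 1⟩, ⟨-1, 0⟩, ⟨1, 0⟩, ⟨1, 0⟩], ![⟨0, 0⟩, ⟨0, 0⟩, ⟨0, 0⟩, ⟨0, 0⟩], ![⟨0, 0⟩, ⟨0, 0⟩, ⟨0, 0⟩, ⟨0, 0⟩]],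
  ruOfArray ![![⟨0, -1⟩, ⟨0, 0⟩, ⟨0, -1⟩, ⟨0, 0⟩], ![⟨0, 0⟩, ⟨-1, 0⟩, ⟨1, 0⟩, ⟨0, 0⟩], ![⟨0, -1⟩, ⟨0, 0⟩, ⟨1, 0⟩, ⟨0, 0⟩], ![⟨0, -1⟩, ⟨0, 1⟩, ⟨1, 0⟩, ⟨1, 0⟩], ![⟨0, -1⟩, ⟨0, 0⟩, ⟨0, 0⟩, ⟨0, 1⟩], ![⟨0, 1⟩, ⟨0, -1⟩, ⟨0, 0⟩, ⟨0, 0⟩], ![⟨1, 0⟩, ⟨0, -1⟩, ⟨0, 0⟩, ⟨0, 0⟩]],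
  ruOfArray ![![⟨0, 0⟩, ⟨0, 0⟩, ⟨0, -1⟩, ⟨0, -1⟩], ![⟨0, -1⟩, ⟨0, 0⟩, ⟨0, 1⟩, ⟨0, 0⟩], ![⟨0, -1⟩, ⟨0, 0⟩, ⟨0, 0⟩, ⟨1, 0⟩], ![⟨0, 0⟩, ⟨0, -1⟩, ⟨0, 0⟩, ⟨0, 1⟩], ![⟨-1, 0⟩, ⟨0, 1⟩, ⟨-1, 0⟩, ⟨0, -1⟩], ![⟨1, 0⟩, ⟨0, 0⟩, ⟨0, 0⟩, ⟨-1, 0⟩], ![⟨0, 0⟩, ⟨0, 0⟩, ⟨-1, 0⟩, ⟨0, 1⟩]],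
  ruOfArray ![![⟨0, 0⟩, ⟨0, 0⟩, ⟨0, 0⟩, ⟨0, 0⟩], ![⟨0, 0⟩, ⟨0, 0⟩, ⟨0, 0⟩, ⟨0, 0⟩], ![⟨-1, 0⟩, ⟨-1, 0⟩, ⟨0, 1⟩, ⟨-1, 0⟩], ![⟨0, 0⟩, ⟨0, 0⟩, ⟨0, 0⟩, ⟨0, 0⟩], ![⟨0, 1⟩, ⟨-1, 0⟩, ⟨0, 1⟩, ⟨0, -1⟩], ![⟨0, 1⟩, ⟨0, -1⟩, ⟨0, -1⟩, ⟨1, 0⟩], ![⟨0, 1⟩, ⟨-1, 0⟩, ⟨-1, 0⟩, ⟨-1, 0⟩]],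
  ruOfArray ![![⟨0, 0⟩, ⟨0, 0⟩, ⟨0, -1⟩, ⟨1, 0⟩], ![⟨-1, 0⟩, ⟨0, -1⟩, ⟨0, 0⟩, ⟨0, 0⟩], ![⟨0, 0⟩, ⟨0, -1⟩, ⟨0, 0⟩, ⟨-1, 0⟩], ![⟨0, 0⟩, ⟨0, -1⟩, ⟨0, -1⟩, ⟨0, 0⟩], ![⟨1, 0⟩, ⟨0, 0⟩, ⟨0, -1⟩, ⟨0, 0⟩], ![⟨1, 0⟩, ⟨0, -1⟩, ⟨0, 1⟩, ⟨1, 0⟩], ![⟨-1, 0⟩, ⟨0, 0⟩, ⟨0, 0⟩, ⟨1, 0⟩]],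
  ruOfArray ![![⟨-1, 0⟩, ⟨-1, 0⟩, ⟨1, 0⟩, ⟨1, 0⟩], ![⟨0, 0⟩, ⟨0, -1⟩, ⟨-1, 0⟩, ⟨0, 0⟩], ![⟨0, 0⟩, ⟨0, 0⟩, ⟨-1, 0⟩, ⟨0, -1⟩], ![⟨0, -1⟩, ⟨-1, 0⟩, ⟨0, 0⟩, ⟨0, 0⟩], ![⟨-1, 0⟩, ⟨0, 0⟩, ⟨1, 0⟩, ⟨0, 0⟩], ![⟨0, 0⟩, ⟨-1, 0⟩, ⟨1, 0⟩, ⟨0, 0⟩], ![⟨1, 0⟩, ⟨0, 0⟩, ⟨0, 1⟩, ⟨0, 0⟩]],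
  ruOfArray ![![⟨0, 1⟩, ⟨1, 0⟩, ⟨0, 0⟩, ⟨0, 0⟩], ![⟨-1, 0⟩, ⟨0, 0⟩, ⟨-1, 0⟩, ⟨0, 0⟩], ![⟨-1, 0⟩, ⟨0, 0⟩, ⟨0, 0⟩, ⟨0, 1⟩], ![⟨-1, 0⟩, ⟨0, 0⟩, ⟨0, 1⟩, ⟨0, 0⟩], ![⟨-1, 0⟩, ⟨0, 1⟩, ⟨1, 0⟩, ⟨0, 1⟩], ![⟨0, 0⟩, ⟨1, 0⟩, ⟨0, 1⟩, ⟨0, 0⟩], ![⟨0, 1⟩, ⟨0, -1⟩, ⟨0, 0⟩, ⟨0, 0⟩]],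
  ruOfArray ![![⟨0, 0⟩, ⟨0, 0⟩, ⟨0, 0⟩, ⟨0, 0⟩], ![⟨1, 0⟩, ⟨0, 1⟩, ⟨-1, 0⟩, ⟨1, 0⟩], ![⟨0, -1⟩, ⟨0, -1⟩, ⟨0, -1⟩, ⟨-1, 0⟩], ![⟨0, 1⟩, ⟨-1, 0⟩, ⟨1, 0⟩, ⟨1, 0⟩], ![⟨0, 0⟩, ⟨0, 0⟩, ⟨0, 0⟩, ⟨0, 0⟩], ![⟨0, 0⟩, ⟨0, 0⟩, ⟨0, 0⟩, ⟨0, 0⟩], ![⟨0, 1⟩, ⟨0, 1⟩, ⟨1, 0⟩, ⟨0, 1⟩]],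
  ruOfArray ![![⟨0, 0⟩, ⟨0, -1⟩, ⟨0, 0⟩, ⟨1, 0⟩], ![⟨0, -1⟩, ⟨0, 0⟩, ⟨0, 0⟩, ⟨1, 0⟩], ![⟨0, 1⟩, ⟨0, 0⟩, ⟨1, 0⟩, ⟨0, 0⟩], ![⟨-1, 0⟩, ⟨-1, 0⟩, ⟨0, 1⟩, ⟨0, -1⟩], ![⟨0, 0⟩, ⟨0, -1⟩, ⟨-1, 0⟩, ⟨0, 0⟩], ![⟨0, 1⟩, ⟨0, 1⟩, ⟨0, 0⟩, ⟨0, 0⟩], ![⟨0, 0⟩, ⟨0, 0⟩, ⟨-1, 0⟩, ⟨1, 0⟩]],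
  ruOfArray ![![⟨1, 0⟩, ⟨0, 0⟩, ⟨0, -1⟩, ⟨0, 0⟩], ![⟨0, -1⟩, ⟨1, 0⟩, ⟨1, 0⟩, ⟨0, 1⟩], ![⟨0, 0⟩, ⟨0, -1⟩, ⟨-1, 0⟩, ⟨0, 0⟩], ![⟨0, 0⟩, ⟨0, 0⟩, ⟨0, 1⟩, ⟨-1, 0⟩], ![⟨0, 0⟩, ⟨0, 0⟩, ⟨0, 1⟩, ⟨0, 1⟩], ![⟨0, 0⟩, ⟨-1, 0⟩, ⟨0, 0⟩, ⟨0, -1⟩], ![⟨0, 0⟩, ⟨-1, 0⟩, ⟨1, 0⟩, ⟨0, 0⟩]],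
  ruOfArray ![![⟨1, 0⟩, ⟨-1, 0⟩, ⟨1, 0⟩, ⟨-1, 0⟩], ![⟨-1, 0⟩, ⟨0, 0⟩, ⟨0, 0⟩, ⟨1, 0⟩], ![⟨0, 0⟩, ⟨0, 0⟩, ⟨0, -1⟩, ⟨-1, 0⟩], ![⟨0, 0⟩, ⟨0, 0⟩, ⟨-1, 0⟩, ⟨1, 0⟩], ![⟨0, 0⟩, ⟨0, 1⟩, ⟨0, 0⟩, ⟨1, 0⟩], ![⟨-1, 0⟩, ⟨0, 0⟩, ⟨0, 0⟩, ⟨0, -1⟩], ![⟨0, -1⟩, ⟨0, 0⟩, ⟨-1, 0⟩, ⟨0, 0⟩]],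
  ruOfArray ![![⟨0, 0⟩, ⟨0, 0⟩, ⟨0, 1⟩, ⟨-1, 0⟩], ![⟨0, -1⟩, ⟨-1, 0⟩, ⟨0, 0⟩, ⟨0, 0⟩], ![⟨0, -1⟩, ⟨0, 0⟩, ⟨0, 1⟩, ⟨0, 0⟩], ![⟨0, 1⟩, ⟨0, 0⟩, ⟨0, 0⟩, ⟨-1, 0⟩], ![⟨0, 0⟩, ⟨1, 0⟩, ⟨0, 0⟩, ⟨1, 0⟩], ![⟨0, 1⟩, ⟨-1, 0⟩, ⟨0, 1⟩, ⟨1, 0⟩], ![⟨0, 0⟩, ⟨1, 0⟩, ⟨0, 1⟩, ⟨0, 0⟩]],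
  ruOfArray ![![⟨0, -1⟩, ⟨-1, 0⟩, ⟨-1, 0⟩, ⟨0, 1⟩], ![⟨0, 0⟩, ⟨-1, 0⟩, ⟨0, 1⟩, ⟨0, 0⟩], ![⟨-1, 0⟩, ⟨1, 0⟩, ⟨0, 0⟩, ⟨0, 0⟩], ![⟨0, 0⟩, ⟨0, 0⟩, ⟨-1, 0⟩, ⟨-1, 0⟩], ![⟨0, 0⟩, ⟨-1, 0⟩, ⟨0, 0⟩, ⟨0, 1⟩], ![⟨0, 0⟩, ⟨1, 0⟩, ⟨1, 0⟩, ⟨0, 0⟩], ![⟨0, 0⟩, ⟨0, 1⟩, ⟨0, 0⟩, ⟨0, 1⟩]],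
  ruOfArray ![![⟨0, 0⟩, ⟨-1, 0⟩, ⟨0, 0⟩, ⟨0, -1⟩], ![⟨0, 0⟩, ⟨0, 1⟩, ⟨0, 1⟩, ⟨0, 0⟩], ![⟨0, 0⟩, ⟨-1, 0⟩, ⟨0, 0⟩, ⟨1, 0⟩], ![⟨0, -1⟩, ⟨1, 0⟩, ⟨0, 1⟩, ⟨1, 0⟩], ![⟨0, 0⟩, ⟨0, -1⟩, ⟨1, 0⟩, ⟨0, 0⟩], ![⟨0, 0⟩, ⟨0, 0⟩, ⟨0, 1⟩, ⟨1, 0⟩], ![⟨-1, 0⟩, ⟨0, 1⟩, ⟨0, 0⟩, ⟨0, 0⟩]],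
  ruOfArray ![![⟨-1, 0⟩, ⟨0, 0⟩, ⟨0, 0⟩, ⟨-1, 0⟩], ![⟨0, -1⟩, ⟨0, -1⟩, ⟨0, 0⟩, ⟨0, 0⟩], ![⟨0, 0⟩, ⟨0, 0⟩, ⟨0, -1⟩, ⟨0, 1⟩], ![⟨0, 0⟩, ⟨1, 0⟩, ⟨0, 0⟩, ⟨0, 1⟩], ![⟨0, 0⟩, ⟨0, -1⟩, ⟨0, -1⟩, ⟨0, 0⟩], ![⟨-1, 0⟩, ⟨0, 0⟩, ⟨0, -1⟩, ⟨0, 0⟩], ![⟨0, 1⟩, ⟨-1, 0⟩, ⟨0, 1⟩, ⟨1, 0⟩]],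
  ruOfArray ![![⟨0, 0⟩, ⟨0, -1⟩, ⟨0, 0⟩, ⟨-1, 0⟩], ![⟨0, 1⟩, ⟨0, 0⟩, ⟨0, 0⟩, ⟨1, 0⟩], ![⟨0, 0⟩, ⟨0, -1⟩, ⟨0, 0⟩, ⟨0, 1⟩], ![⟨0, -1⟩, ⟨0, -1⟩, ⟨1, 0⟩, ⟨-1, 0⟩], ![⟨-1, 0⟩, ⟨0, 0⟩, ⟨0, 0⟩, ⟨-1, 0⟩], ![⟨0, 0⟩, ⟨0, 0⟩, ⟨0, -1⟩, ⟨1, 0⟩], ![⟨0, -1⟩, ⟨1, 0⟩, ⟨0, 0⟩, ⟨0, 0⟩]],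
  ruOfArray ![![⟨0, -1⟩, ⟨0, 0⟩, ⟨1, 0⟩, ⟨0, 0⟩], ![⟨0, -1⟩, ⟨-1, 0⟩, ⟨-1, 0⟩, ⟨0, 1⟩], ![⟨-1, 0⟩, ⟨0, 0⟩, ⟨0, 0⟩, ⟨1, 0⟩], ![⟨0, 0⟩, ⟨0, 0⟩, ⟨1, 0⟩, ⟨0, -1⟩], ![⟨1, 0⟩, ⟨0, 1⟩, ⟨0, 0⟩, ⟨0, 0⟩], ![⟨0, -1⟩, ⟨0, 0⟩, ⟨0, -1⟩, ⟨0, 0⟩], ![⟨-1, 0⟩, ⟨0, 0⟩, ⟨0, 0⟩, ⟨0, -1⟩]],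
  ruOfArray ![![⟨0, 1⟩, ⟨-1, 0⟩, ⟨0, 0⟩, ⟨0, 0⟩], ![⟨0, 0⟩, ⟨0, -1⟩, ⟨0, 0⟩, ⟨-1, 0⟩], ![⟨0, 0⟩, ⟨-1, 0⟩, ⟨1, 0⟩, ⟨0, 0⟩], ![⟨0, 0⟩, ⟨0, -1⟩, ⟨0, 0⟩, ⟨0, -1⟩], ![⟨0, -1⟩, ⟨1, 0⟩, ⟨0, 1⟩, ⟨1, 0⟩], ![⟨0, 0⟩, ⟨1, 0⟩, ⟨0, -1⟩, ⟨0, 0⟩], ![⟨0, 0⟩, ⟨0, 0⟩, ⟨1, 0⟩, ⟨0, 1⟩]],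
  ruOfArray ![![⟨0, 0⟩, ⟨0, 0⟩, ⟨0, -1⟩, ⟨-1, 0⟩], ![⟨0, 0⟩, ⟨0, 0⟩, ⟨-1, 0⟩, ⟨-1, 0⟩], ![⟨0, 1⟩, ⟨0, 0⟩, ⟨0, -1⟩, ⟨0, 0⟩], ![⟨-1, 0⟩, ⟨0, 0⟩, ⟨0, 0⟩, ⟨0, 1⟩], ![⟨1, 0⟩, ⟨0, 0⟩, ⟨0, 1⟩, ⟨0, 0⟩], ![⟨0, 1⟩, ⟨-1, 0⟩, ⟨1, 0⟩, ⟨0, 1⟩], ![⟨0, 0⟩, ⟨1, 0⟩, ⟨0, -1⟩, ⟨0, 0⟩]],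
  ruOfArray ![![⟨0, -1⟩, ⟨1, 0⟩, ⟨0, 1⟩, ⟨0, -1⟩], ![⟨0, 1⟩, ⟨0, -1⟩, ⟨0, 1⟩, ⟨-1, 0⟩], ![⟨-1, 0⟩, ⟨0, -1⟩, ⟨0, -1⟩, ⟨0, -1⟩], ![⟨0, 0⟩, ⟨0, 0⟩, ⟨0, 0⟩, ⟨0, 0⟩], ![⟨0, 0⟩, ⟨0, 0⟩, ⟨0, 0⟩, ⟨0, 0⟩], ![⟨0, 1⟩, ⟨0, 1⟩, ⟨-1, 0⟩, ⟨0, -1⟩], ![⟨0, 0⟩, ⟨0, 0⟩, ⟨0, 0⟩, ⟨0, 0⟩]],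
  ruOfArray ![![⟨0, 0⟩, ⟨0, -1⟩, ⟨0, 0⟩, ⟨0, -1⟩], ![⟨-1, 0⟩, ⟨0, 1⟩, ⟨0, -1⟩, ⟨-1, 0⟩], ![⟨0, 0⟩, ⟨0, 1⟩, ⟨-1, 0⟩, ⟨0, 0⟩], ![⟨1, 0⟩, ⟨-1, 0⟩, ⟨0, 0⟩, ⟨0, 0⟩], ![⟨0, 0⟩, ⟨0, 0⟩, ⟨0, -1⟩, ⟨0, 1⟩], ![⟨0, 1⟩, ⟨0, 0⟩, ⟨0, -1⟩, ⟨0, 0⟩], ![⟨-1, 0⟩, ⟨0, 0⟩, ⟨0, 0⟩, ⟨0, 1⟩]],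
  ruOfArray ![![⟨1, 0⟩, ⟨1, 0⟩, ⟨0, 0⟩, ⟨0, 0⟩], ![⟨0, 0⟩, ⟨0, 0⟩, ⟨-1, 0⟩, ⟨1, 0⟩], ![⟨0, 0⟩, ⟨-1, 0⟩, ⟨0, 0⟩, ⟨0, -1⟩], ![⟨0, 0⟩, ⟨1, 0⟩, ⟨-1, 0⟩, ⟨0, 0⟩], ![⟨0, 0⟩, ⟨0, -1⟩, ⟨0, 0⟩, ⟨0, 1⟩], ![⟨1, 0⟩, ⟨0, -1⟩, ⟨0, -1⟩, ⟨-1, 0⟩], ![⟨0, 0⟩, ⟨1, 0⟩, ⟨0, 1⟩, ⟨0, 0⟩]],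
  ruOfArray ![![⟨0, 0⟩, ⟨0, 1⟩, ⟨-1, 0⟩, ⟨0, 0⟩], ![⟨0, 0⟩, ⟨0, 0⟩, ⟨-1, 0⟩, ⟨0, 1⟩], ![⟨0, 1⟩, ⟨-1, 0⟩, ⟨0, 0⟩, ⟨0, 0⟩], ![⟨1, 0⟩, ⟨0, 0⟩, ⟨1, 0⟩, ⟨0, 0⟩], ![⟨0, 0⟩, ⟨-1, 0⟩, ⟨-1, 0⟩, ⟨0, 0⟩], ![⟨-1, 0⟩, ⟨0, 0⟩, ⟨0, 1⟩, ⟨0, 0⟩], ![⟨0, -1⟩, ⟨0, -1⟩, ⟨0, 1⟩, ⟨0, 1⟩]],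
  ruOfArray ![![⟨1, 0⟩, ⟨0, 1⟩, ⟨0, 1⟩, ⟨-1, 0⟩], ![⟨0, -1⟩, ⟨0, 0⟩, ⟨0, 0⟩, ⟨0, -1⟩], ![⟨0, 1⟩, ⟨0, -1⟩, ⟨0, 0⟩, ⟨0, 0⟩], ![⟨0, -1⟩, ⟨-1, 0⟩, ⟨0, 0⟩, ⟨0, 0⟩], ![⟨0, -1⟩, ⟨0, 0⟩, ⟨0, -1⟩, ⟨0, 0⟩], ![⟨1, 0⟩, ⟨0, 0⟩, ⟨0, 0⟩, ⟨0, 1⟩], ![⟨0, 0⟩, ⟨-1, 0⟩, ⟨0, 0⟩, ⟨-1, 0⟩]],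
  ruOfArray ![![⟨0, -1⟩, ⟨0, 0⟩, ⟨0, 0⟩, ⟨0, -1⟩], ![⟨0, 0⟩, ⟨0, 0⟩, ⟨0, -1⟩, ⟨1, 0⟩], ![⟨0, 0⟩, ⟨0, 0⟩, ⟨-1, 0⟩, ⟨1, 0⟩], ![⟨-1, 0⟩, ⟨0, 0⟩, ⟨-1, 0⟩, ⟨0, 0⟩], ![⟨1, 0⟩, ⟨0, 0⟩, ⟨0, 0⟩, ⟨0, -1⟩], ![⟨0, 0⟩, ⟨1, 0⟩, ⟨0, 0⟩, ⟨1, 0⟩], ![⟨1, 0⟩, ⟨0, -1⟩, ⟨1, 0⟩, ⟨0, 1⟩]],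
  ruOfArray ![![⟨0, -1⟩, ⟨0, 0⟩, ⟨-1, 0⟩, ⟨0, 0⟩], ![⟨0, -1⟩, ⟨0, 1⟩, ⟨-1, 0⟩, ⟨-1, 0⟩], ![⟨1, 0⟩, ⟨0, 0⟩, ⟨0, 0⟩, ⟨-1, 0⟩], ![⟨0, -1⟩, ⟨0, -1⟩, ⟨0, 0⟩, ⟨0, 0⟩], ![⟨0, 1⟩, ⟨1, 0⟩, ⟨0, 0⟩, ⟨0, 0⟩], ![⟨0, 0⟩, ⟨1, 0⟩, ⟨0, 0⟩, ⟨0, -1⟩], ![⟨1, 0⟩, ⟨0, 0⟩, ⟨0, 0⟩, ⟨0, -1⟩]],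
  ruOfArray ![![⟨-1, 0⟩, ⟨0, 1⟩, ⟨0, 0⟩, ⟨0, 0⟩], ![⟨0, 0⟩, ⟨0, -1⟩, ⟨0, 0⟩, ⟨1, 0⟩], ![⟨0, 0⟩, ⟨0, 1⟩, ⟨0, -1⟩, ⟨0, 0⟩], ![⟨1, 0⟩, ⟨0, 0⟩, ⟨0, 1⟩, ⟨0, 0⟩], ![⟨0, 1⟩, ⟨1, 0⟩, ⟨-1, 0⟩, ⟨0, 1⟩], ![⟨1, 0⟩, ⟨0, 0⟩, ⟨0, 0⟩, ⟨1, 0⟩], ![⟨0, 0⟩, ⟨0, 0⟩, ⟨0, -1⟩, ⟨-1, 0⟩]]]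

/-- The images of the generators of the module. -/
def muwA : Fin 28 → RuVec := ![
  ruOfArray ![![⟨1, 0⟩, ⟨0, -1⟩, ⟨0, 1⟩, ⟨0, -1⟩], ![⟨0, 0⟩, ⟨0, 0⟩, ⟨1, 1⟩, ⟨1, 1⟩], ![⟨-1, 0⟩, ⟨-1, 0⟩, ⟨0, -1⟩, ⟨1, 0⟩], ![⟨0, 0⟩, ⟨0, 0⟩, ⟨-1, -1⟩, ⟨1, 1⟩], ![⟨0, 0⟩, ⟨0, 0⟩, ⟨1, -1⟩, ⟨1, 1⟩], ![⟨0, 0⟩, ⟨0, 0⟩, ⟨0, -2⟩, ⟨0, 0⟩], ![⟨-1, 1⟩, ⟨0, 0⟩, ⟨0, 2⟩, ⟨1, -1⟩]],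
  ruOfArray ![![⟨0, -2⟩, ⟨0, 1⟩, ⟨-2, 0⟩, ⟨0, -1⟩], ![⟨-1, -1⟩, ⟨0, 0⟩, ⟨1, 1⟩, ⟨1, 1⟩], ![⟨0, 0⟩, ⟨-1, 0⟩, ⟨0, -1⟩, ⟨0, 0⟩], ![⟨0, 0⟩, ⟨-1, -1⟩, ⟨-1, 0⟩, ⟨-1, 0⟩], ![⟨0, 1⟩, ⟨0, -1⟩, ⟨1, -1⟩, ⟨0, 0⟩], ![⟨1, 0⟩, ⟨1, 1⟩, ⟨0, -1⟩, ⟨0, 0⟩], ![⟨1, 1⟩, ⟨0, -1⟩, ⟨2, 1⟩, ⟨-1, -1⟩]],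
  ruOfArray ![![⟨2, -1⟩, ⟨0, 0⟩, ⟨1, -1⟩, ⟨0, -1⟩], ![⟨-1, -1⟩, ⟨-1, 0⟩, ⟨1, -1⟩, ⟨1, 0⟩], ![⟨-1, 1⟩, ⟨-2, 0⟩, ⟨1, -1⟩, ⟨1, -1⟩], ![⟨0, 0⟩, ⟨0, 1⟩, ⟨0, -1⟩, ⟨-1, 1⟩], ![⟨-1, 1⟩, ⟨0, 0⟩, ⟨0, -1⟩, ⟨0, 1⟩], ![⟨0, 0⟩, ⟨0, 0⟩, ⟨0, -1⟩, ⟨0, 1⟩], ![⟨0, 1⟩, ⟨0, 0⟩, ⟨2, 1⟩, ⟨0, 0⟩]],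
  ruOfArray ![![⟨2, 0⟩, ⟨0, 1⟩, ⟨0, -1⟩, ⟨0, 0⟩], ![⟨1, 0⟩, ⟨-1, -1⟩, ⟨0, 1⟩, ⟨-1, 1⟩], ![⟨0, 1⟩, ⟨-2, -1⟩, ⟨0, -1⟩, ⟨0, 1⟩], ![⟨0, 0⟩, ⟨1, 0⟩, ⟨0, 1⟩, ⟨0, 0⟩], ![⟨-2, 0⟩, ⟨0, 0⟩, ⟨0, -1⟩, ⟨1, 0⟩], ![⟨1, 0⟩, ⟨0, 1⟩, ⟨0, 0⟩, ⟨0, 0⟩], ![⟨0, 1⟩, ⟨0, 0⟩, ⟨0, 1⟩, ⟨0, 0⟩]],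
  ruOfArray ![![⟨1, 0⟩, ⟨-1, 1⟩, ⟨0, -1⟩, ⟨-2, 0⟩], ![⟨0, -1⟩, ⟨-2, 0⟩, ⟨0, 0⟩, ⟨-1, 0⟩], ![⟨-1, 2⟩, ⟨-1, -1⟩, ⟨-1, 0⟩, ⟨0, 0⟩], ![⟨0, 0⟩, ⟨0, 0⟩, ⟨1, 1⟩, ⟨0, 0⟩], ![⟨0, -1⟩, ⟨0, 0⟩, ⟨1, -1⟩, ⟨1, 0⟩], ![⟨0, 0⟩, ⟨0, 0⟩, ⟨1, -2⟩, ⟨0, -1⟩], ![⟨-1, 1⟩, ⟨-1, 1⟩, ⟨-1, 0⟩, ⟨1, 0⟩]],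
  ruOfArray ![![⟨0, 0⟩, ⟨-1, 1⟩, ⟨1, 0⟩, ⟨0, -1⟩], ![⟨-1, 0⟩, ⟨0, 0⟩, ⟨0, -1⟩, ⟨1, 1⟩], ![⟨-1, 1⟩, ⟨-1, 0⟩, ⟨0, -1⟩, ⟨0, 0⟩], ![⟨1, 0⟩, ⟨0, 0⟩, ⟨0, 1⟩, ⟨0, 0⟩], ![⟨0, 1⟩, ⟨1, 0⟩, ⟨0, -1⟩, ⟨1, 0⟩], ![⟨0, 0⟩, ⟨2, -1⟩, ⟨0, 1⟩, ⟨1, -1⟩], ![⟨0, -1⟩, ⟨0, -1⟩, ⟨0, 0⟩, ⟨0, 2⟩]],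
  ruOfArray ![![⟨1, 0⟩, ⟨0, 0⟩, ⟨1, 1⟩, ⟨-1, 0⟩], ![⟨-1, -1⟩, ⟨0, -1⟩, ⟨0, 0⟩, ⟨-1, 0⟩], ![⟨-1, 1⟩, ⟨0, 0⟩, ⟨0, -2⟩, ⟨0, 0⟩], ![⟨0, -1⟩, ⟨-1, -1⟩, ⟨1, 1⟩, ⟨0, 1⟩], ![⟨0, 0⟩, ⟨0, 0⟩, ⟨1, 0⟩, ⟨2, 1⟩], ![⟨1, 0⟩, ⟨-1, 0⟩, ⟨1, -1⟩, ⟨0, 0⟩], ![⟨0, 1⟩, ⟨0, 0⟩, ⟨0, -1⟩, ⟨0, 0⟩]],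
  ruOfArray ![![⟨0, -1⟩, ⟨-1, 1⟩, ⟨0, 0⟩, ⟨0, -1⟩], ![⟨0, -2⟩, ⟨0, -1⟩, ⟨1, -1⟩, ⟨1, 0⟩], ![⟨-1, 0⟩, ⟨-1, 0⟩, ⟨1, -2⟩, ⟨-1, 0⟩], ![⟨1, -1⟩, ⟨0, -1⟩, ⟨-1, 0⟩, ⟨-1, 1⟩], ![⟨-1, 1⟩, ⟨0, 0⟩, ⟨0, -1⟩, ⟨0, 1⟩], ![⟨-1, 0⟩, ⟨0, 1⟩, ⟨-2, 0⟩, ⟨0, 0⟩], ![⟨0, 1⟩, ⟨0, 0⟩, ⟨1, 0⟩, ⟨-1, -1⟩]],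
  ruOfArray ![![⟨0, -1⟩, ⟨-1, 0⟩, ⟨0, 0⟩, ⟨-1, -1⟩], ![⟨0, -1⟩, ⟨0, -1⟩, ⟨-1, -1⟩, ⟨0, 2⟩], ![⟨0, 0⟩, ⟨-1, 0⟩, ⟨0, -2⟩, ⟨0, 1⟩], ![⟨-1, 0⟩, ⟨0, 0⟩, ⟨0, 0⟩, ⟨0, 1⟩], ![⟨1, 1⟩, ⟨0, -1⟩, ⟨0, 0⟩, ⟨1, 0⟩], ![⟨1, 0⟩, ⟨1, 0⟩, ⟨0, -1⟩, ⟨0, 1⟩], ![⟨1, 1⟩, ⟨1, 0⟩, ⟨1, 0⟩, ⟨0, 0⟩]],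
  ruOfArray ![![⟨0, 0⟩, ⟨0, 0⟩, ⟨1, 0⟩, ⟨-1, 0⟩], ![⟨0, 0⟩, ⟨0, -1⟩, ⟨0, 0⟩, ⟨1, 0⟩], ![⟨-1, 1⟩, ⟨-1, 0⟩, ⟨0, -1⟩, ⟨0, 0⟩], ![⟨0, -1⟩, ⟨0, 0⟩, ⟨-1, 0⟩, ⟨0, 0⟩], ![⟨0, 0⟩, ⟨1, -1⟩, ⟨-1, -1⟩, ⟨1, 1⟩], ![⟨0, 1⟩, ⟨0, 0⟩, ⟨-1, -1⟩, ⟨-1, 0⟩], ![⟨-1, 1⟩, ⟨0, 0⟩, ⟨0, 1⟩, ⟨0, 1⟩]],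
  ruOfArray ![![⟨2, 0⟩, ⟨0, 0⟩, ⟨2, 0⟩, ⟨-1, -1⟩], ![⟨0, -1⟩, ⟨-1, 1⟩, ⟨-1, -1⟩, ⟨0, -1⟩], ![⟨-1, 1⟩, ⟨0, 0⟩, ⟨0, -1⟩, ⟨0, -1⟩], ![⟨1, -1⟩, ⟨0, 0⟩, ⟨-1, 0⟩, ⟨0, -1⟩], ![⟨0, 0⟩, ⟨0, 1⟩, ⟨-1, -1⟩, ⟨0, 1⟩], ![⟨0, 0⟩, ⟨0, -1⟩, ⟨0, -1⟩, ⟨0, 0⟩], ![⟨-1, 0⟩, ⟨0, 0⟩, ⟨0, 1⟩, ⟨0, 0⟩]],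
  ruOfArray ![![⟨0, 0⟩, ⟨1, -1⟩, ⟨0, 0⟩, ⟨0, -2⟩], ![⟨1, -1⟩, ⟨-1, 0⟩, ⟨0, -1⟩, ⟨-1, -1⟩], ![⟨-1, 1⟩, ⟨0, 0⟩, ⟨0, -1⟩, ⟨0, -1⟩], ![⟨0, -1⟩, ⟨0, -1⟩, ⟨0, 0⟩, ⟨-1, 1⟩], ![⟨1, 1⟩, ⟨0, -1⟩, ⟨0, 0⟩, ⟨0, 1⟩], ![⟨1, 0⟩, ⟨0, 0⟩, ⟨0, 0⟩, ⟨0, 1⟩], ![⟨1, 1⟩, ⟨1, 0⟩, ⟨1, -1⟩, ⟨-1, 0⟩]],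
  ruOfArray ![![⟨0, -2⟩, ⟨-1, 1⟩, ⟨-1, 1⟩, ⟨-1, -1⟩], ![⟨0, -1⟩, ⟨0, 0⟩, ⟨0, 0⟩, ⟨0, 1⟩], ![⟨0, 1⟩, ⟨-1, 0⟩, ⟨-1, -1⟩, ⟨0, 0⟩], ![⟨0, -1⟩, ⟨0, -1⟩, ⟨-1, 1⟩, ⟨0, 0⟩], ![⟨0, 1⟩, ⟨0, 0⟩, ⟨-1, -2⟩, ⟨1, 1⟩], ![⟨1, 1⟩, ⟨1, 0⟩, ⟨-1, 0⟩, ⟨1, 1⟩], ![⟨1, 1⟩, ⟨1, 0⟩, ⟨1, 1⟩, ⟨-1, 0⟩]],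
  ruOfArray ![![⟨0, 0⟩, ⟨1, -1⟩, ⟨1, 0⟩, ⟨-2, -1⟩], ![⟨0, -1⟩, ⟨-1, -1⟩, ⟨-1, 0⟩, ⟨0, 0⟩], ![⟨-1, 0⟩, ⟨0, 0⟩, ⟨-1, -1⟩, ⟨1, 0⟩], ![⟨-1, 0⟩, ⟨0, 0⟩, ⟨0, -1⟩, ⟨0, 0⟩], ![⟨2, -1⟩, ⟨0, -1⟩, ⟨1, 0⟩, ⟨-1, 0⟩], ![⟨0, 1⟩, ⟨0, 0⟩, ⟨1, -1⟩, ⟨-1, 0⟩], ![⟨-1, 0⟩, ⟨-1, 0⟩, ⟨0, 0⟩, ⟨0, 0⟩]],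
  ruOfArray ![![⟨0, 0⟩, ⟨1, -1⟩, ⟨0, 1⟩, ⟨0, -1⟩], ![⟨0, -1⟩, ⟨-1, 0⟩, ⟨0, 0⟩, ⟨0, 0⟩], ![⟨0, 0⟩, ⟨0, -1⟩, ⟨-1, -1⟩, ⟨0, 1⟩], ![⟨0, -1⟩, ⟨0, 0⟩, ⟨-1, -1⟩, ⟨0, 1⟩], ![⟨1, 0⟩, ⟨1, -1⟩, ⟨1, 0⟩, ⟨0, 0⟩], ![⟨0, 1⟩, ⟨1, 0⟩, ⟨0, -1⟩, ⟨-1, 0⟩], ![⟨0, 0⟩, ⟨-1, 0⟩, ⟨0, 1⟩, ⟨0, 0⟩]],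
  ruOfArray ![![⟨0, -1⟩, ⟨1, 0⟩, ⟨2, 1⟩, ⟨0, -1⟩], ![⟨0, 0⟩, ⟨0, 0⟩, ⟨0, 0⟩, ⟨0, 0⟩], ![⟨-1, 0⟩, ⟨-1, 0⟩, ⟨1, 0⟩, ⟨0, -1⟩], ![⟨0, 0⟩, ⟨-1, 1⟩, ⟨0, 0⟩, ⟨-1, -1⟩], ![⟨0, 0⟩, ⟨1, 1⟩, ⟨0, 0⟩, ⟨-1, 1⟩], ![⟨1, 0⟩, ⟨0, -1⟩, ⟨1, 0⟩, ⟨-1, 0⟩], ![⟨-2, -1⟩, ⟨0, 1⟩, ⟨0, -1⟩, ⟨-1, 0⟩]],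
  ruOfArray ![![⟨0, -1⟩, ⟨1, 0⟩, ⟨0, 1⟩, ⟨0, -1⟩], ![⟨0, 0⟩, ⟨-1, -1⟩, ⟨0, 0⟩, ⟨1, 1⟩], ![⟨0, 0⟩, ⟨-1, 1⟩, ⟨-1, -1⟩, ⟨0, 0⟩], ![⟨1, 0⟩, ⟨0, -1⟩, ⟨0, 1⟩, ⟨0, -1⟩], ![⟨0, 0⟩, ⟨0, 0⟩, ⟨0, 0⟩, ⟨0, 0⟩], ![⟨1, 0⟩, ⟨1, 0⟩, ⟨0, -1⟩, ⟨1, 0⟩], ![⟨0, -1⟩, ⟨0, -1⟩, ⟨1, 0⟩, ⟨0, 1⟩]],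
  ruOfArray ![![⟨1, 0⟩, ⟨0, 1⟩, ⟨0, 0⟩, ⟨-1, -1⟩], ![⟨1, 0⟩, ⟨0, -1⟩, ⟨0, -2⟩, ⟨0, -2⟩], ![⟨0, 1⟩, ⟨0, 0⟩, ⟨0, -1⟩, ⟨0, 0⟩], ![⟨0, -1⟩, ⟨0, 0⟩, ⟨-1, 1⟩, ⟨0, 1⟩], ![⟨0, 1⟩, ⟨0, 0⟩, ⟨-1, 0⟩, ⟨0, 0⟩], ![⟨1, 1⟩, ⟨0, 0⟩, ⟨1, 1⟩, ⟨1, 1⟩], ![⟨1, 0⟩, ⟨0, 0⟩, ⟨1, -1⟩, ⟨0, 1⟩]],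
  ruOfArray ![![⟨0, 1⟩, ⟨1, -1⟩, ⟨1, 1⟩, ⟨0, -1⟩], ![⟨0, 0⟩, ⟨0, 0⟩, ⟨1, 0⟩, ⟨0, -1⟩], ![⟨-1, 0⟩, ⟨0, -1⟩, ⟨0, 0⟩, ⟨0, 0⟩], ![⟨0, -1⟩, ⟨0, 0⟩, ⟨0, -1⟩, ⟨0, 0⟩], ![⟨1, 0⟩, ⟨0, 0⟩, ⟨0, 0⟩, ⟨0, 1⟩], ![⟨0, 1⟩, ⟨0, 0⟩, ⟨1, 0⟩, ⟨-2, 0⟩], ![⟨-1, 0⟩, ⟨0, 1⟩, ⟨0, 1⟩, ⟨-1, 0⟩]],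
  ruOfArray ![![⟨0, 0⟩, ⟨0, 0⟩, ⟨0, 1⟩, ⟨1, 0⟩], ![⟨0, 0⟩, ⟨0, 0⟩, ⟨1, 0⟩, ⟨1, 0⟩], ![⟨0, -1⟩, ⟨0, 0⟩, ⟨0, 1⟩, ⟨0, 0⟩], ![⟨1, 0⟩, ⟨0, 0⟩, ⟨0, 0⟩, ⟨0, -1⟩], ![⟨-1, 0⟩, ⟨0, 0⟩, ⟨0, -1⟩, ⟨0, 0⟩], ![⟨0, -1⟩, ⟨1, 0⟩, ⟨-1, 0⟩, ⟨0, -1⟩], ![⟨0, 0⟩, ⟨-1, 0⟩, ⟨0, 1⟩, ⟨0, 0⟩]],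
  ruOfArray ![![⟨1, -1⟩, ⟨0, 1⟩, ⟨-1, 0⟩, ⟨1, -1⟩], ![⟨-1, 0⟩, ⟨1, 0⟩, ⟨-1, -1⟩, ⟨1, 1⟩], ![⟨0, 0⟩, ⟨-1, 1⟩, ⟨0, -1⟩, ⟨1, 0⟩], ![⟨1, 0⟩, ⟨0, 0⟩, ⟨-1, 0⟩, ⟨0, 0⟩], ![⟨0, 1⟩, ⟨0, 0⟩, ⟨-1, -1⟩, ⟨0, 1⟩], ![⟨0, 1⟩, ⟨0, 0⟩, ⟨0, -1⟩, ⟨1, 1⟩], ![⟨0, 0⟩, ⟨1, -1⟩, ⟨1, 1⟩, ⟨-1, 1⟩]],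
  ruOfArray ![![⟨1, -1⟩, ⟨0, 1⟩, ⟨-1, -1⟩, ⟨1, 0⟩], ![⟨1, -1⟩, ⟨-1, 0⟩, ⟨0, -1⟩, ⟨0, 0⟩], ![⟨0, 1⟩, ⟨-1, -1⟩, ⟨0, -1⟩, ⟨0, 0⟩], ![⟨0, 0⟩, ⟨1, -1⟩, ⟨0, 0⟩, ⟨0, 0⟩], ![⟨0, 1⟩, ⟨0, 0⟩, ⟨0, 0⟩, ⟨0, -1⟩], ![⟨-1, -1⟩, ⟨1, 1⟩, ⟨0, 1⟩, ⟨1, 0⟩], ![⟨2, 0⟩, ⟨1, -1⟩, ⟨0, 1⟩, ⟨-1, 0⟩]],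
  ruOfArray ![![⟨0, 0⟩, ⟨-1, 2⟩, ⟨-1, 0⟩, ⟨0, 0⟩], ![⟨0, -1⟩, ⟨0, 0⟩, ⟨0, -1⟩, ⟨-1, 1⟩], ![⟨0, 1⟩, ⟨0, -1⟩, ⟨0, -1⟩, ⟨0, 1⟩], ![⟨1, -1⟩, ⟨-1, 0⟩, ⟨1, 0⟩, ⟨0, 0⟩], ![⟨0, 1⟩, ⟨1, 0⟩, ⟨-1, -1⟩, ⟨0, 0⟩], ![⟨0, 0⟩, ⟨1, 1⟩, ⟨0, 1⟩, ⟨1, 0⟩], ![⟨1, 0⟩, ⟨0, 0⟩, ⟨-1, 0⟩, ⟨-2, 0⟩]],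
  ruOfArray ![![⟨0, 0⟩, ⟨0, -1⟩, ⟨1, 0⟩, ⟨0, 0⟩], ![⟨0, 0⟩, ⟨0, 0⟩, ⟨1, 0⟩, ⟨0, -1⟩], ![⟨0, -1⟩, ⟨1, 0⟩, ⟨0, 0⟩, ⟨0, 0⟩], ![⟨-1, 0⟩, ⟨0, 0⟩, ⟨-1, 0⟩, ⟨0, 0⟩], ![⟨0, 0⟩, ⟨1, 0⟩, ⟨1, 0⟩, ⟨0, 0⟩], ![⟨1, 0⟩, ⟨0, 0⟩, ⟨0, -1⟩, ⟨0, 0⟩], ![⟨0, 1⟩, ⟨0, 1⟩, ⟨0, -1⟩, ⟨0, -1⟩]],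
  ruOfArray ![![⟨0, -1⟩, ⟨-1, 0⟩, ⟨-1, -1⟩, ⟨1, -1⟩], ![⟨1, 0⟩, ⟨0, 0⟩, ⟨0, -1⟩, ⟨1, 1⟩], ![⟨0, 0⟩, ⟨0, 1⟩, ⟨0, -1⟩, ⟨0, 0⟩], ![⟨1, 0⟩, ⟨1, -1⟩, ⟨-1, 0⟩, ⟨0, 0⟩], ![⟨0, 2⟩, ⟨1, 1⟩, ⟨0, 0⟩, ⟨0, 0⟩], ![⟨0, 1⟩, ⟨1, 1⟩, ⟨0, 0⟩, ⟨1, 0⟩], ![⟨1, 1⟩, ⟨1, -1⟩, ⟨1, 0⟩, ⟨0, -1⟩]],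
  ruOfArray ![![⟨0, 1⟩, ⟨0, 0⟩, ⟨0, 0⟩, ⟨0, 1⟩], ![⟨0, 0⟩, ⟨0, 0⟩, ⟨0, 1⟩, ⟨-1, 0⟩], ![⟨0, 0⟩, ⟨0, 0⟩, ⟨1, 0⟩, ⟨-1, 0⟩], ![⟨1, 0⟩, ⟨0, 0⟩, ⟨1, 0⟩, ⟨0, 0⟩], ![⟨-1, 0⟩, ⟨0, 0⟩, ⟨0, 0⟩, ⟨0, 1⟩], ![⟨0, 0⟩, ⟨-1, 0⟩, ⟨0, 0⟩, ⟨-1, 0⟩], ![⟨-1, 0⟩, ⟨0, 1⟩, ⟨-1, 0⟩, ⟨0, -1⟩]],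
  ruOfArray ![![⟨0, 1⟩, ⟨0, 0⟩, ⟨1, 0⟩, ⟨0, 0⟩], ![⟨0, 1⟩, ⟨0, -1⟩, ⟨1, 0⟩, ⟨1, 0⟩], ![⟨-1, 0⟩, ⟨0, 0⟩, ⟨0, 0⟩, ⟨1, 0⟩], ![⟨0, 1⟩, ⟨0, 1⟩, ⟨0, 0⟩, ⟨0, 0⟩], ![⟨0, -1⟩, ⟨-1, 0⟩, ⟨0, 0⟩, ⟨0, 0⟩], ![⟨0, 0⟩, ⟨-1, 0⟩, ⟨0, 0⟩, ⟨0, 1⟩], ![⟨-1, 0⟩, ⟨0, 0⟩, ⟨0, 0⟩, ⟨0, 1⟩]],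
  ruOfArray ![![⟨1, 0⟩, ⟨0, -1⟩, ⟨0, 0⟩, ⟨0, 0⟩], ![⟨0, 0⟩, ⟨0, 1⟩, ⟨0, 0⟩, ⟨-1, 0⟩], ![⟨0, 0⟩, ⟨0, -1⟩, ⟨0, 1⟩, ⟨0, 0⟩], ![⟨-1, 0⟩, ⟨0, 0⟩, ⟨0, -1⟩, ⟨0, 0⟩], ![⟨0, -1⟩, ⟨-1, 0⟩, ⟨1, 0⟩, ⟨0, -1⟩], ![⟨-1, 0⟩, ⟨0, 0⟩, ⟨0, 0⟩, ⟨-1, 0⟩], ![⟨0, 0⟩, ⟨0, 0⟩, ⟨0, 1⟩, ⟨1, 0⟩]]]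

/-- The coefficients for the images of the generators. -/
def mudA : Fin 28 → Fin 28 → GaussianInt := ![
  ![⟨1, 0⟩, ⟨0, -1⟩, ⟨0, 1⟩, ⟨2, 2⟩, ⟨0, 0⟩, ⟨1, 2⟩, ⟨-1, 0⟩, ⟨2, 1⟩, ⟨-1, 0⟩, ⟨1, 2⟩, ⟨2, 2⟩, ⟨0, 1⟩, ⟨-1, 1⟩, ⟨0, -1⟩, ⟨0, 0⟩, ⟨0, 2⟩, ⟨2, 2⟩, ⟨0, 0⟩, ⟨0, -1⟩, ⟨0, 0⟩, ⟨0, 0⟩, ⟨0, 0⟩, ⟨0, 0⟩, ⟨0, 0⟩, ⟨0, 0⟩, ⟨0, 0⟩, ⟨0, 0⟩, ⟨0, 0⟩],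
  ![⟨0, 2⟩, ⟨0, 1⟩, ⟨2, 0⟩, ⟨1, 0⟩, ⟨-1, -1⟩, ⟨-1, 1⟩, ⟨0, -1⟩, ⟨1, 0⟩, ⟨0, 0⟩, ⟨2, 0⟩, ⟨-1, 1⟩, ⟨-1, -1⟩, ⟨2, -1⟩, ⟨0, -1⟩, ⟨0, 0⟩, ⟨0, 0⟩, ⟨0, 2⟩, ⟨-1, 0⟩, ⟨0, 1⟩, ⟨0, 0⟩, ⟨0, 0⟩, ⟨0, 0⟩, ⟨0, 0⟩, ⟨0, 0⟩, ⟨0, 0⟩, ⟨0, 0⟩, ⟨0, 0⟩, ⟨0, 0⟩],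
  ![⟨2, -1⟩, ⟨0, 0⟩, ⟨1, -1⟩, ⟨0, 2⟩, ⟨-1, -1⟩, ⟨0, 1⟩, ⟨0, -1⟩, ⟨2, 1⟩, ⟨-1, 1⟩, ⟨1, -1⟩, ⟨0, 0⟩, ⟨1, 1⟩, ⟨1, 0⟩, ⟨0, -1⟩, ⟨-1, 2⟩, ⟨2, 1⟩, ⟨0, -1⟩, ⟨-1, 0⟩, ⟨0, 0⟩, ⟨0, 0⟩, ⟨0, 0⟩, ⟨0, 0⟩, ⟨0, 0⟩, ⟨0, 0⟩, ⟨0, 0⟩, ⟨0, 0⟩, ⟨0, 0⟩, ⟨0, 0⟩],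
  ![⟨2, 0⟩, ⟨0, 1⟩, ⟨0, -1⟩, ⟨-1, -1⟩, ⟨1, 0⟩, ⟨0, 1⟩, ⟨-1, 2⟩, ⟨2, 2⟩, ⟨0, 1⟩, ⟨2, 1⟩, ⟨-1, -1⟩, ⟨2, 0⟩, ⟨0, -1⟩, ⟨1, -1⟩, ⟨-1, 0⟩, ⟨0, -1⟩, ⟨1, 1⟩, ⟨2, 0⟩, ⟨0, 2⟩, ⟨0, 0⟩, ⟨0, 0⟩, ⟨0, 0⟩, ⟨0, 0⟩, ⟨0, 0⟩, ⟨0, 0⟩, ⟨0, 0⟩, ⟨0, 0⟩, ⟨0, 0⟩],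
  ![⟨1, 0⟩, ⟨-1, 1⟩, ⟨0, -1⟩, ⟨1, -1⟩, ⟨0, -1⟩, ⟨2, -1⟩, ⟨-1, 1⟩, ⟨2, 2⟩, ⟨-1, 2⟩, ⟨1, 0⟩, ⟨1, -1⟩, ⟨-1, 1⟩, ⟨2, 2⟩, ⟨-1, -1⟩, ⟨-1, 2⟩, ⟨1, 2⟩, ⟨-1, 0⟩, ⟨2, 0⟩, ⟨2, -1⟩, ⟨0, 0⟩, ⟨0, 0⟩, ⟨0, 0⟩, ⟨0, 0⟩, ⟨0, 0⟩, ⟨0, 0⟩, ⟨0, 0⟩, ⟨0, 0⟩, ⟨0, 0⟩],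
  ![⟨0, 0⟩, ⟨-1, 1⟩, ⟨1, 0⟩, ⟨-1, 0⟩, ⟨-1, 0⟩, ⟨0, 1⟩, ⟨0, 1⟩, ⟨-1, 2⟩, ⟨-1, 1⟩, ⟨2, 1⟩, ⟨2, 1⟩, ⟨-1, 0⟩, ⟨1, -1⟩, ⟨2, 2⟩, ⟨0, 2⟩, ⟨2, 0⟩, ⟨2, 1⟩, ⟨2, 0⟩, ⟨2, 2⟩, ⟨0, 0⟩, ⟨0, 0⟩, ⟨0, 0⟩, ⟨0, 0⟩, ⟨0, 0⟩, ⟨0, 0⟩, ⟨0, 0⟩, ⟨0, 0⟩, ⟨0, 0⟩],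
  ![⟨1, 0⟩, ⟨0, 0⟩, ⟨1, 1⟩, ⟨0, 2⟩, ⟨-1, -1⟩, ⟨1, 2⟩, ⟨-1, 1⟩, ⟨2, -1⟩, ⟨-1, 1⟩, ⟨1, -1⟩, ⟨0, -1⟩, ⟨1, 2⟩, ⟨2, 2⟩, ⟨0, -1⟩, ⟨0, 2⟩, ⟨1, 0⟩, ⟨1, 0⟩, ⟨0, 0⟩, ⟨-1, 2⟩, ⟨0, 0⟩, ⟨0, 0⟩, ⟨0, 0⟩, ⟨0, 0⟩, ⟨0, 0⟩, ⟨0, 0⟩, ⟨0, 0⟩, ⟨0, 0⟩, ⟨0, 0⟩],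
  ![⟨0, -1⟩, ⟨-1, 1⟩, ⟨0, 0⟩, ⟨1, 1⟩, ⟨0, 2⟩, ⟨0, -1⟩, ⟨2, 1⟩, ⟨-1, 2⟩, ⟨-1, 0⟩, ⟨2, 0⟩, ⟨1, -1⟩, ⟨2, 0⟩, ⟨2, 2⟩, ⟨1, 2⟩, ⟨2, -1⟩, ⟨0, -1⟩, ⟨2, 0⟩, ⟨0, 0⟩, ⟨1, 2⟩, ⟨0, 0⟩, ⟨0, 0⟩, ⟨0, 0⟩, ⟨0, 0⟩, ⟨0, 0⟩, ⟨0, 0⟩, ⟨0, 0⟩, ⟨0, 0⟩, ⟨0, 0⟩],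
  ![⟨0, -1⟩, ⟨-1, 0⟩, ⟨0, 0⟩, ⟨1, 1⟩, ⟨0, -1⟩, ⟨2, 1⟩, ⟨-1, 0⟩, ⟨1, -1⟩, ⟨0, 0⟩, ⟨1, 2⟩, ⟨-1, 1⟩, ⟨2, 0⟩, ⟨-1, 1⟩, ⟨0, -1⟩, ⟨0, -1⟩, ⟨2, -1⟩, ⟨0, -1⟩, ⟨-1, 0⟩, ⟨0, 1⟩, ⟨0, 0⟩, ⟨0, 0⟩, ⟨0, 0⟩, ⟨0, 0⟩, ⟨0, 0⟩, ⟨0, 0⟩, ⟨0, 0⟩, ⟨0, 0⟩, ⟨0, 0⟩],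
  ![⟨0, 0⟩, ⟨0, 0⟩, ⟨1, 0⟩, ⟨0, 1⟩, ⟨0, 0⟩, ⟨-1, 0⟩, ⟨2, -1⟩, ⟨-1, 2⟩, ⟨-1, 1⟩, ⟨-1, 1⟩, ⟨1, 2⟩, ⟨1, -1⟩, ⟨1, 0⟩, ⟨1, 2⟩, ⟨1, 2⟩, ⟨0, -1⟩, ⟨2, 1⟩, ⟨0, 0⟩, ⟨1, -1⟩, ⟨0, 0⟩, ⟨0, 0⟩, ⟨0, 0⟩, ⟨0, 0⟩, ⟨0, 0⟩, ⟨0, 0⟩, ⟨0, 0⟩, ⟨0, 0⟩, ⟨0, 0⟩],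
  ![⟨2, 0⟩, ⟨0, 0⟩, ⟨2, 0⟩, ⟨1, 2⟩, ⟨0, -1⟩, ⟨1, -1⟩, ⟨2, 0⟩, ⟨1, 2⟩, ⟨-1, 1⟩, ⟨0, 1⟩, ⟨2, 2⟩, ⟨0, -1⟩, ⟨-1, 1⟩, ⟨2, -1⟩, ⟨0, 0⟩, ⟨0, 1⟩, ⟨-1, 2⟩, ⟨-1, 0⟩, ⟨0, 2⟩, ⟨0, 0⟩, ⟨0, 0⟩, ⟨0, 0⟩, ⟨0, 0⟩, ⟨0, 0⟩, ⟨0, 0⟩, ⟨0, 0⟩, ⟨0, 0⟩, ⟨0, 0⟩],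
  ![⟨0, 0⟩, ⟨1, -1⟩, ⟨0, 0⟩, ⟨2, 1⟩, ⟨1, -1⟩, ⟨2, 2⟩, ⟨2, 1⟩, ⟨-1, 1⟩, ⟨-1, 1⟩, ⟨2, 2⟩, ⟨2, 1⟩, ⟨0, 1⟩, ⟨1, -1⟩, ⟨0, 2⟩, ⟨0, 2⟩, ⟨2, -1⟩, ⟨0, 2⟩, ⟨2, 0⟩, ⟨1, 1⟩, ⟨0, 0⟩, ⟨0, 0⟩, ⟨0, 0⟩, ⟨0, 0⟩, ⟨0, 0⟩, ⟨0, 0⟩, ⟨0, 0⟩, ⟨0, 0⟩, ⟨0, 0⟩],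
  ![⟨0, 2⟩, ⟨-1, 1⟩, ⟨-1, 1⟩, ⟨0, 1⟩, ⟨0, -1⟩, ⟨2, 1⟩, ⟨0, 2⟩, ⟨-1, 0⟩, ⟨0, 1⟩, ⟨-1, -1⟩, ⟨2, 1⟩, ⟨-1, 1⟩, ⟨-1, 0⟩, ⟨2, -1⟩, ⟨0, 2⟩, ⟨1, 1⟩, ⟨2, 0⟩, ⟨2, 0⟩, ⟨2, -1⟩, ⟨0, 0⟩, ⟨0, 0⟩, ⟨0, 0⟩, ⟨0, 0⟩, ⟨0, 0⟩, ⟨0, 0⟩, ⟨0, 0⟩, ⟨0, 0⟩, ⟨0, 0⟩],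
  ![⟨0, 0⟩, ⟨1, -1⟩, ⟨1, 0⟩, ⟨0, 1⟩, ⟨0, -1⟩, ⟨0, 0⟩, ⟨-1, -1⟩, ⟨2, -1⟩, ⟨-1, 0⟩, ⟨1, 0⟩, ⟨0, 0⟩, ⟨0, 1⟩, ⟨1, 0⟩, ⟨1, 2⟩, ⟨2, -1⟩, ⟨1, 1⟩, ⟨1, 2⟩, ⟨2, 0⟩, ⟨1, 1⟩, ⟨0, 0⟩, ⟨0, 0⟩, ⟨0, 0⟩, ⟨0, 0⟩, ⟨0, 0⟩, ⟨0, 0⟩, ⟨0, 0⟩, ⟨0, 0⟩, ⟨0, 0⟩],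
  ![⟨0, 0⟩, ⟨1, -1⟩, ⟨0, 1⟩, ⟨0, 0⟩, ⟨0, -1⟩, ⟨-1, 2⟩, ⟨1, 0⟩, ⟨1, -1⟩, ⟨0, 0⟩, ⟨0, 0⟩, ⟨0, 1⟩, ⟨2, 1⟩, ⟨-1, 1⟩, ⟨0, -1⟩, ⟨-1, -1⟩, ⟨1, 1⟩, ⟨-1, 2⟩, ⟨1, 0⟩, ⟨-1, 2⟩, ⟨0, 0⟩, ⟨0, 0⟩, ⟨0, 0⟩, ⟨0, 0⟩, ⟨0, 0⟩, ⟨0, 0⟩, ⟨0, 0⟩, ⟨0, 0⟩, ⟨0, 0⟩],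
  ![⟨0, -1⟩, ⟨1, 0⟩, ⟨2, 1⟩, ⟨1, 1⟩, ⟨0, 0⟩, ⟨1, 1⟩, ⟨1, -1⟩, ⟨2, 2⟩, ⟨-1, 0⟩, ⟨0, 2⟩, ⟨-1, 2⟩, ⟨1, -1⟩, ⟨2, -1⟩, ⟨1, -1⟩, ⟨2, -1⟩, ⟨-1, 0⟩, ⟨0, 0⟩, ⟨2, 0⟩, ⟨0, -1⟩, ⟨0, 0⟩, ⟨0, 0⟩, ⟨0, 0⟩, ⟨0, 0⟩, ⟨0, 0⟩, ⟨0, 0⟩, ⟨0, 0⟩, ⟨0, 0⟩, ⟨0, 0⟩],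
  ![⟨0, -1⟩, ⟨1, 0⟩, ⟨0, 1⟩, ⟨2, 2⟩, ⟨0, 0⟩, ⟨0, 2⟩, ⟨0, -1⟩, ⟨0, 2⟩, ⟨0, 0⟩, ⟨0, 2⟩, ⟨2, -1⟩, ⟨2, 1⟩, ⟨2, -1⟩, ⟨-1, -1⟩, ⟨1, -1⟩, ⟨2, -1⟩, ⟨0, 0⟩, ⟨1, 0⟩, ⟨1, 0⟩, ⟨0, 0⟩, ⟨0, 0⟩, ⟨0, 0⟩, ⟨0, 0⟩, ⟨0, 0⟩, ⟨0, 0⟩, ⟨0, 0⟩, ⟨0, 0⟩, ⟨0, 0⟩],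
  ![⟨1, 0⟩, ⟨0, 1⟩, ⟨0, 0⟩, ⟨-1, 1⟩, ⟨1, 0⟩, ⟨-1, 1⟩, ⟨2, 0⟩, ⟨-1, 1⟩, ⟨0, 1⟩, ⟨-1, 1⟩, ⟨-1, 0⟩, ⟨0, 1⟩, ⟨-1, 1⟩, ⟨2, -1⟩, ⟨0, -1⟩, ⟨2, 0⟩, ⟨1, -1⟩, ⟨-1, 0⟩, ⟨1, 1⟩, ⟨0, 0⟩, ⟨0, 0⟩, ⟨0, 0⟩, ⟨0, 0⟩, ⟨0, 0⟩, ⟨0, 0⟩, ⟨0, 0⟩, ⟨0, 0⟩, ⟨0, 0⟩],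
  ![⟨0, 1⟩, ⟨1, -1⟩, ⟨1, 1⟩, ⟨0, 1⟩, ⟨0, 0⟩, ⟨2, -1⟩, ⟨1, 1⟩, ⟨-1, -1⟩, ⟨-1, 0⟩, ⟨2, 2⟩, ⟨0, -1⟩, ⟨-1, 0⟩, ⟨2, 2⟩, ⟨2, -1⟩, ⟨0, -1⟩, ⟨-1, -1⟩, ⟨2, 0⟩, ⟨0, 0⟩, ⟨1, -1⟩, ⟨0, 0⟩, ⟨0, 0⟩, ⟨0, 0⟩, ⟨0, 0⟩, ⟨0, 0⟩, ⟨0, 0⟩, ⟨0, 0⟩, ⟨0, 0⟩, ⟨0, 0⟩],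
  ![⟨0, 0⟩, ⟨0, 0⟩, ⟨0, 1⟩, ⟨2, 2⟩, ⟨0, 0⟩, ⟨2, 0⟩, ⟨2, 0⟩, ⟨2, 0⟩, ⟨0, -1⟩, ⟨2, 2⟩, ⟨1, -1⟩, ⟨2, 0⟩, ⟨0, 0⟩, ⟨0, 0⟩, ⟨0, 0⟩, ⟨2, 0⟩, ⟨0, 0⟩, ⟨-1, 0⟩, ⟨0, 1⟩, ⟨0, 0⟩, ⟨0, 0⟩, ⟨0, 0⟩, ⟨0, 0⟩, ⟨0, 0⟩, ⟨0, 0⟩, ⟨0, 0⟩, ⟨0, 0⟩, ⟨0, 0⟩],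
  ![⟨1, -1⟩, ⟨0, 1⟩, ⟨-1, 0⟩, ⟨0, -1⟩, ⟨-1, 0⟩, ⟨1, -1⟩, ⟨0, 1⟩, ⟨-1, -1⟩, ⟨0, 0⟩, ⟨-1, 1⟩, ⟨0, -1⟩, ⟨-1, 1⟩, ⟨2, 2⟩, ⟨2, -1⟩, ⟨1, 2⟩, ⟨0, 1⟩, ⟨0, -1⟩, ⟨2, 0⟩, ⟨-1, -1⟩, ⟨0, 0⟩, ⟨0, 0⟩, ⟨0, 0⟩, ⟨0, 0⟩, ⟨0, 0⟩, ⟨0, 0⟩, ⟨0, 0⟩, ⟨0, 0⟩, ⟨0, 0⟩],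
  ![⟨1, -1⟩, ⟨0, 1⟩, ⟨-1, -1⟩, ⟨-1, 1⟩, ⟨1, -1⟩, ⟨0, 1⟩, ⟨1, 1⟩, ⟨-1, 2⟩, ⟨0, 1⟩, ⟨2, 0⟩, ⟨2, 1⟩, ⟨0, -1⟩, ⟨1, -1⟩, ⟨0, 2⟩, ⟨0, 1⟩, ⟨1, -1⟩, ⟨1, 1⟩, ⟨0, 0⟩, ⟨2, 1⟩, ⟨0, 0⟩, ⟨0, 0⟩, ⟨0, 0⟩, ⟨0, 0⟩, ⟨0, 0⟩, ⟨0, 0⟩, ⟨0, 0⟩, ⟨0, 0⟩, ⟨0, 0⟩],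
  ![⟨0, 0⟩, ⟨-1, 2⟩, ⟨-1, 0⟩, ⟨2, 0⟩, ⟨0, -1⟩, ⟨0, 1⟩, ⟨-1, 0⟩, ⟨2, 1⟩, ⟨0, 1⟩, ⟨-1, 2⟩, ⟨0, 0⟩, ⟨-1, -1⟩, ⟨-1, 1⟩, ⟨0, 0⟩, ⟨0, -1⟩, ⟨2, 0⟩, ⟨1, 0⟩, ⟨-1, 0⟩, ⟨-1, 1⟩, ⟨0, 0⟩, ⟨0, 0⟩, ⟨0, 0⟩, ⟨0, 0⟩, ⟨0, 0⟩, ⟨0, 0⟩, ⟨0, 0⟩, ⟨0, 0⟩, ⟨0, 0⟩],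
  ![⟨0, 0⟩, ⟨0, -1⟩, ⟨1, 0⟩, ⟨1, 0⟩, ⟨0, 0⟩, ⟨1, 0⟩, ⟨2, 0⟩, ⟨2, 0⟩, ⟨0, -1⟩, ⟨2, -1⟩, ⟨-1, 2⟩, ⟨0, -1⟩, ⟨0, 0⟩, ⟨2, 0⟩, ⟨-1, 1⟩, ⟨2, -1⟩, ⟨-1, 2⟩, ⟨0, 0⟩, ⟨-1, 2⟩, ⟨0, 0⟩, ⟨0, 0⟩, ⟨0, 0⟩, ⟨0, 0⟩, ⟨0, 0⟩, ⟨0, 0⟩, ⟨0, 0⟩, ⟨0, 0⟩, ⟨0, 0⟩],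
  ![⟨0, -1⟩, ⟨-1, 0⟩, ⟨-1, -1⟩, ⟨0, 1⟩, ⟨1, 0⟩, ⟨0, 0⟩, ⟨-1, -1⟩, ⟨2, 0⟩, ⟨0, 0⟩, ⟨0, -1⟩, ⟨2, -1⟩, ⟨2, -1⟩, ⟨2, -1⟩, ⟨1, -1⟩, ⟨1, -1⟩, ⟨-1, 1⟩, ⟨-1, 0⟩, ⟨0, 0⟩, ⟨0, -1⟩, ⟨0, 0⟩, ⟨0, 0⟩, ⟨0, 0⟩, ⟨0, 0⟩, ⟨0, 0⟩, ⟨0, 0⟩, ⟨0, 0⟩, ⟨0, 0⟩, ⟨0, 0⟩],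
  ![⟨0, 1⟩, ⟨0, 0⟩, ⟨0, 0⟩, ⟨2, -1⟩, ⟨0, 0⟩, ⟨1, 1⟩, ⟨0, -1⟩, ⟨2, 0⟩, ⟨0, 0⟩, ⟨2, 2⟩, ⟨2, -1⟩, ⟨0, 0⟩, ⟨1, 0⟩, ⟨-1, -1⟩, ⟨2, -1⟩, ⟨0, 0⟩, ⟨0, 0⟩, ⟨-1, 0⟩, ⟨0, 0⟩, ⟨0, 0⟩, ⟨0, 0⟩, ⟨0, 0⟩, ⟨0, 0⟩, ⟨0, 0⟩, ⟨0, 0⟩, ⟨0, 0⟩, ⟨0, 0⟩, ⟨0, 0⟩],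
  ![⟨0, 1⟩, ⟨0, 0⟩, ⟨1, 0⟩, ⟨0, 1⟩, ⟨0, 1⟩, ⟨2, 1⟩, ⟨0, 1⟩, ⟨2, -1⟩, ⟨-1, 0⟩, ⟨0, 0⟩, ⟨0, 2⟩, ⟨-1, 2⟩, ⟨1, -1⟩, ⟨2, 2⟩, ⟨1, 2⟩, ⟨0, 2⟩, ⟨1, 1⟩, ⟨1, 0⟩, ⟨2, 1⟩, ⟨0, 0⟩, ⟨0, 0⟩, ⟨0, 0⟩, ⟨0, 0⟩, ⟨0, 0⟩, ⟨0, 0⟩, ⟨0, 0⟩, ⟨0, 0⟩, ⟨0, 0⟩],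
  ![⟨1, 0⟩, ⟨0, -1⟩, ⟨0, 0⟩, ⟨1, 0⟩, ⟨0, 0⟩, ⟨0, -1⟩, ⟨-1, 2⟩, ⟨2, -1⟩, ⟨0, 0⟩, ⟨2, 1⟩, ⟨1, -1⟩, ⟨1, 0⟩, ⟨-1, 0⟩, ⟨2, 2⟩, ⟨1, -1⟩, ⟨-1, -1⟩, ⟨0, 0⟩, ⟨-1, 0⟩, ⟨0, 0⟩, ⟨0, 0⟩, ⟨0, 0⟩, ⟨0, 0⟩, ⟨0, 0⟩, ⟨0, 0⟩, ⟨0, 0⟩, ⟨0, 0⟩, ⟨0, 0⟩, ⟨0, 0⟩]]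

/-- The coefficients for the images of the coordinate vectors. -/
def mueA : Fin 28 → Fin 28 → GaussianInt := ![
  ![⟨0, 0⟩, ⟨1, 0⟩, ⟨0, -1⟩, ⟨-1, 2⟩, ⟨1, 0⟩, ⟨2, -1⟩, ⟨2, -1⟩, ⟨0, -1⟩, ⟨-1, 0⟩, ⟨1, 0⟩, ⟨2, 2⟩, ⟨1, 1⟩, ⟨2, -1⟩, ⟨0, -1⟩, ⟨-1, -1⟩, ⟨1, 1⟩, ⟨-1, 1⟩, ⟨0, 0⟩, ⟨-1, -1⟩, ⟨0, 0⟩, ⟨0, 0⟩, ⟨0, 0⟩, ⟨0, 0⟩, ⟨0, 0⟩, ⟨0, 0⟩, ⟨0, 0⟩, ⟨0, 0⟩, ⟨0, 0⟩],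
  ![⟨-1, 0⟩, ⟨1, 0⟩, ⟨0, -1⟩, ⟨2, 2⟩, ⟨0, 0⟩, ⟨0, 2⟩, ⟨-1, 0⟩, ⟨2, 2⟩, ⟨1, 0⟩, ⟨-1, 2⟩, ⟨0, 0⟩, ⟨0, 2⟩, ⟨0, 0⟩, ⟨1, 0⟩, ⟨2, 1⟩, ⟨0, 0⟩, ⟨1, 0⟩, ⟨0, 0⟩, ⟨0, 1⟩, ⟨0, 0⟩, ⟨0, 0⟩, ⟨0, 0⟩, ⟨0, 0⟩, ⟨0, 0⟩, ⟨0, 0⟩, ⟨0, 0⟩, ⟨0, 0⟩, ⟨0, 0⟩],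
  ![⟨0, -1⟩, ⟨0, 0⟩, ⟨0, -1⟩, ⟨1, -1⟩, ⟨0, 0⟩, ⟨1, 0⟩, ⟨0, 1⟩, ⟨-1, 2⟩, ⟨0, -1⟩, ⟨1, -1⟩, ⟨-1, 0⟩, ⟨2, 1⟩, ⟨2, 2⟩, ⟨-1, 2⟩, ⟨-1, -1⟩, ⟨1, -1⟩, ⟨0, -1⟩, ⟨0, 0⟩, ⟨2, -1⟩, ⟨0, 0⟩, ⟨0, 0⟩, ⟨0, 0⟩, ⟨0, 0⟩, ⟨0, 0⟩, ⟨0, 0⟩, ⟨0, 0⟩, ⟨0, 0⟩, ⟨0, 0⟩],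
  ![⟨0, 0⟩, ⟨0, 0⟩, ⟨0, -1⟩, ⟨0, -1⟩, ⟨0, -1⟩, ⟨-1, 1⟩, ⟨2, -1⟩, ⟨1, 1⟩, ⟨0, -1⟩, ⟨-1, 1⟩, ⟨1, 0⟩, ⟨-1, 0⟩, ⟨1, 0⟩, ⟨1, 2⟩, ⟨2, -1⟩, ⟨0, 0⟩, ⟨1, -1⟩, ⟨0, 0⟩, ⟨-1, 1⟩, ⟨0, 0⟩, ⟨0, 0⟩, ⟨0, 0⟩, ⟨0, 0⟩, ⟨0, 0⟩, ⟨0, 0⟩, ⟨0, 0⟩, ⟨0, 0⟩, ⟨0, 0⟩],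
  ![⟨0, 0⟩, ⟨0, 0⟩, ⟨0, 0⟩, ⟨0, 0⟩, ⟨0, 0⟩, ⟨0, 0⟩, ⟨0, 0⟩, ⟨0, 0⟩, ⟨-1, 0⟩, ⟨-1, 0⟩, ⟨2, 2⟩, ⟨1, 1⟩, ⟨0, 0⟩, ⟨0, 0⟩, ⟨0, 0⟩, ⟨0, 2⟩, ⟨2, 2⟩, ⟨2, 0⟩, ⟨2, -1⟩, ⟨0, 0⟩, ⟨0, 0⟩, ⟨0, 0⟩, ⟨0, 0⟩, ⟨0, 0⟩, ⟨0, 0⟩, ⟨0, 0⟩, ⟨0, 0⟩, ⟨0, 0⟩],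
  ![⟨0, 0⟩, ⟨0, 0⟩, ⟨0, -1⟩, ⟨1, -1⟩, ⟨-1, 0⟩, ⟨0, -1⟩, ⟨1, -1⟩, ⟨2, -1⟩, ⟨0, 0⟩, ⟨2, 1⟩, ⟨1, 0⟩, ⟨2, 1⟩, ⟨2, -1⟩, ⟨-1, -1⟩, ⟨2, 0⟩, ⟨1, -1⟩, ⟨1, -1⟩, ⟨0, 0⟩, ⟨-1, 1⟩, ⟨0, 0⟩, ⟨0, 0⟩, ⟨0, 0⟩, ⟨0, 0⟩, ⟨0, 0⟩, ⟨0, 0⟩, ⟨0, 0⟩, ⟨0, 0⟩, ⟨0, 0⟩],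
  ![⟨-1, 0⟩, ⟨-1, 0⟩, ⟨1, 0⟩, ⟨0, -1⟩, ⟨0, 0⟩, ⟨1, 0⟩, ⟨0, 0⟩, ⟨-1, 0⟩, ⟨0, 0⟩, ⟨2, 2⟩, ⟨2, 2⟩, ⟨2, 0⟩, ⟨0, 0⟩, ⟨2, 0⟩, ⟨0, 0⟩, ⟨2, 2⟩, ⟨-1, 2⟩, ⟨2, 0⟩, ⟨0, -1⟩, ⟨0, 0⟩, ⟨0, 0⟩, ⟨0, 0⟩, ⟨0, 0⟩, ⟨0, 0⟩, ⟨0, 0⟩, ⟨0, 0⟩, ⟨0, 0⟩, ⟨0, 0⟩],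
  ![⟨0, 1⟩, ⟨1, 0⟩, ⟨0, 0⟩, ⟨0, 1⟩, ⟨-1, 0⟩, ⟨-1, 1⟩, ⟨1, -1⟩, ⟨-1, -1⟩, ⟨-1, 0⟩, ⟨0, 0⟩, ⟨0, -1⟩, ⟨0, 1⟩, ⟨2, -1⟩, ⟨1, -1⟩, ⟨1, -1⟩, ⟨-1, -1⟩, ⟨-1, 0⟩, ⟨2, 0⟩, ⟨2, 0⟩, ⟨0, 0⟩, ⟨0, 0⟩, ⟨0, 0⟩, ⟨0, 0⟩, ⟨0, 0⟩, ⟨0, 0⟩, ⟨0, 0⟩, ⟨0, 0⟩, ⟨0, 0⟩],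
  ![⟨0, 0⟩, ⟨0, 0⟩, ⟨0, 0⟩, ⟨0, 0⟩, ⟨1, 0⟩, ⟨-1, -1⟩, ⟨0, 1⟩, ⟨0, 1⟩, ⟨0, -1⟩, ⟨2, 1⟩, ⟨1, 1⟩, ⟨1, 1⟩, ⟨2, 2⟩, ⟨2, -1⟩, ⟨1, 2⟩, ⟨-1, -1⟩, ⟨0, 2⟩, ⟨1, 0⟩, ⟨1, 0⟩, ⟨0, 0⟩, ⟨0, 0⟩, ⟨0, 0⟩, ⟨0, 0⟩, ⟨0, 0⟩, ⟨0, 0⟩, ⟨0, 0⟩, ⟨0, 0⟩, ⟨0, 0⟩],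
  ![⟨0, 0⟩, ⟨0, -1⟩, ⟨0, 0⟩, ⟨-1, 1⟩, ⟨0, -1⟩, ⟨2, 1⟩, ⟨2, 1⟩, ⟨2, 0⟩, ⟨0, 1⟩, ⟨0, 0⟩, ⟨0, -1⟩, ⟨0, -1⟩, ⟨1, -1⟩, ⟨0, 1⟩, ⟨0, 2⟩, ⟨2, 2⟩, ⟨-1, -1⟩, ⟨-1, 0⟩, ⟨-1, 0⟩, ⟨0, 0⟩, ⟨0, 0⟩, ⟨0, 0⟩, ⟨0, 0⟩, ⟨0, 0⟩, ⟨0, 0⟩, ⟨0, 0⟩, ⟨0, 0⟩, ⟨0, 0⟩],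
  ![⟨1, 0⟩, ⟨0, 0⟩, ⟨0, -1⟩, ⟨1, 0⟩, ⟨0, -1⟩, ⟨0, 2⟩, ⟨0, 1⟩, ⟨0, -1⟩, ⟨0, 0⟩, ⟨2, 1⟩, ⟨1, 2⟩, ⟨0, -1⟩, ⟨1, -1⟩, ⟨2, 1⟩, ⟨1, 1⟩, ⟨0, 2⟩, ⟨2, 1⟩, ⟨1, 0⟩, ⟨0, 1⟩, ⟨0, 0⟩, ⟨0, 0⟩, ⟨0, 0⟩, ⟨0, 0⟩, ⟨0, 0⟩, ⟨0, 0⟩, ⟨0, 0⟩, ⟨0, 0⟩, ⟨0, 0⟩],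
  ![⟨1, 0⟩, ⟨-1, 0⟩, ⟨1, 0⟩, ⟨0, 1⟩, ⟨-1, 0⟩, ⟨1, 2⟩, ⟨-1, 0⟩, ⟨1, 1⟩, ⟨0, 0⟩, ⟨2, 2⟩, ⟨0, 0⟩, ⟨1, 1⟩, ⟨-1, 1⟩, ⟨-1, 0⟩, ⟨2, -1⟩, ⟨1, -1⟩, ⟨1, 0⟩, ⟨-1, 0⟩, ⟨0, 1⟩, ⟨0, 0⟩, ⟨0, 0⟩, ⟨0, 0⟩, ⟨0, 0⟩, ⟨0, 0⟩, ⟨0, 0⟩, ⟨0, 0⟩, ⟨0, 0⟩, ⟨0, 0⟩],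
  ![⟨0, 0⟩, ⟨0, 0⟩, ⟨0, 1⟩, ⟨1, -1⟩, ⟨0, -1⟩, ⟨-1, 2⟩, ⟨-1, 2⟩, ⟨2, 1⟩, ⟨0, -1⟩, ⟨0, 0⟩, ⟨2, 0⟩, ⟨1, 2⟩, ⟨-1, 0⟩, ⟨1, -1⟩, ⟨-1, 2⟩, ⟨1, 0⟩, ⟨2, 0⟩, ⟨-1, 0⟩, ⟨1, 0⟩, ⟨0, 0⟩, ⟨0, 0⟩, ⟨0, 0⟩, ⟨0, 0⟩, ⟨0, 0⟩, ⟨0, 0⟩, ⟨0, 0⟩, ⟨0, 0⟩, ⟨0, 0⟩],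
  ![⟨0, -1⟩, ⟨-1, 0⟩, ⟨-1, 0⟩, ⟨0, -1⟩, ⟨0, 0⟩, ⟨0, -1⟩, ⟨2, 1⟩, ⟨1, 0⟩, ⟨-1, 0⟩, ⟨1, 0⟩, ⟨0, -1⟩, ⟨1, -1⟩, ⟨2, 2⟩, ⟨1, -1⟩, ⟨2, -1⟩, ⟨-1, 2⟩, ⟨1, 0⟩, ⟨-1, 0⟩, ⟨1, -1⟩, ⟨0, 0⟩, ⟨0, 0⟩, ⟨0, 0⟩, ⟨0, 0⟩, ⟨0, 0⟩, ⟨0, 0⟩, ⟨0, 0⟩, ⟨0, 0⟩, ⟨0, 0⟩],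
  ![⟨0, 0⟩, ⟨-1, 0⟩, ⟨0, 0⟩, ⟨-1, -1⟩, ⟨0, 0⟩, ⟨0, -1⟩, ⟨2, 1⟩, ⟨1, 2⟩, ⟨0, 0⟩, ⟨1, 2⟩, ⟨0, 0⟩, ⟨2, -1⟩, ⟨2, 2⟩, ⟨-1, -1⟩, ⟨2, 2⟩, ⟨1, 2⟩, ⟨-1, -1⟩, ⟨-1, 0⟩, ⟨2, 0⟩, ⟨0, 0⟩, ⟨0, 0⟩, ⟨0, 0⟩, ⟨0, 0⟩, ⟨0, 0⟩, ⟨0, 0⟩, ⟨0, 0⟩, ⟨0, 0⟩, ⟨0, 0⟩],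
  ![⟨-1, 0⟩, ⟨0, 0⟩, ⟨0, 0⟩, ⟨-1, 0⟩, ⟨0, -1⟩, ⟨1, 0⟩, ⟨0, -1⟩, ⟨2, -1⟩, ⟨0, 0⟩, ⟨2, 2⟩, ⟨2, -1⟩, ⟨1, -1⟩, ⟨1, 0⟩, ⟨1, -1⟩, ⟨1, -1⟩, ⟨2, -1⟩, ⟨-1, 0⟩, ⟨1, 0⟩, ⟨0, -1⟩, ⟨0, 0⟩, ⟨0, 0⟩, ⟨0, 0⟩, ⟨0, 0⟩, ⟨0, 0⟩, ⟨0, 0⟩, ⟨0, 0⟩, ⟨0, 0⟩, ⟨0, 0⟩],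
  ![⟨0, 0⟩, ⟨0, -1⟩, ⟨0, 0⟩, ⟨0, 0⟩, ⟨0, 1⟩, ⟨2, 2⟩, ⟨2, 2⟩, ⟨2, 2⟩, ⟨0, 0⟩, ⟨2, 1⟩, ⟨0, 0⟩, ⟨1, -1⟩, ⟨0, -1⟩, ⟨2, 0⟩, ⟨0, -1⟩, ⟨0, 2⟩, ⟨0, 0⟩, ⟨-1, 0⟩, ⟨0, 0⟩, ⟨0, 0⟩, ⟨0, 0⟩, ⟨0, 0⟩, ⟨0, 0⟩, ⟨0, 0⟩, ⟨0, 0⟩, ⟨0, 0⟩, ⟨0, 0⟩, ⟨0, 0⟩],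
  ![⟨0, -1⟩, ⟨0, 0⟩, ⟨1, 0⟩, ⟨-1, 2⟩, ⟨0, -1⟩, ⟨-1, 0⟩, ⟨1, -1⟩, ⟨2, 1⟩, ⟨-1, 0⟩, ⟨0, 0⟩, ⟨1, -1⟩, ⟨-1, -1⟩, ⟨1, 0⟩, ⟨-1, -1⟩, ⟨1, 2⟩, ⟨0, 2⟩, ⟨0, -1⟩, ⟨-1, 0⟩, ⟨-1, 1⟩, ⟨0, 0⟩, ⟨0, 0⟩, ⟨0, 0⟩, ⟨0, 0⟩, ⟨0, 0⟩, ⟨0, 0⟩, ⟨0, 0⟩, ⟨0, 0⟩, ⟨0, 0⟩],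
  ![⟨0, 1⟩, ⟨-1, 0⟩, ⟨0, 0⟩, ⟨1, 2⟩, ⟨0, 0⟩, ⟨2, 1⟩, ⟨-1, 1⟩, ⟨1, 2⟩, ⟨0, 0⟩, ⟨-1, 0⟩, ⟨-1, 1⟩, ⟨-1, 1⟩, ⟨1, -1⟩, ⟨1, 1⟩, ⟨2, 2⟩, ⟨2, 0⟩, ⟨2, 1⟩, ⟨-1, 0⟩, ⟨2, 1⟩, ⟨0, 0⟩, ⟨0, 0⟩, ⟨0, 0⟩, ⟨0, 0⟩, ⟨0, 0⟩, ⟨0, 0⟩, ⟨0, 0⟩, ⟨0, 0⟩, ⟨0, 0⟩],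
  ![⟨0, 0⟩, ⟨0, 0⟩, ⟨0, -1⟩, ⟨2, 2⟩, ⟨0, 0⟩, ⟨2, 0⟩, ⟨2, 0⟩, ⟨0, 2⟩, ⟨0, 1⟩, ⟨0, 0⟩, ⟨1, -1⟩, ⟨2, 0⟩, ⟨0, 0⟩, ⟨0, 0⟩, ⟨0, 0⟩, ⟨2, 0⟩, ⟨0, 0⟩, ⟨-1, 0⟩, ⟨0, 1⟩, ⟨0, 0⟩, ⟨0, 0⟩, ⟨0, 0⟩, ⟨0, 0⟩, ⟨0, 0⟩, ⟨0, 0⟩, ⟨0, 0⟩, ⟨0, 0⟩, ⟨0, 0⟩],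
  ![⟨0, -1⟩, ⟨1, 0⟩, ⟨0, 1⟩, ⟨2, 2⟩, ⟨0, 1⟩, ⟨0, 2⟩, ⟨2, 2⟩, ⟨1, 0⟩, ⟨-1, 0⟩, ⟨-1, 0⟩, ⟨0, -1⟩, ⟨2, 1⟩, ⟨-1, 0⟩, ⟨0, 2⟩, ⟨1, 2⟩, ⟨-1, 2⟩, ⟨0, 0⟩, ⟨0, 0⟩, ⟨-1, -1⟩, ⟨0, 0⟩, ⟨0, 0⟩, ⟨0, 0⟩, ⟨0, 0⟩, ⟨0, 0⟩, ⟨0, 0⟩, ⟨0, 0⟩, ⟨0, 0⟩, ⟨0, 0⟩],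
  ![⟨0, 0⟩, ⟨0, -1⟩, ⟨0, 0⟩, ⟨2, 1⟩, ⟨-1, 0⟩, ⟨1, 1⟩, ⟨2, 2⟩, ⟨2, 1⟩, ⟨0, 0⟩, ⟨1, 0⟩, ⟨0, 2⟩, ⟨0, 2⟩, ⟨-1, 0⟩, ⟨1, -1⟩, ⟨-1, -1⟩, ⟨1, 0⟩, ⟨1, 2⟩, ⟨2, 0⟩, ⟨2, 2⟩, ⟨0, 0⟩, ⟨0, 0⟩, ⟨0, 0⟩, ⟨0, 0⟩, ⟨0, 0⟩, ⟨0, 0⟩, ⟨0, 0⟩, ⟨0, 0⟩, ⟨0, 0⟩],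
  ![⟨1, 0⟩, ⟨1, 0⟩, ⟨0, 0⟩, ⟨1, 1⟩, ⟨0, 0⟩, ⟨1, 2⟩, ⟨2, 0⟩, ⟨-1, -1⟩, ⟨0, 0⟩, ⟨0, 1⟩, ⟨-1, 1⟩, ⟨2, 0⟩, ⟨-1, 1⟩, ⟨1, -1⟩, ⟨1, 0⟩, ⟨-1, 0⟩, ⟨2, 2⟩, ⟨0, 0⟩, ⟨0, -1⟩, ⟨0, 0⟩, ⟨0, 0⟩, ⟨0, 0⟩, ⟨0, 0⟩, ⟨0, 0⟩, ⟨0, 0⟩, ⟨0, 0⟩, ⟨0, 0⟩, ⟨0, 0⟩],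
  ![⟨0, 0⟩, ⟨0, 1⟩, ⟨-1, 0⟩, ⟨-1, 0⟩, ⟨0, 0⟩, ⟨-1, 0⟩, ⟨2, 0⟩, ⟨2, 0⟩, ⟨0, 1⟩, ⟨0, -1⟩, ⟨-1, 2⟩, ⟨0, -1⟩, ⟨0, 0⟩, ⟨2, 0⟩, ⟨-1, 1⟩, ⟨2, -1⟩, ⟨-1, 2⟩, ⟨0, 0⟩, ⟨-1, 2⟩, ⟨0, 0⟩, ⟨0, 0⟩, ⟨0, 0⟩, ⟨0, 0⟩, ⟨0, 0⟩, ⟨0, 0⟩, ⟨0, 0⟩, ⟨0, 0⟩, ⟨0, 0⟩],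
  ![⟨1, 0⟩, ⟨0, 1⟩, ⟨0, 1⟩, ⟨-1, 2⟩, ⟨0, -1⟩, ⟨-1, 1⟩, ⟨2, 1⟩, ⟨2, 2⟩, ⟨0, 1⟩, ⟨0, -1⟩, ⟨1, 2⟩, ⟨-1, -1⟩, ⟨2, 2⟩, ⟨-1, -1⟩, ⟨2, 2⟩, ⟨-1, -1⟩, ⟨2, 0⟩, ⟨1, 0⟩, ⟨0, -1⟩, ⟨0, 0⟩, ⟨0, 0⟩, ⟨0, 0⟩, ⟨0, 0⟩, ⟨0, 0⟩, ⟨0, 0⟩, ⟨0, 0⟩, ⟨0, 0⟩, ⟨0, 0⟩],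
  ![⟨0, -1⟩, ⟨0, 0⟩, ⟨0, 0⟩, ⟨2, 1⟩, ⟨0, 0⟩, ⟨-1, -1⟩, ⟨2, -1⟩, ⟨0, 2⟩, ⟨0, 0⟩, ⟨0, 0⟩, ⟨2, -1⟩, ⟨0, 0⟩, ⟨1, 0⟩, ⟨-1, -1⟩, ⟨2, -1⟩, ⟨0, 0⟩, ⟨0, 0⟩, ⟨-1, 0⟩, ⟨0, 0⟩, ⟨0, 0⟩, ⟨0, 0⟩, ⟨0, 0⟩, ⟨0, 0⟩, ⟨0, 0⟩, ⟨0, 0⟩, ⟨0, 0⟩, ⟨0, 0⟩, ⟨0, 0⟩],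
  ![⟨0, -1⟩, ⟨0, 0⟩, ⟨-1, 0⟩, ⟨0, -1⟩, ⟨0, -1⟩, ⟨0, 1⟩, ⟨2, 1⟩, ⟨0, -1⟩, ⟨1, 0⟩, ⟨2, 2⟩, ⟨0, 2⟩, ⟨-1, 2⟩, ⟨1, -1⟩, ⟨2, 2⟩, ⟨1, 2⟩, ⟨0, 2⟩, ⟨1, 1⟩, ⟨1, 0⟩, ⟨2, 1⟩, ⟨0, 0⟩, ⟨0, 0⟩, ⟨0, 0⟩, ⟨0, 0⟩, ⟨0, 0⟩, ⟨0, 0⟩, ⟨0, 0⟩, ⟨0, 0⟩, ⟨0, 0⟩],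
  ![⟨-1, 0⟩, ⟨0, 1⟩, ⟨0, 0⟩, ⟨-1, 0⟩, ⟨0, 0⟩, ⟨2, -1⟩, ⟨1, 2⟩, ⟨0, -1⟩, ⟨0, 0⟩, ⟨0, 1⟩, ⟨1, -1⟩, ⟨1, 0⟩, ⟨-1, 0⟩, ⟨2, 2⟩, ⟨1, -1⟩, ⟨-1, -1⟩, ⟨0, 0⟩, ⟨-1, 0⟩, ⟨0, 0⟩, ⟨0, 0⟩, ⟨0, 0⟩, ⟨0, 0⟩, ⟨0, 0⟩, ⟨0, 0⟩, ⟨0, 0⟩, ⟨0, 0⟩, ⟨0, 0⟩, ⟨0, 0⟩]]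

theorem chkA_1 : ∀ j p, ∑ q : RuIdx, bT j q * mucA (pIdx q) p = 4 * muwA j p := by decide +kernel

theorem chkA_2 : ∀ j p, D4 (muwA j p - ∑ k, mudA j k * bT k p) := by decide +kernel

theorem chkA_3 : ∀ j p, D4 (mucA j p - ∑ k, mueA j k * bT k p) := by decide +kernel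

theorem chkA_4 : ∀ q q' : RuIdx, herm (mucA (pIdx q)) (mucA (pIdx q')) = if q = q' then 16 else 0 := by decide +kernel

end Cfsg.Agent.Lib.RuAut
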