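import Mathlib
import Cfsg.Agent.Lib.RuAut.Iso
import Cfsg.Agent.Lib.RuAut.LpEq
import Cfsg.Agent.Lib.RuAut.Fields
import Cfsg.Agent.Lib.RuAut.MkDataA
import Cfsg.Agent.Lib.RuAut.MkDataB

/-!
# Norm preserving maps of the lattice from explicit data
-/

set_option autoImplicit false

namespace Cfsg.Agent.Lib.RuAut

open Cfsg.Spor Cfsg.Agent.Lib.RuMin

/-- The linear map with the given columns. -/
noncomputable def Tmap (col : Fin 28 → RuVec) (x : RuVec) : RuVec := ∑ q : RuIdx, x q • col (pIdx q)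

theorem Tmap_apply (col : Fin 28 → RuVec) (x : RuVec) (p : RuIdx) : Tmap col x p = ∑ q : RuIdx, x q * col (pIdx q) p := by
  unfold Tmap
  rw [Finset.sum_apply]
  rfl

theorem Tmap_add (col : Fin 28 → RuVec) (x y : RuVec) : Tmap col (x + y) = Tmap col x + Tmap col y := by
  unfold Tmap
  rw [← Finset.sum_add_distrib]
  refine Finset.sum_congr rfl fun q _ => ?_
  rw [Pi.add_apply, add_smul]

theorem Tmap_smul (col : Fin 28 → RuVec) (c : GaussianInt) (x : RuVec) : Tmap col (c • x) = c • Tmap col x := by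
  unfold Tmap
  rw [Finset.smul_sum]
  refine Finset.sum_congr rfl fun q _ => ?_
  rw [Pi.smul_apply, smul_eq_mul, mul_smul]

theorem Tmap_e4 (col : Fin 28 → RuVec) (q : RuIdx) : Tmap col (e4 q) = (4 : GaussianInt) • col (pIdx q) := by
  unfold Tmap
  rw [Finset.sum_eq_single q]
  · simp [e4]
  · intro b _ hb
    simp [e4, Pi.single_apply, hb]
  · simp

theorem four_smul_cancel {a b : RuVec} (h : (4 : GaussianInt) • a = (4 : GaussianInt) • b) : a = b := by
  funext p
  have := congrFun h p
  simp only [Pi.smul_apply, smul_eq_mul] at this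
  exact mul_left_cancel₀ (by decide) this

theorem herm_sum_left {ι : Type*} (s : Finset ι) (a : ι → GaussianInt) (u : ι → RuVec) (y : RuVec) :
    herm (∑ q ∈ s, a q • u q) y = ∑ q ∈ s, a q * herm (u q) y := by
  classical
  induction s using Finset.induction_on with
  | empty => simp [herm]
  | insert b s hb ih =>
    rw [Finset.sum_insert hb, Finset.sum_insert hb, herm_add_left, ih, herm_smul_left]

theorem star_sum' {ι : Type*} (s : Finset ι) (f : ι → GaussianInt) : star (∑ q ∈ s, f q) = ∑ q ∈ s, star (f q) := by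
  classical
  induction s using Finset.induction_on with
  | empty => simp
  | insert b s hb ih => rw [Finset.sum_insert hb, Finset.sum_insert hb, star_add, ih]

theorem herm_add_right (x y w : RuVec) : herm x (y + w) = herm x y + herm x w := by
  unfold herm
  rw [← Finset.sum_add_distrib]
  refine Finset.sum_congr rfl fun p _ => ?_
  rw [Pi.add_apply, star_add, mul_add]

theorem herm_sum_right {ι : Type*} (s : Finset ι) (a : ι → GaussianInt) (u : ι → RuVec) (x : RuVec) :
    herm x (∑ q ∈ s, a q • u q) = ∑ q ∈ s, star (a q) * herm x (u q) := by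
  classical
  induction s using Finset.induction_on with
  | empty => simp [herm]
  | insert b s hb ih =>
    rw [Finset.sum_insert hb, Finset.sum_insert hb, herm_add_right, ih, herm_smul_right]

theorem ruNorm_eq_herm (x : RuVec) : ruNorm x = (herm x x).re := by
  rw [norm_eq, herm_re]
  refine Finset.sum_congr rfl fun i _ => ?_
  ring

theorem mul_star_self_re (a : GaussianInt) : (a * star a).re = a.norm := by
  rw [Zsqrtd.re_mul, Zsqrtd.re_star, Zsqrtd.im_star, Zsqrtd.norm]
  ring

theorem ruNorm_Tmap (col : Fin 28 → RuVec) (h4 : ∀ q q' : RuIdx, herm (col (pIdx q)) (col (pIdx q')) = if q = q' then 16 else 0)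
    (x : RuVec) : ruNorm (Tmap col x) = 16 * ruNorm x := by
  rw [ruNorm_eq_herm]
  unfold Tmap
  rw [herm_sum_left]
  have h1 : ∀ q : RuIdx, x q * herm (col (pIdx q)) (∑ r : RuIdx, x r • col (pIdx r)) = x q * star (x q) * 16 := by
    intro q
    rw [herm_sum_right, Finset.sum_eq_single q]
    · rw [h4, if_pos rfl]
      ring
    · intro b _ hb
      rw [h4, if_neg (Ne.symm hb), mul_zero]
    · simp
  rw [Finset.sum_congr rfl (fun q _ => h1 q), re_sum, ruNorm, Finset.mul_sum]
  refine Finset.sum_congr rfl fun q _ => ?_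
  rw [Zsqrtd.re_mul]
  have : ((16 : GaussianInt)).im = 0 := rfl
  have h2 : ((16 : GaussianInt)).re = 16 := rfl
  rw [this, h2, mul_star_self_re]
  ring

theorem ruNorm_four (y : RuVec) : ruNorm ((4 : GaussianInt) • y) = 16 * ruNorm y := by
  rw [ruNorm_smul]
  rfl

/-- The main construction. -/
theorem exists_map_of (col W : Fin 28 → RuVec) (c d : Fin 28 → Fin 28 → GaussianInt)
    (h1 : ∀ j p, ∑ q : RuIdx, bT j q * col (pIdx q) p = 4 * W j p)
    (h2 : ∀ j p, D4 (W j p - ∑ k, c j k * bT k p))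
    (h3 : ∀ j p, D4 (col j p - ∑ k, d j k * bT k p))
    (h4 : ∀ q q' : RuIdx, herm (col (pIdx q)) (col (pIdx q')) = if q = q' then 16 else 0) :
    ∃ F : ruLattice → ruLattice, IsoMap F ∧ ∀ q : RuIdx, ((F (e4L q) : ruLattice) : RuVec) = col (pIdx q) := by
  have hA : ∀ x : RuVec, x ∈ Lp → ∃ y ∈ Lp, Tmap col x = (4 : GaussianInt) • y := by
    intro x hx
    induction hx using Submodule.span_induction with
    | mem x hx =>
      rcases hx with ⟨j, rfl⟩ | ⟨q, rfl⟩
      · refine ⟨W j, mem_of_cert (c j) (h2 j), ?_⟩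
        funext p
        rw [Tmap_apply, h1]
        rfl
      · exact ⟨col (pIdx q), mem_of_cert (d (pIdx q)) (h3 (pIdx q)), Tmap_e4 col q⟩
    | zero =>
      refine ⟨0, Submodule.zero_mem _, ?_⟩
      have := Tmap_smul col 0 0
      simpa using this
    | add x y _ _ hx hy =>
      obtain ⟨a, ha, ea⟩ := hx
      obtain ⟨b, hb, eb⟩ := hy
      exact ⟨a + b, Submodule.add_mem _ ha hb, by rw [Tmap_add, ea, eb, smul_add]⟩
    | smul r x _ hx =>
      obtain ⟨a, ha, ea⟩ := hx
      refine ⟨r • a, Submodule.smul_mem _ _ ha, ?_⟩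
      rw [Tmap_smul, ea, smul_comm]
  have hB : ∀ x : ruLattice, ∃ y : ruLattice, Tmap col (x : RuVec) = (4 : GaussianInt) • (y : RuVec) := by
    intro x
    obtain ⟨y, hy, e⟩ := hA _ (lattice_le x.2)
    exact ⟨⟨y, Lp_le hy⟩, e⟩
  choose F hF using hB
  refine ⟨F, ⟨?_, ?_, ?_⟩, ?_⟩
  · intro v w
    apply Subtype.ext
    apply four_smul_cancel
    rw [← hF]
    show Tmap col ((v : RuVec) + (w : RuVec)) = (4 : GaussianInt) • ((F v : RuVec) + (F w : RuVec))
    rw [Tmap_add, hF, hF, smul_add]
  · intro v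
    apply Subtype.ext
    apply four_smul_cancel
    rw [← hF]
    show Tmap col (gI • (v : RuVec)) = (4 : GaussianInt) • (gI • (F v : RuVec))
    rw [Tmap_smul, hF, smul_comm]
  · intro v
    have h5 := ruNorm_Tmap col h4 (v : RuVec)
    rw [hF, ruNorm_four] at h5
    omega
  · intro q
    apply four_smul_cancel
    rw [← hF]
    exact Tmap_e4 col q

theorem exists_map_a : ∃ F : ruLattice → ruLattice, IsoMap F ∧ ∀ q : RuIdx, ((F (e4L q) : ruLattice) : RuVec) = mucA (pIdx q) :=
  exists_map_of mucA muwA mudA mueA chkA_1 chkA_2 chkA_3 chkA_4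

theorem exists_map_b : ∃ F : ruLattice → ruLattice, IsoMap F ∧ ∀ q : RuIdx, ((F (e4L q) : ruLattice) : RuVec) = mucB (pIdx q) :=
  exists_map_of mucB muwB mudB mueB chkB_1 chkB_2 chkB_3 chkB_4

end Cfsg.Agent.Lib.RuAut
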