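import Mathlib
import Cfsg.Agent.Lib.RuAut.Chain
import Cfsg.Agent.Lib.RuAut.ChainE
import Cfsg.Agent.Lib.RuAut.ChainW
import Cfsg.Agent.Lib.RuAut.Mk

/-!
# The generators of the group
-/

set_option autoImplicit false
set_option maxRecDepth 100000

namespace Cfsg.Agent.Lib.RuAut

open Cfsg.Spor Cfsg.Agent.Lib.RuMin

/-- The powers of a list of codes. -/
noncomputable def powE (E : List ℕ) : ℕ → List ℕ :=
  fun n => Nat.rec idE (fun _ ih => mulE E ih) n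

theorem powE_succ (E : List ℕ) (n : ℕ) : powE E (n + 1) = mulE E (powE E n) := rfl

theorem IsoMap.id' : IsoMap id := ⟨fun _ _ => rfl, fun _ => rfl, fun _ => rfl⟩

theorem IsoMap.iter {F : ruLattice → ruLattice} (hF : IsoMap F) : ∀ n, IsoMap (F^[n]) := by
  intro n
  induction n with
  | zero => exact IsoMap.id'
  | succ n ih =>
    rw [Function.iterate_succ']
    exact hF.comp ih

theorem GenD.pow {F : ruLattice → ruLattice} (hF : IsoMap F) {E : List ℕ} (hE : GenD F E) : ∀ n, GenD (F^[n]) (powE E n) := by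
  intro n
  induction n with
  | zero => exact genD_id
  | succ n ih =>
    rw [Function.iterate_succ', powE_succ]
    exact GenD.comp hF (hF.iter n) hE ih

/-- A map of order dividing 29 is an element of the group. -/
theorem exists_el {F : ruLattice → ruLattice} (hF : IsoMap F) {E : List ℕ} (hE : GenD F E) (h29 : powE E 29 = idE) :
    ∃ f : fourRu, (∀ x, (f : Equiv.Perm ruLattice) x = F x) ∧ f ^ 29 = 1 := by
  have h1 : F^[29] = id := by
    have h2 := hE.pow hF 29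
    rw [h29] at h2
    exact GenD.ext (hF.iter 29) IsoMap.id' h2 genD_id
  let σ : Equiv.Perm ruLattice :=
    { toFun := F
      invFun := F^[28]
      left_inv := fun x => by
        have := congrFun h1 x
        rwa [Function.iterate_succ] at this
      right_inv := fun x => by
        have := congrFun h1 x
        rwa [Function.iterate_succ'] at this }
  let f : fourRu := ⟨σ, hF.add, hF.comm, hF.norm⟩
  refine ⟨f, fun _ => rfl, ?_⟩
  have hpow : ∀ n x, ((f ^ n : fourRu) : Equiv.Perm ruLattice) x = F^[n] x := by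
    intro n
    induction n with
    | zero => intro x; rfl
    | succ n ih =>
      intro x
      rw [pow_succ', Function.iterate_succ']
      show (f : Equiv.Perm ruLattice) (((f ^ n : fourRu) : Equiv.Perm ruLattice) x) = F (F^[n] x)
      rw [ih]
      rfl
  apply Subtype.ext
  apply Equiv.ext
  intro x
  rw [hpow, h1]
  rfl

theorem k_pow_a : powE eF0 29 = idE := by decide +kernel
theorem k_pow_b : powE eF1 29 = idE := by decide +kernel

theorem k_col_a : ∀ q : RuIdx, zOf (mucA (pIdx q)) = eF0.getD (2 * pos q) 0 ∧ zOf (gI • mucA (pIdx q)) = eF0.getD (2 * pos q + 1) 0 := by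
  decide +kernel

theorem k_col_b : ∀ q : RuIdx, zOf (mucB (pIdx q)) = eF1.getD (2 * pos q) 0 ∧ zOf (gI • mucB (pIdx q)) = eF1.getD (2 * pos q + 1) 0 := by
  decide +kernel

theorem k_len_0 : eF0.length = 56 := by decide +kernel
theorem k_len_1 : eF1.length = 56 := by decide +kernel
theorem k_len_2 : eF2.length = 56 := by decide +kernel

theorem k_iota : ∀ i, i < 56 → zOf (gI • frm i) = eF2.getD i 0 := by decide +kernel

theorem frmL_even (q : RuIdx) : frmL (2 * pos q) = e4L q := Subtype.ext (frm_even q)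

theorem frmL_odd (q : RuIdx) : frmL (2 * pos q + 1) = ruI (e4L q) := Subtype.ext (frm_odd q)

/-- The list of codes from the columns. -/
theorem genD_of_col {F : ruLattice → ruLattice} (hF : IsoMap F) {col : Fin 28 → RuVec} {E : List ℕ} (hlen : E.length = 56)
    (hc : ∀ q : RuIdx, ((F (e4L q) : ruLattice) : RuVec) = col (pIdx q))
    (hk : ∀ q : RuIdx, zOf (col (pIdx q)) = E.getD (2 * pos q) 0 ∧ zOf (gI • col (pIdx q)) = E.getD (2 * pos q + 1) 0) : GenD F E := by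
  refine ⟨hlen, fun i hi => ?_⟩
  by_cases h2 : i % 2 = 0
  · have e := pos_idxOf_even i hi h2
    rw [← e, frmL_even, hc]
    exact (hk _).1
  · have e := pos_idxOf_odd i hi (by omega)
    rw [← e, frmL_odd, hF.comm]
    have : ((ruI (F (e4L (idxOf i))) : ruLattice) : RuVec) = gI • col (pIdx (idxOf i)) := by
      show gI • ((F (e4L (idxOf i)) : ruLattice) : RuVec) = _
      rw [hc]
    rw [this]
    exact (hk _).2

theorem exists_ruA : ∃ f : fourRu, GenD (f : Equiv.Perm ruLattice) eF0 ∧ f ^ 29 = 1 := by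
  obtain ⟨F, hF, hc⟩ := exists_map_a
  have hE : GenD F eF0 := genD_of_col hF k_len_0 hc k_col_a
  obtain ⟨f, hf, h29⟩ := exists_el hF hE k_pow_a
  refine ⟨f, ?_, h29⟩
  have : ((f : Equiv.Perm ruLattice) : ruLattice → ruLattice) = F := funext hf
  rw [this]
  exact hE

theorem exists_ruB : ∃ f : fourRu, GenD (f : Equiv.Perm ruLattice) eF1 ∧ f ^ 29 = 1 := by
  obtain ⟨F, hF, hc⟩ := exists_map_b
  have hE : GenD F eF1 := genD_of_col hF k_len_1 hc k_col_b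
  obtain ⟨f, hf, h29⟩ := exists_el hF hE k_pow_b
  refine ⟨f, ?_, h29⟩
  have : ((f : Equiv.Perm ruLattice) : ruLattice → ruLattice) = F := funext hf
  rw [this]
  exact hE

/-- The element `a`. -/
noncomputable def ruA : fourRu := Classical.choose exists_ruA
/-- The element `b`. -/
noncomputable def ruB : fourRu := Classical.choose exists_ruB

theorem ruA_gen : GenD (ruA : Equiv.Perm ruLattice) eF0 := (Classical.choose_spec exists_ruA).1
theorem ruB_gen : GenD (ruB : Equiv.Perm ruLattice) eF1 := (Classical.choose_spec exists_ruB).1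
theorem ruA_pow : ruA ^ 29 = 1 := (Classical.choose_spec exists_ruA).2
theorem ruB_pow : ruB ^ 29 = 1 := (Classical.choose_spec exists_ruB).2

/-- The subgroup generated by `a`, `b` and the scalars. -/
noncomputable def ruC : Subgroup fourRu := Subgroup.closure {ruA, ruB, iota}

theorem iota_gen : GenD (iota : Equiv.Perm ruLattice) eF2 := ⟨k_len_2, fun i hi => k_iota i hi⟩

theorem ent_0 : Ent ruC eF0 := ⟨ruA, Subgroup.subset_closure (by simp), ruA_gen⟩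
theorem ent_1 : Ent ruC eF1 := ⟨ruB, Subgroup.subset_closure (by simp), ruB_gen⟩
theorem ent_2 : Ent ruC eF2 := ⟨iota, Subgroup.subset_closure (by simp), iota_gen⟩

theorem entB_0 : Ent ruC eB0 := inv_0 ▸ (ent_0.inv)

theorem entB_1 : Ent ruC eB1 := inv_1 ▸ (ent_1.inv)

theorem entB_2 : Ent ruC eB2 := inv_2 ▸ (ent_2.inv)

theorem ent_3 : Ent ruC eF3 := word_3 ▸ (Ent.mul entB_1 (Ent.mul entB_0 (Ent.mul entB_1 (Ent.mul entB_1 (Ent.mul entB_0 (Ent.mul entB_0 (Ent.mul entB_1 (Ent.mul entB_0 (Ent.mul entB_0 (Ent.mul entB_0 (Ent.mul entB_1 (Ent.mul entB_1 (Ent.mul entB_0 (Ent.mul entB_2 (Ent.mul entB_0 (Ent.mul ent_2 (Ent.mul ent_2 (Ent.mul ent_0 (Ent.mul ent_2 (Ent.mul ent_1 (Ent.mul entB_2 (Ent.mul ent_1 (Ent.mul entB_1 (Ent.mul ent_2 (Ent.mul ent_2 (Ent.mul entB_0 (Ent.mul entB_1 (Ent.mul entB_0 (Ent.mul ent_2 (Ent.mul ent_1 (Ent.mul ent_1 (Ent.mul entB_2 (Ent.mul ent_2 (Ent.mul entB_0 (ent_2)))))))))))))))))))))))))))))))))))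

theorem entB_3 : Ent ruC eB3 := inv_3 ▸ (ent_3.inv)

theorem ent_4 : Ent ruC eF4 := word_4 ▸ (Ent.mul entB_1 (Ent.mul entB_1 (Ent.mul entB_0 (Ent.mul entB_1 (Ent.mul entB_0 (Ent.mul entB_0 (Ent.mul entB_1 (Ent.mul entB_0 (Ent.mul entB_0 (Ent.mul entB_0 (Ent.mul entB_1 (Ent.mul entB_1 (Ent.mul entB_1 (Ent.mul ent_1 (Ent.mul entB_0 (Ent.mul ent_1 (Ent.mul ent_1 (Ent.mul entB_0 (Ent.mul entB_2 (Ent.mul ent_1 (Ent.mul entB_0 (Ent.mul entB_0 (Ent.mul entB_0 (Ent.mul ent_1 (Ent.mul entB_1 (Ent.mul entB_2 (Ent.mul ent_2 (Ent.mul ent_0 (Ent.mul entB_1 (Ent.mul ent_0 (Ent.mul ent_0 (Ent.mul ent_2 (Ent.mul ent_0 (ent_0))))))))))))))))))))))))))))))))))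

theorem entB_4 : Ent ruC eB4 := inv_4 ▸ (ent_4.inv)

theorem ent_30 : Ent ruC eF30 := word_30 ▸ (Ent.mul entB_3 (Ent.mul entB_4 (Ent.mul entB_3 (Ent.mul entB_4 (Ent.mul entB_3 (Ent.mul entB_3 (Ent.mul entB_3 (Ent.mul entB_3 (Ent.mul entB_4 (Ent.mul entB_3 (Ent.mul entB_4 (Ent.mul entB_3 (Ent.mul entB_4 (Ent.mul entB_4 (Ent.mul entB_4 (Ent.mul entB_4 (Ent.mul ent_4 (Ent.mul ent_4 (Ent.mul entB_4 (Ent.mul ent_3 (Ent.mul ent_3 (Ent.mul ent_4 (Ent.mul entB_4 (Ent.mul entB_3 (Ent.mul entB_4 (Ent.mul entB_3 (Ent.mul entB_4 (Ent.mul ent_3 (Ent.mul ent_4 (Ent.mul ent_4 (Ent.mul ent_4 (Ent.mul ent_3 (entB_4)))))))))))))))))))))))))))))))))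

theorem entB_30 : Ent ruC eB30 := inv_30 ▸ (ent_30.inv)

theorem ent_31 : Ent ruC eF31 := word_31 ▸ (Ent.mul entB_3 (Ent.mul entB_3 (Ent.mul entB_4 (Ent.mul entB_3 (Ent.mul entB_4 (Ent.mul entB_3 (Ent.mul entB_3 (Ent.mul entB_4 (Ent.mul entB_4 (Ent.mul entB_4 (Ent.mul entB_4 (Ent.mul ent_4 (Ent.mul ent_3 (Ent.mul ent_4 (Ent.mul ent_4 (Ent.mul entB_3 (Ent.mul ent_3 (Ent.mul ent_4 (Ent.mul entB_3 (Ent.mul entB_3 (Ent.mul entB_3 (Ent.mul entB_4 (Ent.mul ent_4 (Ent.mul ent_3 (Ent.mul ent_3 (Ent.mul entB_3 (Ent.mul ent_4 (Ent.mul entB_3 (Ent.mul entB_4 (Ent.mul ent_4 (Ent.mul ent_4 (Ent.mul ent_3 (Ent.mul entB_4 (Ent.mul entB_3 (Ent.mul ent_4 (Ent.mul entB_4 (entB_3)))))))))))))))))))))))))))))))))))))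

theorem entB_31 : Ent ruC eB31 := inv_31 ▸ (ent_31.inv)

theorem ent_32 : Ent ruC eF32 := word_32 ▸ (Ent.mul entB_3 (Ent.mul entB_3 (Ent.mul entB_3 (Ent.mul entB_4 (Ent.mul entB_3 (Ent.mul entB_4 (Ent.mul entB_3 (Ent.mul entB_3 (Ent.mul entB_3 (Ent.mul entB_3 (Ent.mul ent_4 (Ent.mul entB_3 (Ent.mul ent_4 (Ent.mul entB_4 (Ent.mul ent_3 (Ent.mul entB_3 (Ent.mul ent_4 (Ent.mul entB_3 (Ent.mul ent_3 (Ent.mul ent_3 (Ent.mul entB_4 (Ent.mul ent_4 (Ent.mul ent_3 (Ent.mul entB_3 (Ent.mul ent_3 (Ent.mul ent_3 (ent_3)))))))))))))))))))))))))))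

theorem entB_32 : Ent ruC eB32 := inv_32 ▸ (ent_32.inv)

theorem ent_58 : Ent ruC eF58 := word_58 ▸ (Ent.mul entB_30 (Ent.mul entB_31 (Ent.mul entB_30 (Ent.mul entB_30 (Ent.mul entB_31 (Ent.mul entB_31 (Ent.mul entB_30 (Ent.mul entB_30 (Ent.mul entB_31 (Ent.mul entB_31 (Ent.mul ent_30 (Ent.mul entB_30 (Ent.mul ent_30 (Ent.mul ent_32 (Ent.mul ent_31 (Ent.mul entB_32 (Ent.mul ent_31 (Ent.mul entB_31 (Ent.mul ent_30 (Ent.mul entB_32 (Ent.mul ent_31 (Ent.mul ent_30 (Ent.mul ent_30 (Ent.mul entB_30 (Ent.mul entB_30 (Ent.mul ent_31 (Ent.mul entB_30 (Ent.mul entB_32 (Ent.mul entB_32 (entB_31))))))))))))))))))))))))))))))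

theorem entB_58 : Ent ruC eB58 := inv_58 ▸ (ent_58.inv)

theorem ent_59 : Ent ruC eF59 := word_59 ▸ (Ent.mul entB_30 (Ent.mul entB_31 (Ent.mul entB_31 (Ent.mul entB_31 (Ent.mul entB_30 (Ent.mul entB_31 (Ent.mul entB_30 (Ent.mul entB_31 (Ent.mul entB_31 (Ent.mul ent_32 (Ent.mul entB_32 (Ent.mul ent_31 (Ent.mul ent_31 (Ent.mul entB_31 (Ent.mul ent_32 (Ent.mul entB_30 (Ent.mul ent_30 (Ent.mul ent_32 (Ent.mul entB_32 (Ent.mul ent_31 (Ent.mul entB_31 (Ent.mul entB_32 (Ent.mul ent_32 (Ent.mul ent_30 (ent_30)))))))))))))))))))))))))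

theorem entB_59 : Ent ruC eB59 := inv_59 ▸ (ent_59.inv)

theorem ent_61 : Ent ruC eF61 := word_61 ▸ (Ent.mul entB_31 (Ent.mul entB_30 (Ent.mul entB_30 (Ent.mul entB_31 (Ent.mul entB_30 (Ent.mul entB_31 (Ent.mul entB_30 (Ent.mul entB_30 (Ent.mul entB_31 (Ent.mul entB_30 (Ent.mul ent_30 (Ent.mul ent_30 (Ent.mul ent_32 (Ent.mul ent_30 (Ent.mul entB_32 (Ent.mul entB_30 (Ent.mul ent_32 (Ent.mul ent_31 (Ent.mul ent_30 (Ent.mul entB_32 (Ent.mul entB_30 (Ent.mul ent_30 (Ent.mul entB_30 (Ent.mul ent_32 (Ent.mul entB_30 (entB_32))))))))))))))))))))))))))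

theorem entB_61 : Ent ruC eB61 := inv_61 ▸ (ent_61.inv)

theorem ent_85 : Ent ruC eF85 := word_85 ▸ (Ent.mul entB_58 (Ent.mul ent_58 (Ent.mul ent_61 (Ent.mul entB_58 (Ent.mul entB_61 (Ent.mul ent_58 (Ent.mul ent_59 (Ent.mul ent_58 (Ent.mul entB_58 (Ent.mul entB_58 (Ent.mul ent_58 (Ent.mul ent_59 (Ent.mul entB_59 (Ent.mul entB_58 (Ent.mul ent_59 (Ent.mul ent_61 (Ent.mul entB_61 (Ent.mul entB_61 (Ent.mul ent_61 (Ent.mul entB_58 (Ent.mul ent_61 (Ent.mul ent_59 (Ent.mul ent_61 (Ent.mul ent_58 (Ent.mul entB_61 (Ent.mul ent_58 (ent_59)))))))))))))))))))))))))))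

theorem entB_85 : Ent ruC eB85 := inv_85 ▸ (ent_85.inv)

end Cfsg.Agent.Lib.RuAut
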