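import Mathlib
import Cfsg.Agent.Lib.RuAut.Compl
import Cfsg.Agent.Lib.RuAut.Pool
import Cfsg.Agent.Lib.RuAut.Assemble
import Cfsg.Agent.Lib.RuAut.LvL1
import Cfsg.Agent.Lib.RuAut.LvL2
import Cfsg.Agent.Lib.RuAut.LvLO
import Cfsg.Agent.Lib.RuAut.LvL3
import Cfsg.Agent.Lib.RuAut.LvL4
import Cfsg.Agent.Lib.RuAut.LvL5
import Cfsg.Agent.Lib.RuAut.LvS1
import Cfsg.Agent.Lib.RuAut.LvS2
import Cfsg.Agent.Lib.RuAut.LvS3
import Cfsg.Agent.Lib.RuAut.LvS4
import Cfsg.Agent.Lib.RuAut.LvS5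
import Cfsg.Agent.Lib.RuAut.LvS6
import Cfsg.Agent.Lib.RuAut.LvS7
import Cfsg.Agent.Lib.RuAut.LvS8
import Cfsg.Agent.Lib.RuAut.LvF

/-!
# The Rudvalis group: order, centre and simplicity
-/

set_option autoImplicit false
set_option maxRecDepth 100000

namespace Cfsg.Agent.Lib.RuAut

open Cfsg.Spor Cfsg.Agent.Lib.RuMin

theorem k_frame_v : frameZ 0 false = M 8120 := by decide +kernel

theorem k_pat : allLoop chkPat minChunks 0 = true := by decide +kernel

theorem ent_id : Ent ruC idE := ⟨1, ruC.one_mem, genD_id⟩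

theorem zL_v1 : zL (frmL 0) = M 8120 := by
  rw [zL_frmL (by norm_num)]
  exact k_frame_v

theorem v1_min : frmL 0 ∈ minSet := frmL_min (by norm_num)

theorem hG_L1 : ∀ E ∈ eF0 :: ([eF0, eF1] : List (List ℕ)), Ent ruC E := by
  intro E hE
  simp only [List.mem_cons, List.not_mem_nil, or_false] at hE
  rcases hE with rfl | rfl | rfl
  · exact ent_0
  · exact ent_0
  · exact ent_1

theorem lev1 : Lev ruC [] (frmL 0) 16240 :=
  lev_of_checks (vs := []) (K := 16384) (fun _ h => by simp at h) v1_min zL_v1 hG_L1 (fun _ _ _ h => by simp at h) kL1_wl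
    kL1_w (by rw [zL_v1]; exact kL1_tgt) kL1_pass kL1_tree k_pc kL1_cnt hM_all k_sorted

theorem real_of_bit {i : ℕ} (h : tb mL1 i = true) : RealC i := by
  have h1 := tree_good (C := ruC) (vs := []) (fun _ h => by simp at h) v1_min zL_v1 hG_L1 (fun _ _ _ h => by simp at h) sL1 i
  rw [kL1_tree] at h1
  obtain ⟨f, -, -, hf⟩ := h1 h
  exact ⟨_, mem_minSet_ap f v1_min, hf⟩

theorem k_v1_bit : tb mL1 8120 = true := by decide +kernel

theorem vecI_v1 : vecI 8120 = frmL 0 := by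
  have h := vecI_spec (real_of_bit k_v1_bit)
  apply zL_inj h.1 v1_min
  rw [h.2, zL_v1]

theorem kL2_bits : ∀ b ∈ 476 :: bL2, tb mL1 b = true := by decide +kernel

theorem hG_L2 : ∀ E ∈ eF3 :: ([eF3, eF4] : List (List ℕ)), Ent ruC E := by
  intro E hE
  simp only [List.mem_cons, List.not_mem_nil, or_false] at hE
  rcases hE with rfl | rfl | rfl
  · exact ent_3
  · exact ent_3
  · exact ent_4

theorem lev_L2 : Lev ruC (bL2.map vecI) (vecI 476) 2304 :=
  lev_from hM_all k_sorted k_pc (real_of_bit (kL2_bits _ (List.mem_cons_self ..))) (fun b hb => real_of_bit (kL2_bits b (List.mem_cons_of_mem _ hb))) hG_L2 kL2_wl kL2_w kL2_fix kL2_tgt kL2_tree kL2_pass kL2_cnt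

theorem vec_L2 : vecI 476 ∈ minSet := (vecI_spec (real_of_bit (kL2_bits _ (List.mem_cons_self ..)))).1

theorem kLO_bits : ∀ b ∈ 8117 :: bLO, tb mL1 b = true := by decide +kernel

theorem hG_LO : ∀ E ∈ eF3 :: ([eF3, eF4] : List (List ℕ)), Ent ruC E := by
  intro E hE
  simp only [List.mem_cons, List.not_mem_nil, or_false] at hE
  rcases hE with rfl | rfl | rfl
  · exact ent_3
  · exact ent_3
  · exact ent_4

theorem lev_LO : Lev ruC (bLO.map vecI) (vecI 8117) 7020 :=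
  lev_from hM_all k_sorted k_pc (real_of_bit (kLO_bits _ (List.mem_cons_self ..))) (fun b hb => real_of_bit (kLO_bits b (List.mem_cons_of_mem _ hb))) hG_LO kLO_wl kLO_w kLO_fix kLO_tgt kLO_tree kLO_pass kLO_cnt

theorem vec_LO : vecI 8117 ∈ minSet := (vecI_spec (real_of_bit (kLO_bits _ (List.mem_cons_self ..)))).1

theorem kL3_bits : ∀ b ∈ 2299 :: bL3, tb mL1 b = true := by decide +kernel

theorem hG_L3 : ∀ E ∈ eF30 :: ([eF30, eF31] : List (List ℕ)), Ent ruC E := by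
  intro E hE
  simp only [List.mem_cons, List.not_mem_nil, or_false] at hE
  rcases hE with rfl | rfl | rfl
  · exact ent_30
  · exact ent_30
  · exact ent_31

theorem lev_L3 : Lev ruC (bL3.map vecI) (vecI 2299) 975 :=
  lev_from hM_all k_sorted k_pc (real_of_bit (kL3_bits _ (List.mem_cons_self ..))) (fun b hb => real_of_bit (kL3_bits b (List.mem_cons_of_mem _ hb))) hG_L3 kL3_wl kL3_w kL3_fix kL3_tgt kL3_tree kL3_pass kL3_cnt

theorem vec_L3 : vecI 2299 ∈ minSet := (vecI_spec (real_of_bit (kL3_bits _ (List.mem_cons_self ..)))).1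

theorem kL4_bits : ∀ b ∈ 6676 :: bL4, tb mL1 b = true := by decide +kernel

theorem hG_L4 : ∀ E ∈ eF58 :: ([eF58, eF59] : List (List ℕ)), Ent ruC E := by
  intro E hE
  simp only [List.mem_cons, List.not_mem_nil, or_false] at hE
  rcases hE with rfl | rfl | rfl
  · exact ent_58
  · exact ent_58
  · exact ent_59

theorem lev_L4 : Lev ruC (bL4.map vecI) (vecI 6676) 8 :=
  lev_from hM_all k_sorted k_pc (real_of_bit (kL4_bits _ (List.mem_cons_self ..))) (fun b hb => real_of_bit (kL4_bits b (List.mem_cons_of_mem _ hb))) hG_L4 kL4_wl kL4_w kL4_fix kL4_tgt kL4_tree kL4_pass kL4_cnt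

theorem vec_L4 : vecI 6676 ∈ minSet := (vecI_spec (real_of_bit (kL4_bits _ (List.mem_cons_self ..)))).1

theorem kL5_bits : ∀ b ∈ 13905 :: bL5, tb mL1 b = true := by decide +kernel

theorem hG_L5 : ∀ E ∈ eF85 :: ([eF85] : List (List ℕ)), Ent ruC E := by
  intro E hE
  simp only [List.mem_cons, List.not_mem_nil, or_false] at hE
  rcases hE with rfl | rfl
  · exact ent_85
  · exact ent_85

theorem lev_L5 : Lev ruC (bL5.map vecI) (vecI 13905) 2 :=
  lev_from hM_all k_sorted k_pc (real_of_bit (kL5_bits _ (List.mem_cons_self ..))) (fun b hb => real_of_bit (kL5_bits b (List.mem_cons_of_mem _ hb))) hG_L5 kL5_wl kL5_w kL5_fix kL5_tgt kL5_tree kL5_pass kL5_cnt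

theorem vec_L5 : vecI 13905 ∈ minSet := (vecI_spec (real_of_bit (kL5_bits _ (List.mem_cons_self ..)))).1

theorem kS1_bits : ∀ b ∈ 15668 :: bS1, tb mL1 b = true := by decide +kernel

theorem hG_S1 : ∀ E ∈ idE :: ([] : List (List ℕ)), Ent ruC E := by
  intro E hE
  simp only [List.mem_cons, List.not_mem_nil, or_false] at hE
  subst hE
  exact ent_id

theorem lev_S1 : Lev ruC (bS1.map vecI) (vecI 15668) 1 :=
  lev_from hM_all k_sorted k_pc (real_of_bit (kS1_bits _ (List.mem_cons_self ..))) (fun b hb => real_of_bit (kS1_bits b (List.mem_cons_of_mem _ hb))) hG_S1 kS1_wl kS1_w kS1_fix kS1_tgt kS1_tree kS1_pass kS1_cnt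

theorem vec_S1 : vecI 15668 ∈ minSet := (vecI_spec (real_of_bit (kS1_bits _ (List.mem_cons_self ..)))).1

theorem kS2_bits : ∀ b ∈ 16159 :: bS2, tb mL1 b = true := by decide +kernel

theorem hG_S2 : ∀ E ∈ idE :: ([] : List (List ℕ)), Ent ruC E := by
  intro E hE
  simp only [List.mem_cons, List.not_mem_nil, or_false] at hE
  subst hE
  exact ent_id

theorem lev_S2 : Lev ruC (bS2.map vecI) (vecI 16159) 1 :=
  lev_from hM_all k_sorted k_pc (real_of_bit (kS2_bits _ (List.mem_cons_self ..))) (fun b hb => real_of_bit (kS2_bits b (List.mem_cons_of_mem _ hb))) hG_S2 kS2_wl kS2_w kS2_fix kS2_tgt kS2_tree kS2_pass kS2_cnt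

theorem vec_S2 : vecI 16159 ∈ minSet := (vecI_spec (real_of_bit (kS2_bits _ (List.mem_cons_self ..)))).1

theorem kS3_bits : ∀ b ∈ 9637 :: bS3, tb mL1 b = true := by decide +kernel

theorem hG_S3 : ∀ E ∈ idE :: ([] : List (List ℕ)), Ent ruC E := by
  intro E hE
  simp only [List.mem_cons, List.not_mem_nil, or_false] at hE
  subst hE
  exact ent_id

theorem lev_S3 : Lev ruC (bS3.map vecI) (vecI 9637) 1 :=
  lev_from hM_all k_sorted k_pc (real_of_bit (kS3_bits _ (List.mem_cons_self ..))) (fun b hb => real_of_bit (kS3_bits b (List.mem_cons_of_mem _ hb))) hG_S3 kS3_wl kS3_w kS3_fix kS3_tgt kS3_tree kS3_pass kS3_cnt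

theorem vec_S3 : vecI 9637 ∈ minSet := (vecI_spec (real_of_bit (kS3_bits _ (List.mem_cons_self ..)))).1

theorem kS4_bits : ∀ b ∈ 2388 :: bS4, tb mL1 b = true := by decide +kernel

theorem hG_S4 : ∀ E ∈ idE :: ([] : List (List ℕ)), Ent ruC E := by
  intro E hE
  simp only [List.mem_cons, List.not_mem_nil, or_false] at hE
  subst hE
  exact ent_id

theorem lev_S4 : Lev ruC (bS4.map vecI) (vecI 2388) 1 :=
  lev_from hM_all k_sorted k_pc (real_of_bit (kS4_bits _ (List.mem_cons_self ..))) (fun b hb => real_of_bit (kS4_bits b (List.mem_cons_of_mem _ hb))) hG_S4 kS4_wl kS4_w kS4_fix kS4_tgt kS4_tree kS4_pass kS4_cnt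

theorem vec_S4 : vecI 2388 ∈ minSet := (vecI_spec (real_of_bit (kS4_bits _ (List.mem_cons_self ..)))).1

theorem kS5_bits : ∀ b ∈ 8489 :: bS5, tb mL1 b = true := by decide +kernel

theorem hG_S5 : ∀ E ∈ idE :: ([] : List (List ℕ)), Ent ruC E := by
  intro E hE
  simp only [List.mem_cons, List.not_mem_nil, or_false] at hE
  subst hE
  exact ent_id

theorem lev_S5 : Lev ruC (bS5.map vecI) (vecI 8489) 1 :=
  lev_from hM_all k_sorted k_pc (real_of_bit (kS5_bits _ (List.mem_cons_self ..))) (fun b hb => real_of_bit (kS5_bits b (List.mem_cons_of_mem _ hb))) hG_S5 kS5_wl kS5_w kS5_fix kS5_tgt kS5_tree kS5_pass kS5_cnt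

theorem vec_S5 : vecI 8489 ∈ minSet := (vecI_spec (real_of_bit (kS5_bits _ (List.mem_cons_self ..)))).1

theorem kS6_bits : ∀ b ∈ 15646 :: bS6, tb mL1 b = true := by decide +kernel

theorem hG_S6 : ∀ E ∈ idE :: ([] : List (List ℕ)), Ent ruC E := by
  intro E hE
  simp only [List.mem_cons, List.not_mem_nil, or_false] at hE
  subst hE
  exact ent_id

theorem lev_S6 : Lev ruC (bS6.map vecI) (vecI 15646) 1 :=
  lev_from hM_all k_sorted k_pc (real_of_bit (kS6_bits _ (List.mem_cons_self ..))) (fun b hb => real_of_bit (kS6_bits b (List.mem_cons_of_mem _ hb))) hG_S6 kS6_wl kS6_w kS6_fix kS6_tgt kS6_tree kS6_pass kS6_cnt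

theorem vec_S6 : vecI 15646 ∈ minSet := (vecI_spec (real_of_bit (kS6_bits _ (List.mem_cons_self ..)))).1

theorem kS7_bits : ∀ b ∈ 14485 :: bS7, tb mL1 b = true := by decide +kernel

theorem hG_S7 : ∀ E ∈ idE :: ([] : List (List ℕ)), Ent ruC E := by
  intro E hE
  simp only [List.mem_cons, List.not_mem_nil, or_false] at hE
  subst hE
  exact ent_id

theorem lev_S7 : Lev ruC (bS7.map vecI) (vecI 14485) 1 :=
  lev_from hM_all k_sorted k_pc (real_of_bit (kS7_bits _ (List.mem_cons_self ..))) (fun b hb => real_of_bit (kS7_bits b (List.mem_cons_of_mem _ hb))) hG_S7 kS7_wl kS7_w kS7_fix kS7_tgt kS7_tree kS7_pass kS7_cnt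

theorem vec_S7 : vecI 14485 ∈ minSet := (vecI_spec (real_of_bit (kS7_bits _ (List.mem_cons_self ..)))).1

theorem kS8_bits : ∀ b ∈ 2994 :: bS8, tb mL1 b = true := by decide +kernel

theorem hG_S8 : ∀ E ∈ idE :: ([] : List (List ℕ)), Ent ruC E := by
  intro E hE
  simp only [List.mem_cons, List.not_mem_nil, or_false] at hE
  subst hE
  exact ent_id

theorem lev_S8 : Lev ruC (bS8.map vecI) (vecI 2994) 1 :=
  lev_from hM_all k_sorted k_pc (real_of_bit (kS8_bits _ (List.mem_cons_self ..))) (fun b hb => real_of_bit (kS8_bits b (List.mem_cons_of_mem _ hb))) hG_S8 kS8_wl kS8_w kS8_fix kS8_tgt kS8_tree kS8_pass kS8_cnt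

theorem vec_S8 : vecI 2994 ∈ minSet := (vecI_spec (real_of_bit (kS8_bits _ (List.mem_cons_self ..)))).1

theorem lev_L1' : Lev ruC (bL1.map vecI) (vecI 8120) 16240 := by
  rw [vecI_v1]
  exact lev1

theorem vec_L1 : vecI 8120 ∈ minSet := by
  rw [vecI_v1]
  exact v1_min

theorem link_L1 : Nat.card (Fixes (bL1.map vecI)) = 16240 * Nat.card (Fixes (bL2.map vecI)) ∧ (Fixes (bL2.map vecI) ≤ ruC → Fixes (bL1.map vecI) ≤ ruC) :=
  link (by rfl) lev_L1' vec_L1

theorem link_L2 : Nat.card (Fixes (bL2.map vecI)) = 2304 * Nat.card (Fixes (bL3.map vecI)) ∧ (Fixes (bL3.map vecI) ≤ ruC → Fixes (bL2.map vecI) ≤ ruC) :=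
  link (by rfl) lev_L2 vec_L2

theorem link_L3 : Nat.card (Fixes (bL3.map vecI)) = 975 * Nat.card (Fixes (bL4.map vecI)) ∧ (Fixes (bL4.map vecI) ≤ ruC → Fixes (bL3.map vecI) ≤ ruC) :=
  link (by rfl) lev_L3 vec_L3

theorem link_L4 : Nat.card (Fixes (bL4.map vecI)) = 8 * Nat.card (Fixes (bL5.map vecI)) ∧ (Fixes (bL5.map vecI) ≤ ruC → Fixes (bL4.map vecI) ≤ ruC) :=
  link (by rfl) lev_L4 vec_L4

theorem link_L5 : Nat.card (Fixes (bL5.map vecI)) = 2 * Nat.card (Fixes (bS1.map vecI)) ∧ (Fixes (bS1.map vecI) ≤ ruC → Fixes (bL5.map vecI) ≤ ruC) :=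
  link (by rfl) lev_L5 vec_L5

theorem link_S1 : Nat.card (Fixes (bS1.map vecI)) = 1 * Nat.card (Fixes (bS2.map vecI)) ∧ (Fixes (bS2.map vecI) ≤ ruC → Fixes (bS1.map vecI) ≤ ruC) :=
  link (by rfl) lev_S1 vec_S1

theorem link_S2 : Nat.card (Fixes (bS2.map vecI)) = 1 * Nat.card (Fixes (bS3.map vecI)) ∧ (Fixes (bS3.map vecI) ≤ ruC → Fixes (bS2.map vecI) ≤ ruC) :=
  link (by rfl) lev_S2 vec_S2

theorem link_S3 : Nat.card (Fixes (bS3.map vecI)) = 1 * Nat.card (Fixes (bS4.map vecI)) ∧ (Fixes (bS4.map vecI) ≤ ruC → Fixes (bS3.map vecI) ≤ ruC) :=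
  link (by rfl) lev_S3 vec_S3

theorem link_S4 : Nat.card (Fixes (bS4.map vecI)) = 1 * Nat.card (Fixes (bS5.map vecI)) ∧ (Fixes (bS5.map vecI) ≤ ruC → Fixes (bS4.map vecI) ≤ ruC) :=
  link (by rfl) lev_S4 vec_S4

theorem link_S5 : Nat.card (Fixes (bS5.map vecI)) = 1 * Nat.card (Fixes (bS6.map vecI)) ∧ (Fixes (bS6.map vecI) ≤ ruC → Fixes (bS5.map vecI) ≤ ruC) :=
  link (by rfl) lev_S5 vec_S5

theorem link_S6 : Nat.card (Fixes (bS6.map vecI)) = 1 * Nat.card (Fixes (bS7.map vecI)) ∧ (Fixes (bS7.map vecI) ≤ ruC → Fixes (bS6.map vecI) ≤ ruC) :=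
  link (by rfl) lev_S6 vec_S6

theorem link_S7 : Nat.card (Fixes (bS7.map vecI)) = 1 * Nat.card (Fixes (bS8.map vecI)) ∧ (Fixes (bS8.map vecI) ≤ ruC → Fixes (bS7.map vecI) ≤ ruC) :=
  link (by rfl) lev_S7 vec_S7

theorem link_S8 : Nat.card (Fixes (bS8.map vecI)) = 1 * Nat.card (Fixes (bF.map vecI)) ∧ (Fixes (bF.map vecI) ≤ ruC → Fixes (bS8.map vecI) ≤ ruC) :=
  link (by rfl) lev_S8 vec_S8

theorem kF_bits : ∀ b ∈ bF, tb mL1 b = true := by decide +kernel

theorem fixes_bot : Fixes (bF.map vecI) = ⊥ := by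
  have hr : ∀ b ∈ bF, RealC b := fun b hb => real_of_bit (kF_bits b hb)
  have hvs : ∀ u ∈ bF.map vecI, u ∈ minSet := by
    intro u hu
    obtain ⟨b, hb, rfl⟩ := List.mem_map.mp hu
    exact (vecI_spec (hr b hb)).1
  have hmap : (bF.map vecI).map zL = bF.map M := by
    rw [List.map_map]
    refine List.map_congr_left fun b hb' => ?_
    rw [Function.comp_apply]
    exact (vecI_spec (hr b hb')).2
  have hw' : ∀ i, i < 56 → (wF.getD i 0 : ℤ) = (pF : ℤ) + combI 16384 ((bF.map vecI).map zL) i := by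
    rw [hmap]
    exact kF_w
  rw [eq_bot_iff]
  intro f hf
  rw [Subgroup.mem_bot]
  apply eq_one_of_frames
  intro i hi
  refine fixed_of_pass hvs kF_wl hw' kF_pass hM_all hf (frmL_min hi) ?_
  rw [zL_frmL hi]
  exact kF_t i hi

theorem fixes_nil : Fixes [] = ⊤ := by
  rw [eq_top_iff]
  intro f _ v hv
  simp at hv

theorem hcard_main : Nat.card fourRu = 583704576000 := by
  have h0 : Nat.card (Fixes (bL1.map vecI)) = Nat.card fourRu := by
    have : bL1.map vecI = [] := rfl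
    rw [this, fixes_nil]
    exact Subgroup.card_top
  have hF : Nat.card (Fixes (bF.map vecI)) = 1 := by
    rw [fixes_bot]
    exact Subgroup.card_bot
  rw [← h0, link_L1.1, link_L2.1, link_L3.1, link_L4.1, link_L5.1, link_S1.1, link_S2.1, link_S3.1, link_S4.1, link_S5.1, link_S6.1, link_S7.1, link_S8.1, hF]

theorem hgen_main : Subgroup.closure {ruA, ruB, iota} = ⊤ := by
  have hF : Fixes (bF.map vecI) ≤ ruC := by
    rw [fixes_bot]
    exact bot_le
  have h_S8 := link_S8.2 hF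
  have h_S7 := link_S7.2 h_S8
  have h_S6 := link_S6.2 h_S7
  have h_S5 := link_S5.2 h_S6
  have h_S4 := link_S4.2 h_S5
  have h_S3 := link_S3.2 h_S4
  have h_S2 := link_S2.2 h_S3
  have h_S1 := link_S1.2 h_S2
  have h_L5 := link_L5.2 h_S1
  have h_L4 := link_L4.2 h_L5
  have h_L3 := link_L3.2 h_L4
  have h_L2 := link_L2.2 h_L3
  have h_L1 := link_L1.2 h_L2
  have : bL1.map vecI = [] := rfl
  rw [this, fixes_nil] at h_L1
  exact top_le_iff.mp h_L1

theorem hmin_main : minSet.ncard = 16240 := by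
  have h := lev1.card
  have e : {x : ruLattice | ∃ f ∈ Fixes [], ap f (frmL 0) = x} = minSet := by
    ext x
    constructor
    · rintro ⟨f, -, rfl⟩
      exact mem_minSet_ap f v1_min
    · intro hx
      obtain ⟨f, hf, -, hfx⟩ := lev1.reach x hx (fun _ h => by simp at h)
      exact ⟨f, hf, hfx⟩
  rw [e] at h
  exact h

theorem class_card {bI : List ℕ} (hb : bI.map vecI = [frmL 0]) {r n : ℕ} {α : GaussianInt} (hL : Lev ruC (bI.map vecI) (vecI r) n)
    (hr : vecI r ∈ minSet) (hα : hp (vecI r) (frmL 0) = α) :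
    {w ∈ minSet | hp w (frmL 0) = α}.ncard = n ∧
    ∀ w ∈ minSet, hp w (frmL 0) = α → ∀ w' ∈ minSet, hp w' (frmL 0) = α →
      ∃ f : fourRu, (f : Equiv.Perm ruLattice) (frmL 0) = frmL 0 ∧ (f : Equiv.Perm ruLattice) w = w' := by
  rw [hb] at hL
  have hreach : ∀ w ∈ minSet, hp w (frmL 0) = α → ∃ f ∈ Fixes [frmL 0], ap f (vecI r) = w := by
    intro w hw he
    obtain ⟨f, hf, -, hfx⟩ := hL.reach w hw (by
      intro u hu
      rw [List.mem_singleton] at hu
      subst hu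
      show hp w (frmL 0) = hp (vecI r) (frmL 0)
      rw [he, hα])
    exact ⟨f, hf, hfx⟩
  constructor
  · have e : {w ∈ minSet | hp w (frmL 0) = α} = {x : ruLattice | ∃ f ∈ Fixes [frmL 0], ap f (vecI r) = x} := by
      ext x
      constructor
      · rintro ⟨hx, he⟩
        exact hreach x hx he
      · rintro ⟨f, hf, rfl⟩
        refine ⟨mem_minSet_ap f hr, ?_⟩
        have : hp (ap f (vecI r)) (frmL 0) = hp (vecI r) (frmL 0) := herm_of_fixes hf (vecI r) (List.mem_singleton.mpr rfl)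
        rw [this, hα]
    rw [e]
    exact hL.card
  · intro w hw he w' hw' he'
    obtain ⟨f, hf, hfw⟩ := hreach w hw he
    obtain ⟨g, hg, hgw⟩ := hreach w' hw' he'
    refine ⟨g * f⁻¹, (Fixes [frmL 0]).mul_mem hg ((Fixes [frmL 0]).inv_mem hf) _ (List.mem_singleton.mpr rfl), ?_⟩
    rw [← hfw, ← hgw]
    show (g : Equiv.Perm ruLattice) ((f : Equiv.Perm ruLattice)⁻¹ ((f : Equiv.Perm ruLattice) (vecI r))) = (g : Equiv.Perm ruLattice) (vecI r)
    simp

theorem bL2_map : bL2.map vecI = [frmL 0] := by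
  show [vecI 8120] = _
  rw [vecI_v1]

theorem bLO_map : bLO.map vecI = [frmL 0] := by
  show [vecI 8120] = _
  rw [vecI_v1]

theorem k_dig_L2 : dg (M 476) 0 = 129 ∧ dg (M 476) 1 = 128 := by decide +kernel
theorem k_dig_LO : dg (M 8117) 0 = 128 ∧ dg (M 8117) 1 = 128 := by decide +kernel

theorem hp_L2 : hp (vecI 476) (frmL 0) = ⟨4, 0⟩ := by
  have h := vec_L2
  have hz : zOf ((vecI 476 : ruLattice) : RuVec) = M 476 := (vecI_spec (real_of_bit (kL2_bits _ (List.mem_cons_self ..)))).2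
  rw [hp_frm0, fld_of_dg (small_L h) (by norm_num), fld_of_dg (small_L h) (by norm_num), hz, k_dig_L2.1, k_dig_L2.2]
  rfl

theorem hp_LO : hp (vecI 8117) (frmL 0) = 0 := by
  have h := vec_LO
  have hz : zOf ((vecI 8117 : ruLattice) : RuVec) = M 8117 := (vecI_spec (real_of_bit (kLO_bits _ (List.mem_cons_self ..)))).2
  rw [hp_frm0, fld_of_dg (small_L h) (by norm_num), fld_of_dg (small_L h) (by norm_num), hz, k_dig_LO.1, k_dig_LO.2]
  rfl

/-- The witnesses. -/
def witL : List ℕ := [49, 49, 5, 5, 5, 49, 49, 385, 77, 5, 5, 5, 77, 5, 107, 53, 5, 5, 53, 145, 5, 77, 5, 77, 49, 341, 2308]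

theorem k_wit : ∀ i, i < 56 → i % 2 = 0 → i ≠ 0 → tb mL1 (witL.getD (i / 2 - 1) 0) = true ∧ dg (M (witL.getD (i / 2 - 1) 0)) 0 ≠ 128 ∧
    dg (M (witL.getD (i / 2 - 1) 0)) i ≠ 128 := by decide +kernel

theorem hwit_main (i : ℕ) (hi : i < 56) (h2 : i % 2 = 0) (h0 : i ≠ 0) : ∃ x ∈ minSet, fld (x : RuVec) 0 ≠ 0 ∧ fld (x : RuVec) i ≠ 0 := by
  obtain ⟨h1, h3, h4⟩ := k_wit i hi h2 h0
  have hs := vecI_spec (real_of_bit h1)
  have hz : zOf ((vecI (witL.getD (i / 2 - 1) 0) : ruLattice) : RuVec) = M (witL.getD (i / 2 - 1) 0) := hs.2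
  refine ⟨_, hs.1, ?_, ?_⟩
  · rw [fld_of_dg (small_L hs.1) (by norm_num), hz]
    omega
  · rw [fld_of_dg (small_L hs.1) hi, hz]
    omega

/-- The main theorem. -/
theorem ru_main : Nat.card ↥(Subgroup.center ↥fourRu) = 4 ∧ Nat.card Ru = 145926144000 ∧ IsSimpleGroup Ru := by
  obtain ⟨h0, htr0⟩ := class_card bLO_map lev_LO vec_LO hp_LO
  obtain ⟨h1, htr1⟩ := class_card bL2_map lev_L2 vec_L2 hp_L2
  refine ru_final hcard_main hmin_main (frmL 0) v1_min ⟨4, 0⟩ ?_ ?_ h0 h1 htr0 htr1 ?_ ruA ruB ruA_pow ruB_pow hgen_main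
  · intro w hw
    obtain ⟨f, -, -, hf⟩ := lev1.reach w hw (fun _ h => by simp at h)
    exact ⟨f, hf⟩
  · intro w hw
    exact class_main k_pat hM_all hw
  · exact kernel_main hwit_main

end Cfsg.Agent.Lib.RuAut
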