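import Mathlib
import Cfsg.Agent.Lib.RuAut.MainRu
import Cfsg.Agent.Lib.RuAut.Bridge
import Cfsg.Agent.Lib.RuAut.BridgeData
import Cfsg.Agent.Lib.Compute.Ru.Main

/-!
# The Rudvalis group and its permutation model of degree 4060

The lines of the vectors of stored norm 16 are labelled by the points of the permutation model, and the generators of the
lattice group act as elements of the permutation group.
-/

set_option autoImplicit false
set_option maxRecDepth 100000

namespace Cfsg.Agent.Lib.RuAut.BridgeP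

open Cfsg.Spor Cfsg.Agent.Lib.RuMin Cfsg.Agent.Lib.RuAut
open Cfsg.Agent.Lib.Compute.PermCert
open Cfsg.Agent.Lib.RuAut.BridgeData

/-- The label of the line of the vector with a given index. -/
noncomputable def LL (i : ℕ) : ℕ := get 16 65535 tL i
/-- The index of `i` times the vector with a given index. -/
noncomputable def NX (i : ℕ) : ℕ := get 16 65535 tN i
/-- The index of the representative of a line. -/
noncomputable def RP (j : ℕ) : ℕ := get 16 65535 tR j
/-- The index of the image of a representative under the first generator. -/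
noncomputable def KA (j : ℕ) : ℕ := get 16 65535 tA j
/-- The index of the image of a representative under the second generator. -/
noncomputable def KB (j : ℕ) : ℕ := get 16 65535 tB j

/-- A test on all indices below a bound. -/
noncomputable def allLt (chk : ℕ → Bool) (n : ℕ) : Bool :=
  Nat.rec true (fun i ih => Bool.and (chk i) ih) n

theorem allLt_spec {chk : ℕ → Bool} : ∀ n, allLt chk n = true → ∀ i, i < n → chk i = true := by
  intro n
  induction n with
  | zero => intro _ i hi; omega
  | succ n ih =>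
    intro h i hi
    have h' : Bool.and (chk n) (allLt chk n) = true := h
    rw [Bool.and_eq_true] at h'
    rcases Nat.lt_succ_iff_lt_or_eq.mp hi with hi | rfl
    · exact ih h'.2 i hi
    · exact h'.1

/-- The test on the scalar. -/
noncomputable def c1 (i : ℕ) : Bool :=
  Bool.and (tb mL1 i) (Bool.and (Nat.beq (applyZ eF2 (M i)) (M (NX i)))
    (Bool.and (Nat.blt (NX i) 16240) (Bool.and (Nat.beq (LL (NX i)) (LL i)) (Nat.blt (LL i) 4060))))

/-- The test on the representatives. -/
noncomputable def c2 (j : ℕ) : Bool := Bool.and (Nat.beq (LL (RP j)) j) (Nat.blt (RP j) 16240)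

/-- Each vector is a scalar multiple of its representative. -/
noncomputable def c3 (i : ℕ) : Bool :=
  Bool.or (Nat.beq i (RP (LL i))) (Bool.or (Nat.beq i (NX (RP (LL i))))
    (Bool.or (Nat.beq i (NX (NX (RP (LL i))))) (Nat.beq i (NX (NX (NX (RP (LL i))))))))

/-- The test on a generator. -/
noncomputable def c4 (E : List ℕ) (KK : ℕ → ℕ) (e j : ℕ) : Bool :=
  Bool.and (Nat.beq (applyZ E (M (RP j))) (M (KK j)))
    (Bool.and (Nat.blt (KK j) 16240) (Nat.beq (LL (KK j)) (get 12 4095 e j)))

/-- A test on the indices of a range. -/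
noncomputable def allFrom (chk : ℕ → Bool) (b n : ℕ) : Bool :=
  Nat.rec true (fun i ih => Bool.and (chk (Nat.add b i)) ih) n

theorem allFrom_spec {chk : ℕ → Bool} (b : ℕ) : ∀ n, allFrom chk b n = true → ∀ i, b ≤ i → i < b + n → chk i = true := by
  intro n
  induction n with
  | zero => intro _ i h1 h2; omega
  | succ n ih =>
    intro h i h1 h2
    have h' : Bool.and (chk (Nat.add b n)) (allFrom chk b n) = true := h
    rw [Bool.and_eq_true] at h'
    by_cases h3 : i < b + n
    · exact ih h'.2 i h1 h3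
    · have e : i = b + n := by omega
      rw [e]
      exact h'.1

theorem k1_0 : allFrom c1 0 2000 = true := by decide +kernel
theorem k1_1 : allFrom c1 2000 2000 = true := by decide +kernel
theorem k1_2 : allFrom c1 4000 2000 = true := by decide +kernel
theorem k1_3 : allFrom c1 6000 2000 = true := by decide +kernel
theorem k1_4 : allFrom c1 8000 2000 = true := by decide +kernel
theorem k1_5 : allFrom c1 10000 2000 = true := by decide +kernel
theorem k1_6 : allFrom c1 12000 2000 = true := by decide +kernel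
theorem k1_7 : allFrom c1 14000 2000 = true := by decide +kernel
theorem k1_8 : allFrom c1 16000 240 = true := by decide +kernel
theorem k1 {i : ℕ} (hi : i < 16240) : c1 i = true := by
  by_cases h0 : i < 2000
  · exact allFrom_spec _ _ k1_0 i (by omega) (by omega)
  by_cases h1 : i < 4000
  · exact allFrom_spec _ _ k1_1 i (by omega) (by omega)
  by_cases h2 : i < 6000
  · exact allFrom_spec _ _ k1_2 i (by omega) (by omega)
  by_cases h3 : i < 8000
  · exact allFrom_spec _ _ k1_3 i (by omega) (by omega)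
  by_cases h4 : i < 10000
  · exact allFrom_spec _ _ k1_4 i (by omega) (by omega)
  by_cases h5 : i < 12000
  · exact allFrom_spec _ _ k1_5 i (by omega) (by omega)
  by_cases h6 : i < 14000
  · exact allFrom_spec _ _ k1_6 i (by omega) (by omega)
  by_cases h7 : i < 16000
  · exact allFrom_spec _ _ k1_7 i (by omega) (by omega)
  by_cases h8 : i < 16240
  · exact allFrom_spec _ _ k1_8 i (by omega) (by omega)
  omega
theorem k2 : allLt c2 4060 = true := by decide +kernel
theorem k3 : allLt c3 16240 = true := by decide +kernel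
theorem k4 : allLt (c4 eF0 KA aE.f) 4060 = true := by decide +kernel
theorem k5 : allLt (c4 eF1 KB bE.f) 4060 = true := by decide +kernel
theorem vA : validB 12 4095 4060 aE = true := by decide +kernel
theorem vB : validB 12 4095 4060 bE = true := by decide +kernel
theorem wA : wordCheck 12 4095 4060 Cfsg.Agent.Lib.Compute.Ru.Defs.gensP [0,0,0,0,0,0,0,2,0,2,1,3,1,2,1,1,1,1,1,3,3,0,0,0] aE = true := by decide +kernel
theorem wB : wordCheck 12 4095 4060 Cfsg.Agent.Lib.Compute.Ru.Defs.gensP [1,2,2,1,2,1,1,2,0,0,3,1,2,2,1,1,3,3,0,0,3,1,1,1] bE = true := by decide +kernel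

theorem c1_spec {i : ℕ} (hi : i < 16240) : tb mL1 i = true ∧ applyZ eF2 (M i) = M (NX i) ∧ NX i < 16240 ∧
    LL (NX i) = LL i ∧ LL i < 4060 := by
  have h := k1 hi
  simpa only [c1, Bool.and_eq_true, Nat.beq_eq, Nat.blt_eq] using h

theorem c2_spec {j : ℕ} (hj : j < 4060) : LL (RP j) = j ∧ RP j < 16240 := by
  have h := allLt_spec _ k2 j hj
  simpa only [c2, Bool.and_eq_true, Nat.beq_eq, Nat.blt_eq] using h

theorem real_i {i : ℕ} (hi : i < 16240) : RealC i := real_of_bit (c1_spec hi).1
theorem vmin {i : ℕ} (hi : i < 16240) : vecI i ∈ minSet := (vecI_spec (real_i hi)).1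
theorem vz {i : ℕ} (hi : i < 16240) : zL (vecI i) = M i := (vecI_spec (real_i hi)).2

theorem vec_of_min {x : ruLattice} (hx : x ∈ minSet) : ∃ m, m < 16240 ∧ x = vecI m := by
  obtain ⟨i, hi, hz⟩ := hM_all x hx
  have hi' : i < 16240 := hi
  exact ⟨i, hi', zL_inj hx (vmin hi') (hz.trans (vz hi').symm)⟩

theorem vec_inj {i j : ℕ} (hi : i < 16240) (hj : j < 16240) (h : vecI i = vecI j) : i = j := by
  have hM : M i = M j := by rw [← vz hi, ← vz hj, h]
  exact M_injOn k_sorted (Finset.mem_coe.2 (Finset.mem_range.2 hi)) (Finset.mem_coe.2 (Finset.mem_range.2 hj)) hM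

theorem ap_iota_vec {i : ℕ} (hi : i < 16240) : ap iota (vecI i) = vecI (NX i) := by
  obtain ⟨-, h2, h3, -, -⟩ := c1_spec hi
  apply zL_inj (mem_minSet_ap _ (vmin hi)) (vmin h3)
  rw [apply_L iota_gen (vmin hi), vz hi, vz h3, h2]

theorem iter_vec : ∀ (k r : ℕ), r < 16240 →
    NX^[k] r < 16240 ∧ LL (NX^[k] r) = LL r ∧ ap (iota ^ k) (vecI r) = vecI (NX^[k] r) := by
  intro k
  induction k with
  | zero =>
    intro r hr
    refine ⟨hr, rfl, ?_⟩
    rw [pow_zero]
    rfl
  | succ k ih =>
    intro r hr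
    obtain ⟨h1, h2, h3⟩ := ih r hr
    rw [Function.iterate_succ_apply']
    obtain ⟨-, -, h4, h5, -⟩ := c1_spec h1
    refine ⟨h4, h5.trans h2, ?_⟩
    rw [pow_succ', ap_mul, h3, ap_iota_vec h1]

/-- The representative of a line, as a vector. -/
noncomputable def labV (j : Fin 4060) : ruLattice := vecI (RP j)

theorem mem_scal {c : fourRu} (hc : c ∈ scal) : ∃ k : ℕ, c = iota ^ k := by
  have hf : IsOfFinOrder iota := isOfFinOrder_iff_pow_eq_one.2 ⟨4, by norm_num, iota_four⟩
  obtain ⟨k, hk⟩ := hf.mem_powers_iff_mem_zpowers.2 hc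
  exact ⟨k, hk.symm⟩

theorem cover {i : ℕ} (hi : i < 16240) : ∃ (h : LL i < 4060) (k : ℕ), vecI i = ap (iota ^ k) (labV ⟨LL i, h⟩) := by
  have hL := (c1_spec hi).2.2.2.2
  have hc := allLt_spec _ k3 i hi
  have hr := (c2_spec hL).2
  refine ⟨hL, ?_⟩
  have key : ∃ k, i = NX^[k] (RP (LL i)) := by
    simp only [c3, Bool.or_eq_true, Nat.beq_eq] at hc
    rcases hc with h | h | h | h
    · exact ⟨0, h⟩
    · exact ⟨1, h⟩
    · exact ⟨2, h⟩
    · exact ⟨3, h⟩
  obtain ⟨k, hk⟩ := key
  refine ⟨k, ?_⟩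
  show vecI i = ap (iota ^ k) (vecI (RP (LL i)))
  rw [(iter_vec k _ hr).2.2, ← hk]

theorem huniq : ∀ i j : Fin 4060, ∀ c ∈ scal, ap c (labV i) = labV j → i = j := by
  intro i j c hc h
  obtain ⟨k, rfl⟩ := mem_scal hc
  have hi := c2_spec i.2
  have hj := c2_spec j.2
  obtain ⟨h1, h2, h3⟩ := iter_vec k (RP i) hi.2
  have h4 : vecI (NX^[k] (RP i)) = vecI (RP j) := by
    rw [← h3]
    exact h
  have h5 := vec_inj h1 hj.2 h4
  apply Fin.ext
  calc (i : ℕ) = LL (RP i) := hi.1.symm
    _ = LL (NX^[k] (RP i)) := h2.symm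
    _ = LL (RP j) := by rw [h5]
    _ = j := hj.1

theorem hcover : ∀ (f : fourRu) (i : Fin 4060), ∃ j, Maps labV f i j := by
  intro f i
  have hi := c2_spec i.2
  obtain ⟨m, hm, e⟩ := vec_of_min (mem_minSet_ap f (vmin hi.2))
  obtain ⟨h, k, e2⟩ := cover hm
  exact ⟨⟨LL m, h⟩, iota ^ k, pow_mem (Subgroup.mem_zpowers _) k, e.trans e2⟩

theorem maps_of {f : fourRu} {E : List ℕ} (hE : GenD (f : Equiv.Perm ruLattice) E) {KK : ℕ → ℕ} {e : Elt}
    (hv : validB 12 4095 4060 e = true) (hk : allLt (c4 E KK e.f) 4060 = true) (i : Fin 4060) :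
    Maps labV f i (permOf 12 4095 4060 e i) := by
  have hi := c2_spec i.2
  have h := allLt_spec _ hk i i.2
  simp only [c4, Bool.and_eq_true, Nat.beq_eq, Nat.blt_eq] at h
  obtain ⟨h1, h2, h3⟩ := h
  have e1 : ap f (labV i) = vecI (KK i) := by
    apply zL_inj (mem_minSet_ap f (vmin hi.2)) (vmin h2)
    show zL (ap f (vecI (RP i))) = _
    rw [apply_L hE (vmin hi.2), vz hi.2, vz h2, h1]
  obtain ⟨h', k, e2⟩ := cover h2
  refine ⟨iota ^ k, pow_mem (Subgroup.mem_zpowers _) k, ?_⟩
  have e3 : (⟨LL (KK i), h'⟩ : Fin 4060) = permOf 12 4095 4060 e i :=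
    Fin.ext (by rw [permOf_apply hv]; exact h3)
  rw [e1, e2, e3]

theorem hker : ∀ f : fourRu, (∀ i, Maps labV f i i) → f ∈ Subgroup.center fourRu := by
  intro f hf
  obtain ⟨K, hK⟩ := kernel_main hwit_main f (fun w hw => by
    obtain ⟨m, hm, rfl⟩ := vec_of_min hw
    obtain ⟨h, k, e2⟩ := cover hm
    obtain ⟨c, hc, e3⟩ := hf ⟨LL m, h⟩
    obtain ⟨l, rfl⟩ := mem_scal hc
    refine ⟨l, ?_⟩
    show ap f (vecI m) = ap (iota ^ l) (vecI m)
    rw [e2, ap_comm_pow f k, e3, ap_comm_pow (iota ^ l) k])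
  rw [hK]
  exact Subgroup.pow_mem _ (Subgroup.mem_center_iff.2 (fun g => iota_comm g)) K

theorem hcent : Subgroup.center fourRu ≤ scal := by
  have hle : scal ≤ Subgroup.center fourRu :=
    (Subgroup.zpowers_le).2 (Subgroup.mem_center_iff.2 fun g => iota_comm g)
  have hc : Nat.card (Subgroup.center fourRu) = 4 := ru_main.1
  have h2 : iota ^ 2 ≠ 1 := by
    rcases iota_sq_ne with h2 | h2
    · exact h2
    · exact (h2 _ v1_min).elim
  have ho : orderOf iota = 4 := by
    have := orderOf_eq_prime_pow (p := 2) (n := 1) (x := iota) (by simpa using h2) (by simpa using iota_four)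
    simpa using this
  have hs : Nat.card scal = 4 := by rw [Nat.card_zpowers, ho]
  haveI : Finite (Subgroup.center fourRu) := Nat.finite_of_card_ne_zero (by rw [hc]; norm_num)
  exact (Subgroup.eq_of_le_of_card_ge hle (by rw [hc, hs])).ge

/-- The Rudvalis group is isomorphic to its permutation model of degree 4060. -/
theorem iso_P : Nonempty (Ru ≃* Cfsg.Agent.Lib.Compute.Ru.Defs.P) :=
  exists_iso_of_lines huniq hcover _ ruA ruB (permOf 12 4095 4060 aE) (permOf 12 4095 4060 bE)
    (maps_of ruA_gen vA k4) (maps_of ruB_gen vB k5)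
    (wordCheck_mem Cfsg.Agent.Lib.Compute.Ru.Check1.valid_P vA wA)
    (wordCheck_mem Cfsg.Agent.Lib.Compute.Ru.Check1.valid_P vB wB)
    hgen_main hker hcent (ru_main.2.1.trans Cfsg.Agent.Lib.Compute.Ru.Main.card_P.symm)

end Cfsg.Agent.Lib.RuAut.BridgeP
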